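import Mathlib
import Groth.Agent.Lib.Helper49.QCohLocal
import Groth.Agent.Lib.Helper49.FreeMod
import Groth.Agent.Lib.Helper49.FiniteTypeLocal
import Groth.Agent.Lib.Helper45.RefHullBasic

/-! A finite type submodule of a quasi-coherent module is quasi-coherent. -/

set_option autoImplicit false
universe u
open CategoryTheory CategoryTheory.Limits AlgebraicGeometry TopologicalSpace

namespace Groth.Agent.Lib.Helper80.SubQCoh

open Groth.Agent.Lib.Helper49

variable {X : Scheme.{u}}

/-- If `π : P ↠ F` is epi, `m : F ↪ A` mono with `P`, `A` quasi-coherent, then `F` is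
quasi-coherent (it is the image of `π ≫ m`). -/
theorem isQuasicoherent_of_epi_mono {P F A : X.Modules} (π : P ⟶ F) (m : F ⟶ A) [Epi π] [Mono m]
    (hP : P.IsQuasicoherent) (hA : A.IsQuasicoherent) : F.IsQuasicoherent := by
  have hc : (cokernel (π ≫ m)).IsQuasicoherent := isQuasicoherent_cokernel _ hP hA
  have hk : (kernel (cokernel.π (π ≫ m))).IsQuasicoherent := isQuasicoherent_kernel _ hA hc
  have : StrongEpi π := strongEpi_of_epi π
  have e1 : F ≅ Limits.image (π ≫ m) := image.isoStrongEpiMono π m rfl
  have e2 : Abelian.image (π ≫ m) ≅ Limits.image (π ≫ m) := Abelian.imageIsoImage _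
  exact isQuasicoherent_of_iso (e2 ≪≫ e1.symm) hk

/-- A finite type submodule of a quasi-coherent module is quasi-coherent. -/
theorem isQuasicoherent_of_mono_of_isFiniteType {F A : X.Modules} (ι : F ⟶ A) [Mono ι]
    (hA : A.IsQuasicoherent) (hF : SheafOfModules.IsFiniteType (R := X.ringCatSheaf) F) :
    F.IsQuasicoherent := by
  obtain ⟨I, U, hU, hG⟩ := exists_cover_of_isFiniteType F hF
  refine isQuasicoherent_of_forall_restrict F (fun i => (U i : Scheme.{u})) (fun i => (U i).ι)
    (fun x => ?_) fun i => ?_
  · obtain ⟨i, hi⟩ := hU.exists_mem x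
    exact ⟨i, by rw [Scheme.Opens.range_ι]; exact hi⟩
  · obtain ⟨G, hGfin⟩ := hG i
    obtain ⟨n, π, hπ⟩ := Groth.Agent.Lib.Helper45.RefHullBasic.exists_epi_freeMod_of_generatingSections G
    have hm : Mono ((Scheme.Modules.restrictFunctor (U i).ι).map ι) := inferInstance
    have hAi : ((Scheme.Modules.restrictFunctor (U i).ι).obj A).IsQuasicoherent :=
      Scheme.Modules.isQuasicoherent_restrictFunctor _ _
    exact isQuasicoherent_of_epi_mono π ((Scheme.Modules.restrictFunctor (U i).ι).map ι)
      inferInstance hAi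

end Groth.Agent.Lib.Helper80.SubQCoh
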