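import Mathlib
import Groth.Agent.Lib.Helper29.DepthQuot

/-!
# Depth of an abstract localization at a prime (helper80)

`depth_eq_depth_localizedModule`: for `B` a localization of the Noetherian ring `A` at the prime `p` and
`f : M → N` a localization of the finite `A`-module `M` at `p` (with `N` a `B`-module), the depth of
`N` over `B` is the depth of `LocalizedModule p.primeCompl M` over `Localization.AtPrime p`.
-/

set_option autoImplicit false
universe u

open IsLocalRing

namespace Groth.Agent.Lib.Helper80

theorem depth_eq_depth_localizedModule {A : Type u} [CommRing A] [IsNoetherianRing A] (p : Ideal A)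
    [p.IsPrime] (B : Type u) [CommRing B] [IsLocalRing B] [Algebra A B] [IsLocalization.AtPrime B p]
    {M N : Type u} [AddCommGroup M] [Module A M] [Module.Finite A M] [AddCommGroup N] [Module A N]
    [Module B N] [IsScalarTower A B N] (f : M →ₗ[A] N) [IsLocalizedModule p.primeCompl f] :
    LocCoh.depth B N =
      LocCoh.depth (Localization.AtPrime p) (LocalizedModule p.primeCompl M) := by
  let Ap := Localization.AtPrime p
  let e : Ap ≃ₐ[A] B := IsLocalization.algEquiv p.primeCompl Ap B
  letI algApB : Algebra Ap B := e.toRingEquiv.toRingHom.toAlgebra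
  haveI : IsScalarTower A Ap B := IsScalarTower.of_algebraMap_eq (fun a => (e.commutes a).symm)
  letI modApN : Module Ap N := Module.compHom N (algebraMap Ap B)
  haveI : IsScalarTower Ap B N := ⟨fun r b n => by
    change (algebraMap Ap B r * b) • n = algebraMap Ap B r • b • n
    rw [mul_smul]⟩
  haveI : IsScalarTower A Ap N := ⟨fun a r n => by
    change algebraMap Ap B (a • r) • n = a • algebraMap Ap B r • n
    rw [Algebra.smul_def, map_mul, ← IsScalarTower.algebraMap_apply A Ap B, mul_smul,
      algebraMap_smul]⟩
  have hsurj : Function.Surjective (algebraMap Ap B) := e.surjective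
  haveI : Module.Finite Ap B := Module.Finite.of_surjective (Algebra.linearMap Ap B) hsurj
  haveI : IsNoetherianRing Ap := IsLocalization.isNoetherianRing p.primeCompl Ap inferInstance
  haveI : Module.Finite B N := by
    have h1 : Module.Finite Ap (LocalizedModule p.primeCompl M) :=
      Module.Finite.of_isLocalizedModule p.primeCompl (LocalizedModule.mkLinearMap p.primeCompl M)
    let g : LocalizedModule p.primeCompl M ≃ₗ[A] N := IsLocalizedModule.iso p.primeCompl f
    let g' : LocalizedModule p.primeCompl M ≃ₗ[Ap] N :=
      g.extendScalarsOfIsLocalization p.primeCompl Ap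
    have h2 : Module.Finite Ap N := Module.Finite.equiv g'
    exact Module.Finite.of_restrictScalars_finite Ap B N
  let g : LocalizedModule p.primeCompl M ≃ₗ[A] N := IsLocalizedModule.iso p.primeCompl f
  let g' : LocalizedModule p.primeCompl M ≃ₗ[Ap] N :=
    g.extendScalarsOfIsLocalization p.primeCompl Ap
  unfold LocCoh.depth
  rw [Groth.Agent.Lib.Helper29.idealDepth_congr (maximalIdeal Ap) g',
    Groth.Agent.Lib.Helper29.idealDepth_map_eq (A := Ap) (B := B) (maximalIdeal Ap) N,
    IsLocalRing.map_maximalIdeal_of_surjective _ hsurj]

end Groth.Agent.Lib.Helper80
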