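import Mathlib
import Groth.Prelude.Def_CAlg
import Groth.Agent.Lib.Helper29.DepthLoc2

/-!
# Regular pairs on a module (helper80)
-/

set_option autoImplicit false
universe u v

open RingTheory.Sequence

namespace Groth.Agent.Lib.Helper80

variable {R : Type u} [CommRing R] (N : Type v) [AddCommGroup N] [Module R N]

/-- `b` is a non-zero-divisor on `N / a N`. -/
def RegModM (a b : R) : Prop := ∀ n : N, (∃ n' : N, b • n = a • n') → ∃ c : N, n = a • c

variable {N}

lemma regModM_pow_left {a b : R} (ha : IsSMulRegular N a) (h : RegModM N a b) (k : ℕ) :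
    RegModM N (a ^ k) b := by
  induction k with
  | zero => intro n _; exact ⟨n, by simp⟩
  | succ k ih =>
    intro n ⟨s, hs⟩
    obtain ⟨n', rfl⟩ := h n ⟨a ^ k • s, by rw [hs, pow_succ, mul_comm, mul_smul]⟩
    have h1 : b • n' = a ^ k • s := by
      apply ha
      change a • b • n' = a • a ^ k • s
      rw [smul_comm a b n', hs, pow_succ, mul_comm, mul_smul]
    obtain ⟨s', rfl⟩ := ih n' ⟨s, h1⟩
    exact ⟨s', by rw [pow_succ, mul_comm, mul_smul]⟩

lemma regModM_pow_right {a b : R} (h : RegModM N a b) (k : ℕ) : RegModM N a (b ^ k) := by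
  induction k with
  | zero => intro n ⟨s, hs⟩; exact ⟨s, by simpa using hs⟩
  | succ k ih =>
    intro n ⟨s, hs⟩
    apply ih
    apply h
    exact ⟨s, by rw [← hs, pow_succ, mul_comm, mul_smul]⟩

lemma regModM_of_isWeaklyRegular {a b : R} (h : IsWeaklyRegular N [a, b]) :
    IsSMulRegular N a ∧ RegModM N a b := by
  rw [isWeaklyRegular_cons_iff] at h
  obtain ⟨ha, hreg⟩ := h
  rw [isWeaklyRegular_cons_iff] at hreg
  obtain ⟨hb, -⟩ := hreg
  refine ⟨ha, ?_⟩
  rintro n ⟨s, hs⟩
  have h0 : b • (Submodule.Quotient.mk n : QuotSMulTop a N) = b • 0 := by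
    rw [smul_zero, ← Submodule.Quotient.mk_smul, Submodule.Quotient.mk_eq_zero, hs]
    exact Submodule.smul_mem_pointwise_smul _ _ _ trivial
  have h1 := hb h0
  rw [Submodule.Quotient.mk_eq_zero, Submodule.mem_smul_pointwise_iff_exists] at h1
  obtain ⟨c, -, hc⟩ := h1
  exact ⟨c, hc.symm⟩

/-- A regular pair inside an ideal of depth at least two on a finite module. -/
lemma exists_regular_pair_of_idealDepth (I : Ideal R) [Module.Finite R N]
    (h : 2 ≤ LocCoh.idealDepth I N) :
    ∃ a b : R, a ∈ I ∧ b ∈ I ∧ IsSMulRegular N a ∧ RegModM N a b := by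
  by_cases hI : I • (⊤ : Submodule R N) = ⊤
  · obtain ⟨a, haI, ha⟩ := Submodule.exists_mem_and_smul_eq_self_of_fg_of_le_smul I
      (⊤ : Submodule R N) Module.Finite.fg_top (by rw [hI])
    refine ⟨a, a, haI, haI, ?_, ?_⟩
    · intro x y hxy
      change a • x = a • y at hxy
      rwa [ha x trivial, ha y trivial] at hxy
    · intro n _
      exact ⟨n, (ha n trivial).symm⟩
  unfold LocCoh.idealDepth at h
  rw [if_neg hI] at h
  by_contra hcon
  push Not at hcon
  have : (⨆ (rs : List R) (_ : IsWeaklyRegular N rs ∧ ∀ r ∈ rs, r ∈ I),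
      (rs.length : ℕ∞)) ≤ 1 := by
    apply iSup₂_le
    rintro rs ⟨hreg, hmem⟩
    match rs, hreg, hmem with
    | [], _, _ => simp
    | [_], _, _ => simp
    | x :: y :: rest, hreg, hmem =>
      exfalso
      have hxy : IsWeaklyRegular N [x, y] := by
        rw [isWeaklyRegular_cons_iff] at hreg ⊢
        obtain ⟨hx, hreg⟩ := hreg
        refine ⟨hx, ?_⟩
        rw [isWeaklyRegular_cons_iff] at hreg ⊢
        exact ⟨hreg.1, IsWeaklyRegular.nil _ _⟩
      obtain ⟨h1, h2⟩ := regModM_of_isWeaklyRegular hxy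
      exact hcon x y (hmem x (by simp)) (hmem y (by simp)) h1 h2
  have h2 : (2 : ℕ∞) ≤ 1 := le_trans h this
  exact absurd h2 (by decide)

end Groth.Agent.Lib.Helper80
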