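import Mathlib

/-!
# Checking injectivity / bijectivity of `F(V) → F(V ⊓ O)` on a basis, for sheaves valued in a concrete
category (helper80)
-/

set_option autoImplicit false
universe u

open CategoryTheory CategoryTheory.Limits TopologicalSpace Opposite TopCat

namespace Groth.Agent.Lib.Helper80.SheafBasis

variable {C : Type*} [Category* C] {FC : C → C → Type*} {CC : C → Type*}
variable [∀ X Y, FunLike (FC X Y) (CC X) (CC Y)] [ConcreteCategory C FC]

section Presheaf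

variable {X : TopCat.{u}} (F : TopCat.Presheaf C X)

/-- restriction map of a presheaf along an inclusion of opens, as a function -/
def r {V O : Opens X} (h : O ≤ V) : ToType (F.obj (op V)) → ToType (F.obj (op O)) :=
  fun s => F.map (homOfLE h).op s

lemma r_r {V O O' : Opens X} (h : O ≤ V) (h' : O' ≤ O) (s : ToType (F.obj (op V))) :
    r F h' (r F h s) = r F (h'.trans h) s := by
  unfold r
  rw [← ConcreteCategory.comp_apply, ← F.map_comp]
  rfl

lemma r_bijective_congr {V V' O O' : Opens X} (hV : V = V') (hO : O = O') (h : O ≤ V)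
    (h' : O' ≤ V') : Function.Bijective (r F h) ↔ Function.Bijective (r F h') := by
  subst hV hO
  rfl

lemma r_injective_congr {V V' O O' : Opens X} (hV : V = V') (hO : O = O') (h : O ≤ V)
    (h' : O' ≤ V') : Function.Injective (r F h) ↔ Function.Injective (r F h') := by
  subst hV hO
  rfl

end Presheaf

variable [HasLimitsOfSize.{u, u} C] [(CategoryTheory.forget C).ReflectsIsomorphisms]
variable [PreservesLimitsOfSize.{u, u} (CategoryTheory.forget C)]
variable {X : TopCat.{u}} (F : TopCat.Sheaf C X)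

/-- injectivity of `F(V) → F(V ⊓ O)` can be checked on a basis -/
theorem r_injective_of_basis (O : Opens X) (B : Set (Opens X))
    (hB : ∀ V : Opens X, ∀ x ∈ V, ∃ V' ∈ B, x ∈ V' ∧ V' ≤ V)
    (h : ∀ V' ∈ B, Function.Injective (r F.1 (inf_le_left : V' ⊓ O ≤ V')))
    (V : Opens X) : Function.Injective (r F.1 (inf_le_left : V ⊓ O ≤ V)) := by
  intro s t hst
  let I := {V' : Opens X // V' ∈ B ∧ V' ≤ V}
  let Uc : I → Opens X := fun i => i.1
  have hcover : V ≤ iSup Uc := by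
    intro x hx
    obtain ⟨V', hV'B, hxV', hV'V⟩ := hB V x hx
    exact Opens.mem_iSup.mpr ⟨⟨V', hV'B, hV'V⟩, hxV'⟩
  refine TopCat.Sheaf.eq_of_locally_eq' F Uc V (fun i => homOfLE i.2.2) hcover s t (fun i => ?_)
  change r F.1 i.2.2 s = r F.1 i.2.2 t
  apply h i.1 i.2.1
  rw [r_r, r_r]
  have h1 : r F.1 ((inf_le_left : i.1 ⊓ O ≤ i.1).trans i.2.2) s =
      r F.1 (inf_le_inf_right O i.2.2) (r F.1 (inf_le_left : V ⊓ O ≤ V) s) := (r_r _ _ _ _).symm
  have h2 : r F.1 ((inf_le_left : i.1 ⊓ O ≤ i.1).trans i.2.2) t =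
      r F.1 (inf_le_inf_right O i.2.2) (r F.1 (inf_le_left : V ⊓ O ≤ V) t) := (r_r _ _ _ _).symm
  rw [h1, h2, hst]

/-- bijectivity of `F(V) → F(V ⊓ O)` can be checked on a basis -/
theorem r_bijective_of_basis (O : Opens X) (B : Set (Opens X))
    (hB : ∀ V : Opens X, ∀ x ∈ V, ∃ V' ∈ B, x ∈ V' ∧ V' ≤ V)
    (h : ∀ V' ∈ B, Function.Bijective (r F.1 (inf_le_left : V' ⊓ O ≤ V')))
    (V : Opens X) : Function.Bijective (r F.1 (inf_le_left : V ⊓ O ≤ V)) := by
  have hinj : ∀ V : Opens X, Function.Injective (r F.1 (inf_le_left : V ⊓ O ≤ V)) :=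
    r_injective_of_basis F O B hB (fun V' hV' => (h V' hV').1)
  refine ⟨hinj V, fun t => ?_⟩
  let I := {V' : Opens X // V' ∈ B ∧ V' ≤ V}
  let Uc : I → Opens X := fun i => i.1
  have hcover : V ≤ iSup Uc := by
    intro x hx
    obtain ⟨V', hV'B, hxV', hV'V⟩ := hB V x hx
    exact Opens.mem_iSup.mpr ⟨⟨V', hV'B, hV'V⟩, hxV'⟩
  have hex : ∀ i : I, ∃ s : ToType (F.1.obj (op i.1)),
      r F.1 (inf_le_left : i.1 ⊓ O ≤ i.1) s = r F.1 (inf_le_inf_right O i.2.2) t :=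
    fun i => (h i.1 i.2.1).2 _
  choose sf hsf using hex
  have hcompat : TopCat.Presheaf.IsCompatible F.1 Uc sf := by
    intro i j
    change r F.1 (inf_le_left : i.1 ⊓ j.1 ≤ i.1) (sf i) = r F.1 (inf_le_right : i.1 ⊓ j.1 ≤ j.1) (sf j)
    apply hinj (i.1 ⊓ j.1)
    rw [r_r, r_r]
    have h1 : r F.1 ((inf_le_left : i.1 ⊓ j.1 ⊓ O ≤ i.1 ⊓ j.1).trans inf_le_left) (sf i) =
        r F.1 (inf_le_inf_right O (inf_le_left : i.1 ⊓ j.1 ≤ i.1))
          (r F.1 (inf_le_left : i.1 ⊓ O ≤ i.1) (sf i)) := (r_r _ _ _ _).symm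
    have h2 : r F.1 ((inf_le_left : i.1 ⊓ j.1 ⊓ O ≤ i.1 ⊓ j.1).trans inf_le_right) (sf j) =
        r F.1 (inf_le_inf_right O (inf_le_right : i.1 ⊓ j.1 ≤ j.1))
          (r F.1 (inf_le_left : j.1 ⊓ O ≤ j.1) (sf j)) := (r_r _ _ _ _).symm
    rw [h1, h2, hsf, hsf, r_r, r_r]
  obtain ⟨s, hs, -⟩ := TopCat.Sheaf.existsUnique_gluing' F Uc V
    (fun i => homOfLE i.2.2) hcover sf hcompat
  refine ⟨s, ?_⟩
  let Uc' : I → Opens X := fun i => i.1 ⊓ O
  have hcover' : V ⊓ O ≤ iSup Uc' := by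
    rintro x ⟨hxV, hxO⟩
    obtain ⟨i, hi⟩ := Opens.mem_iSup.mp (hcover hxV)
    exact Opens.mem_iSup.mpr ⟨i, ⟨hi, hxO⟩⟩
  refine TopCat.Sheaf.eq_of_locally_eq' F Uc' (V ⊓ O)
    (fun i => homOfLE (inf_le_inf_right O i.2.2)) hcover' _ _ (fun i => ?_)
  change r F.1 (inf_le_inf_right O i.2.2) (r F.1 (inf_le_left : V ⊓ O ≤ V) s) =
    r F.1 (inf_le_inf_right O i.2.2) t
  rw [r_r, ← hsf i]
  have hsi : r F.1 i.2.2 s = sf i := hs i
  rw [← hsi, r_r]

end Groth.Agent.Lib.Helper80.SheafBasis
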