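import Mathlib
import Groth.Agent.Lib.Helper45.QCohStalk
import Groth.Agent.Lib.Helper45.ModulesBasic
import Groth.Agent.Lib.Helper45.FiniteType
import Groth.Agent.Lib.Helper2.PuncturedSections
import Groth.Agent.Lib.Helper80.ModRegPair
import Groth.Agent.Lib.Helper80.DepthLocalized
import Groth.Agent.Lib.Helper80.SheafBasis

/-!
# Hartogs-type extension for sections of coherent modules across depth `≥ 2` (helper80)
-/

set_option autoImplicit false
universe u

open AlgebraicGeometry CategoryTheory Opposite TopologicalSpace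

namespace Groth.Agent.Lib.Helper80

open Groth.Agent.Lib.Helper45 Groth.Agent.Lib.Helper2

variable {X : Scheme.{u}} (F : X.Modules)

/-- restriction of sections of a module, as an additive map -/
noncomputable abbrev ρ {V O : X.Opens} (h : O ≤ V) : Γ(F, V) →+ Γ(F, O) :=
  (F.presheaf.map (homOfLE h).op).hom

lemma ρ_ρ {V O O' : X.Opens} (h1 : O ≤ V) (h2 : O' ≤ O) (s : Γ(F, V)) :
    ρ F h2 (ρ F h1 s) = ρ F (h2.trans h1) s := by
  unfold ρ
  rw [← AddMonoidHom.comp_apply, ← AddCommGrpCat.hom_comp, ← Functor.map_comp]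
  rfl

lemma ρ_smul {V O : X.Opens} (h : O ≤ V) (r : Γ(X, V)) (s : Γ(F, V)) :
    ρ F h (r • s) = res h r • ρ F h s :=
  Scheme.Modules.map_smul F (homOfLE h) r s

section Affine

variable {W : X.Opens} (hW : IsAffineOpen W) [F.IsQuasicoherent]

include hW in
lemma exists_pow_smul_eq_zero (f : Γ(X, W)) (t : Γ(F, W))
    (ht : ρ F (X.basicOpen_le f) t = 0) : ∃ n : ℕ, f ^ n • t = 0 :=
  exists_pow_smul_eq_zero_of_restrict_eq_zero hW F f t ht

include hW in
lemma exists_ρ_eq_pow_smul (f : Γ(X, W)) (s : Γ(F, X.basicOpen f)) :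
    ∃ (n : ℕ) (t : Γ(F, W)), ρ F (X.basicOpen_le f) t = (res (X.basicOpen_le f) f) ^ n • s :=
  exists_restrict_eq_pow_smul hW F f s

/-- a unit acts injectively -/
lemma smul_injective_of_isUnit {V : X.Opens} {r : Γ(X, V)} (hr : IsUnit r) {s : Γ(F, V)}
    (h : r • s = 0) : s = 0 := by
  obtain ⟨u, rfl⟩ := hr
  have := congrArg (fun z => (↑u⁻¹ : Γ(X, V)) • z) h
  simpa [smul_smul] using this

include hW in
/-- regularity passes to basic opens -/
lemma isSMulRegular_basicOpen (a f : Γ(X, W)) (ha : IsSMulRegular Γ(F, W) a) :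
    IsSMulRegular Γ(F, X.basicOpen f) (res (X.basicOpen_le f) a) := by
  rw [isSMulRegular_iff_right_eq_zero_of_smul]
  intro u hu
  obtain ⟨k, v, hv⟩ := exists_ρ_eq_pow_smul F hW f u
  have h1 : ρ F (X.basicOpen_le f) (a • v) = 0 := by
    rw [ρ_smul, hv, smul_comm, hu, smul_zero]
  obtain ⟨m, hm⟩ := exists_pow_smul_eq_zero F hW f (a • v) h1
  have h2 : f ^ m • v = 0 := by
    apply ha
    change a • f ^ m • v = a • 0
    rw [smul_zero, smul_comm, hm]
  have h3 : (res (X.basicOpen_le f) f) ^ (m + k) • u = 0 := by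
    rw [pow_add, mul_smul, ← hv, ← map_pow, ← ρ_smul, h2, map_zero]
  exact smul_injective_of_isUnit F ((isUnit_res_basicOpen f).pow (m + k)) h3

include hW in
/-- a section over `O ⊇ D(a)` (inside the affine `W`) vanishing on `D(a)` is zero, for `a` regular. -/
lemma eq_zero_of_ρ_basicOpen_eq_zero (a : Γ(X, W)) (ha : IsSMulRegular Γ(F, W) a)
    (O : X.Opens) (hOW : O ≤ W) (haO : X.basicOpen a ≤ O) (t : Γ(F, O))
    (ht : ρ F haO t = 0) : t = 0 := by
  apply section_ext_germ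
  intro p hp
  obtain ⟨f, hfO, hpf⟩ := hW.exists_basicOpen_le (V := O) ⟨p, hp⟩ (hOW hp)
  have key : ρ F hfO t = 0 := by
    have hDf : IsAffineOpen (X.basicOpen f) := hW.basicOpen f
    set af : Γ(X, X.basicOpen f) := res (X.basicOpen_le f) a with haf
    have hbo : X.basicOpen af = X.basicOpen f ⊓ X.basicOpen a := Scheme.basicOpen_res _ _ _
    have hle : X.basicOpen af ≤ X.basicOpen a := hbo ▸ inf_le_right
    have h0 : ρ F (X.basicOpen_le af) (ρ F hfO t) = 0 := by
      rw [ρ_ρ, ← ρ_ρ F haO hle, ht, map_zero]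
    obtain ⟨n, hn⟩ := exists_pow_smul_eq_zero F hDf af _ h0
    exact ((isSMulRegular_basicOpen F hW a f ha).pow n).right_eq_zero_of_smul hn
  have g1 := TopCat.Presheaf.germ_res_apply F.presheaf (homOfLE hfO) p hpf t
  have g2 := TopCat.Presheaf.germ_res_apply F.presheaf (homOfLE hfO) p hpf (0 : Γ(F, O))
  rw [← g1, ← g2]
  congr 1
  exact key.trans (map_zero (ρ F hfO)).symm

include hW in
lemma ρ_injective_of_regular (O : X.Opens) (hOW : O ≤ W) (a : Γ(X, W))
    (haO : X.basicOpen a ≤ O) (ha : IsSMulRegular Γ(F, W) a) :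
    Function.Injective (ρ F hOW) := by
  rw [injective_iff_map_eq_zero]
  intro t ht
  have h1 : ρ F (X.basicOpen_le a) t = 0 := by
    rw [← ρ_ρ F hOW haO, ht, map_zero]
  obtain ⟨n, hn⟩ := exists_pow_smul_eq_zero F hW a t h1
  exact (ha.pow n).right_eq_zero_of_smul hn

include hW in
lemma ρ_surjective_of_regular_pair (O : X.Opens) (hOW : O ≤ W) (a b : Γ(X, W))
    (haO : X.basicOpen a ≤ O) (hbO : X.basicOpen b ≤ O) (ha : IsSMulRegular Γ(F, W) a)
    (hab : RegModM Γ(F, W) a b) : Function.Surjective (ρ F hOW) := by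
  intro s
  obtain ⟨n, x, hx⟩ := exists_ρ_eq_pow_smul F hW a (ρ F haO s)
  obtain ⟨m, y, hy⟩ := exists_ρ_eq_pow_smul F hW b (ρ F hbO s)
  have hD : X.basicOpen (a * b) = X.basicOpen a ⊓ X.basicOpen b := Scheme.basicOpen_mul _ _ _
  have hDa : X.basicOpen (a * b) ≤ X.basicOpen a := hD ▸ inf_le_left
  have hDb : X.basicOpen (a * b) ≤ X.basicOpen b := hD ▸ inf_le_right
  have hDO : X.basicOpen (a * b) ≤ O := hDa.trans haO
  have e1 : ρ F (X.basicOpen_le (a * b)) (b ^ m • x) =
      res (X.basicOpen_le (a * b)) b ^ m • res (X.basicOpen_le (a * b)) a ^ n • ρ F hDO s := by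
    rw [ρ_smul, map_pow, ← ρ_ρ F (X.basicOpen_le a) hDa x, hx, ρ_smul, map_pow, res_res, ρ_ρ]
  have e2 : ρ F (X.basicOpen_le (a * b)) (a ^ n • y) =
      res (X.basicOpen_le (a * b)) a ^ n • res (X.basicOpen_le (a * b)) b ^ m • ρ F hDO s := by
    rw [ρ_smul, map_pow, ← ρ_ρ F (X.basicOpen_le b) hDb y, hy, ρ_smul, map_pow, res_res, ρ_ρ]
  have e3 : ρ F (X.basicOpen_le (a * b)) (b ^ m • x - a ^ n • y) = 0 := by
    rw [map_sub, e1, e2, smul_comm, sub_self]
  obtain ⟨k, hk⟩ := exists_pow_smul_eq_zero F hW (a * b) _ e3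
  have e4 : b ^ (m + k) • x = a ^ n • (b ^ k • y) := by
    have h1 : a ^ k • (b ^ k • (b ^ m • x - a ^ n • y)) = 0 := by
      rw [← mul_smul, ← mul_pow]
      exact hk
    have h2 := (ha.pow k).right_eq_zero_of_smul h1
    rw [smul_sub, sub_eq_zero] at h2
    rw [pow_add, mul_comm, mul_smul, h2, smul_comm]
  have hreg : RegModM Γ(F, W) (a ^ n) (b ^ (m + k)) :=
    regModM_pow_right (regModM_pow_left ha hab n) (m + k)
  obtain ⟨c, hc⟩ := hreg x ⟨b ^ k • y, e4⟩
  refine ⟨c, ?_⟩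
  have h0 : ρ F haO (s - ρ F hOW c) = 0 := by
    have hu : IsUnit (res (X.basicOpen_le a) a ^ n) := (isUnit_res_basicOpen a).pow n
    apply smul_injective_of_isUnit F hu
    rw [map_sub, smul_sub, ← hx, ρ_ρ, hc, ρ_smul, map_pow, sub_self]
  have := eq_zero_of_ρ_basicOpen_eq_zero F hW a ha O hOW haO _ h0
  exact (sub_eq_zero.mp this).symm

include hW in
theorem ρ_bijective_of_regular_pair (O : X.Opens) (hOW : O ≤ W) (a b : Γ(X, W))
    (haO : X.basicOpen a ≤ O) (hbO : X.basicOpen b ≤ O) (ha : IsSMulRegular Γ(F, W) a)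
    (hab : RegModM Γ(F, W) a b) : Function.Bijective (ρ F hOW) :=
  ⟨ρ_injective_of_regular F hW O hOW a haO ha,
    ρ_surjective_of_regular_pair F hW O hOW a b haO hbO ha hab⟩

end Affine

attribute [local instance] stalkModuleSections

/-- **Hartogs for coherent modules, affine case.** -/
theorem mod_res_bijective_of_isAffineOpen [IsLocallyNoetherian X] (hF : Coh.IsCoh F) (U : X.Opens)
    (hdepth : ∀ x : X, x ∉ U →
      (2 : ℕ∞) ≤ LocCoh.depth (X.presheaf.stalk x) (F.presheaf.stalk x))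
    (W : X.Opens) (hW : IsAffineOpen W) :
    Function.Bijective (ρ F (inf_le_left : W ⊓ U ≤ W)) := by
  haveI hq : SheafOfModules.IsQuasicoherent.{u, u, u} F := hF.1
  haveI : IsNoetherianRing Γ(X, W) := IsLocallyNoetherian.component_noetherian ⟨W, hW⟩
  haveI : Module.Finite Γ(X, W) Γ(F, W) := finite_sections_of_isCoh hW F hF
  -- the ideal of the complement of `U` in `W`
  let UW : (Spec Γ(X, W)).Opens := hW.fromSpec ⁻¹ᵁ U
  let Uc : Set (PrimeSpectrum Γ(X, W)) := ((UW : Set ↥(Spec Γ(X, W))))ᶜ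
  have hcl : IsClosed Uc := UW.isOpen.isClosed_compl
  obtain ⟨I, hI⟩ := (PrimeSpectrum.isClosed_iff_zeroLocus_ideal _).mp hcl
  have hmemU : ∀ p : PrimeSpectrum Γ(X, W), hW.fromSpec p ∈ U ↔ ¬ I ≤ p.asIdeal := by
    intro p
    have h1 : hW.fromSpec p ∈ U ↔ p ∉ Uc :=
      (not_not (a := p ∈ (UW : Set ↥(Spec Γ(X, W))))).symm
    rw [h1, hI, PrimeSpectrum.mem_zeroLocus, SetLike.coe_subset_coe]
  have hx_of : ∀ x : W, (x : X) ∈ U ↔ ¬ I ≤ (hW.primeIdealOf x).asIdeal := by
    intro x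
    rw [← hmemU, hW.fromSpec_primeIdealOf x]
  have hdepthI : (2 : ℕ∞) ≤ LocCoh.idealDepth I Γ(F, W) := by
    have := Groth.Agent.Lib.Helper29.le_idealDepth_of_forall_le_depth_localization Γ(X, W) 2
      Γ(F, W) I (by
        intro p hp hIp
        obtain ⟨x, hx⟩ := exists_primeIdealOf_eq hW ⟨p, hp⟩
        have hp' : (hW.primeIdealOf x).asIdeal = p := congrArg PrimeSpectrum.asIdeal hx
        subst hp'
        have hxU : (x : X) ∉ U := fun h => ((hx_of x).mp h) hIp
        have := hW.isLocalization_stalk x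
        have := isLocalizedModule_germₗ hW F x
        rw [← depth_eq_depth_localizedModule (hW.primeIdealOf x).asIdeal
          (X.presheaf.stalk (x : X)) (germₗ F x)]
        exact hdepth x hxU)
    exact_mod_cast this
  obtain ⟨a, b, haI, hbI, ha, hab⟩ := exists_regular_pair_of_idealDepth I hdepthI
  have hD : ∀ c ∈ I, X.basicOpen c ≤ W ⊓ U := by
    intro c hc x hx
    have hxW : x ∈ W := X.basicOpen_le c hx
    refine ⟨hxW, ?_⟩
    by_contra hxU
    have h1 : I ≤ (hW.primeIdealOf ⟨x, hxW⟩).asIdeal := by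
      by_contra hcon
      exact hxU ((hx_of ⟨x, hxW⟩).mpr hcon)
    exact ((mem_basicOpen_iff_not_mem_primeIdealOf hW ⟨x, hxW⟩ c).mp hx) (h1 hc)
  exact ρ_bijective_of_regular_pair F hW (W ⊓ U) inf_le_left a b (hD a haI) (hD b hbI) ha hab

/-- **Hartogs for coherent modules**: on a locally Noetherian scheme, if `depth F_x ≥ 2` for all
`x ∉ U`, then `Γ(V, F) → Γ(V ⊓ U, F)` is bijective for every open `V`. -/
theorem mod_res_bijective_of_depth [IsLocallyNoetherian X] (hF : Coh.IsCoh F) (U : X.Opens)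
    (hdepth : ∀ x : X, x ∉ U →
      (2 : ℕ∞) ≤ LocCoh.depth (X.presheaf.stalk x) (F.presheaf.stalk x))
    (V : X.Opens) :
    Function.Bijective (ρ F (inf_le_left : V ⊓ U ≤ V)) := by
  let Fs : TopCat.Sheaf Ab X := ⟨F.presheaf, F.isSheaf⟩
  have key : Function.Bijective (SheafBasis.r Fs.1 (inf_le_left : V ⊓ U ≤ V)) := by
    refine SheafBasis.r_bijective_of_basis Fs U {W | IsAffineOpen W} ?_ ?_ V
    · intro V x hx
      obtain ⟨W, hW, hxW, hWV⟩ := TopologicalSpace.Opens.isBasis_iff_nbhd.mp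
        X.isBasis_affineOpens hx
      exact ⟨W, hW, hxW, hWV⟩
    · intro W hW
      exact mod_res_bijective_of_isAffineOpen F hF U hdepth W hW
  exact key

end Groth.Agent.Lib.Helper80
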