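import Mathlib
import Groth.Agent.Lib.Helper80.ModHartogs

/-!
# Converse of Hartogs for coherent modules: bijective restrictions force depth `≥ 2` (helper80)
-/

set_option autoImplicit false
universe u

open AlgebraicGeometry CategoryTheory Opposite TopologicalSpace RingTheory.Sequence

namespace Groth.Agent.Lib.Helper80

open Groth.Agent.Lib.Helper45 Groth.Agent.Lib.Helper2

variable {X : Scheme.{u}} (F : X.Modules)

/-- the ideal of the complement of `U` in the affine open `W` -/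
lemma exists_ideal_compl {W : X.Opens} (hW : IsAffineOpen W) (U : X.Opens) :
    ∃ I : Ideal Γ(X, W), ∀ y : W, (y : X) ∈ U ↔ ¬ I ≤ (hW.primeIdealOf y).asIdeal := by
  let UW : (Spec Γ(X, W)).Opens := hW.fromSpec ⁻¹ᵁ U
  let Uc : Set (PrimeSpectrum Γ(X, W)) := ((UW : Set ↥(Spec Γ(X, W))))ᶜ
  have hcl : IsClosed Uc := UW.isOpen.isClosed_compl
  obtain ⟨I, hI⟩ := (PrimeSpectrum.isClosed_iff_zeroLocus_ideal _).mp hcl
  have hmemU : ∀ p : PrimeSpectrum Γ(X, W), hW.fromSpec p ∈ U ↔ ¬ I ≤ p.asIdeal := by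
    intro p
    have h1 : hW.fromSpec p ∈ U ↔ p ∉ Uc :=
      (not_not (a := p ∈ (UW : Set ↥(Spec Γ(X, W))))).symm
    rw [h1, hI, PrimeSpectrum.mem_zeroLocus, SetLike.coe_subset_coe]
  refine ⟨I, fun y => ?_⟩
  rw [← hmemU, hW.fromSpec_primeIdealOf y]

section

variable {W : X.Opens} (hW : IsAffineOpen W) (U : X.Opens) (I : Ideal Γ(X, W))
  (hI : ∀ y : W, (y : X) ∈ U ↔ ¬ I ≤ (hW.primeIdealOf y).asIdeal) [F.IsQuasicoherent]

include hI in
lemma basicOpen_le_of_mem {c : Γ(X, W)} (hc : c ∈ I) : X.basicOpen c ≤ W ⊓ U := by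
  intro x hx
  have hxW : x ∈ W := X.basicOpen_le c hx
  refine ⟨hxW, ?_⟩
  by_contra hxU
  have h1 : I ≤ (hW.primeIdealOf ⟨x, hxW⟩).asIdeal := by
    by_contra hcon
    exact hxU ((hI ⟨x, hxW⟩).mpr hcon)
  exact ((mem_basicOpen_iff_not_mem_primeIdealOf hW ⟨x, hxW⟩ c).mp hx) (h1 hc)

include hI in
lemma exists_mem_basicOpen {x : X} (hx : x ∈ W ⊓ U) : ∃ c ∈ I, x ∈ X.basicOpen c := by
  have h1 : ¬ I ≤ (hW.primeIdealOf ⟨x, hx.1⟩).asIdeal := (hI ⟨x, hx.1⟩).mp hx.2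
  obtain ⟨c, hcI, hc⟩ := SetLike.not_le_iff_exists.mp h1
  exact ⟨c, hcI, (mem_basicOpen_iff_not_mem_primeIdealOf hW ⟨x, hx.1⟩ c).mpr hc⟩

include hI in
/-- a section over `W ⊓ U` vanishing on all `D(c)`, `c ∈ I`, is zero -/
lemma eq_zero_of_forall_basicOpen (t : Γ(F, W ⊓ U))
    (h : ∀ (c : Γ(X, W)) (hc : c ∈ I), ρ F (basicOpen_le_of_mem hW U I hI hc) t = 0) : t = 0 := by
  apply section_ext_germ
  intro x hx
  obtain ⟨c, hcI, hxc⟩ := exists_mem_basicOpen hW U I hI hx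
  have g1 := TopCat.Presheaf.germ_res_apply F.presheaf
    (homOfLE (basicOpen_le_of_mem hW U I hI hcI)) x hxc t
  have g2 := TopCat.Presheaf.germ_res_apply F.presheaf
    (homOfLE (basicOpen_le_of_mem hW U I hI hcI)) x hxc (0 : Γ(F, W ⊓ U))
  rw [← g1, ← g2]
  congr 1
  exact (h c hcI).trans (map_zero (ρ F _)).symm

include hI in
/-- if `Γ(F, W) → Γ(F, W ⊓ U)` is injective, an element killed by `I` is zero -/
lemma eq_zero_of_forall_smul_eq_zero
    (hinj : Function.Injective (ρ F (inf_le_left : W ⊓ U ≤ W))) (n : Γ(F, W))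
    (h : ∀ c ∈ I, c • n = 0) : n = 0 := by
  apply hinj
  rw [map_zero]
  apply eq_zero_of_forall_basicOpen F hW U I hI
  intro c hc
  rw [ρ_ρ]
  have h1 : res (X.basicOpen_le c) c • ρ F (X.basicOpen_le c) n = 0 := by
    rw [← ρ_smul, h c hc, map_zero]
  exact smul_injective_of_isUnit F (isUnit_res_basicOpen c) h1

include hI in
lemma exists_regular_of_injective [IsNoetherianRing Γ(X, W)] [Module.Finite Γ(X, W) Γ(F, W)]
    [Nontrivial Γ(F, W)] (hinj : Function.Injective (ρ F (inf_le_left : W ⊓ U ≤ W))) :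
    ∃ a ∈ I, IsSMulRegular Γ(F, W) a := by
  by_contra hcon
  push Not at hcon
  obtain ⟨q, hq, hIq⟩ :=
    Groth.Agent.Lib.Helper29.exists_le_mem_associatedPrimes_of_forall_not_isSMulRegular
      Γ(X, W) Γ(F, W) I hcon
  have hqp : q.IsPrime := IsAssociatedPrime.isPrime hq
  obtain ⟨-, m0, hm0⟩ := isAssociatedPrime_iff.mp hq
  have hm0' : ∀ a : Γ(X, W), a ∈ q ↔ a • m0 = 0 := by
    intro a
    rw [hm0, Submodule.mem_colon_singleton, Submodule.mem_bot]
  have h0 : m0 = 0 := eq_zero_of_forall_smul_eq_zero F hW U I hI hinj m0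
    (fun c hc => (hm0' c).mp (hIq hc))
  exact hqp.ne_top ((Ideal.eq_top_iff_one q).mpr ((hm0' 1).mpr (by rw [h0, smul_zero])))

include hW in
lemma isSMulRegular_of_eq_basicOpen (a : Γ(X, W)) (ha : IsSMulRegular Γ(F, W) a)
    (O : X.Opens) (f : Γ(X, W)) (hO : O = X.basicOpen f) (hOW : O ≤ W) :
    IsSMulRegular Γ(F, O) (res hOW a) := by
  subst hO
  exact isSMulRegular_basicOpen F hW a f ha

include hI in
lemma exists_regular_mod_of_bijective [IsNoetherianRing Γ(X, W)] [Module.Finite Γ(X, W) Γ(F, W)]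
    (hbij : Function.Bijective (ρ F (inf_le_left : W ⊓ U ≤ W))) (a : Γ(X, W)) (haI : a ∈ I)
    (ha : IsSMulRegular Γ(F, W) a) :
    ∃ b ∈ I, IsSMulRegular (QuotSMulTop a Γ(F, W)) b := by
  rcases subsingleton_or_nontrivial (QuotSMulTop a Γ(F, W)) with hsub | hnt
  · exact ⟨a, haI, fun x y _ => Subsingleton.elim x y⟩
  by_contra hcon
  push Not at hcon
  obtain ⟨q, hq, hIq⟩ :=
    Groth.Agent.Lib.Helper29.exists_le_mem_associatedPrimes_of_forall_not_isSMulRegular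
      Γ(X, W) (QuotSMulTop a Γ(F, W)) I hcon
  have hqp : q.IsPrime := IsAssociatedPrime.isPrime hq
  obtain ⟨-, m0, hm0⟩ := isAssociatedPrime_iff.mp hq
  have hm0' : ∀ c : Γ(X, W), c ∈ q ↔ c • m0 = 0 := by
    intro c
    rw [hm0, Submodule.mem_colon_singleton, Submodule.mem_bot]
  obtain ⟨n, rfl⟩ := Submodule.mkQ_surjective _ m0
  have hne : (Submodule.mkQ _ n : QuotSMulTop a Γ(F, W)) ≠ 0 := by
    intro h0
    exact hqp.ne_top ((Ideal.eq_top_iff_one q).mpr ((hm0' 1).mpr (by rw [h0, smul_zero])))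
  -- for `c ∈ I`, `c • n ∈ a N`
  have hex : ∀ c : {c : Γ(X, W) // c ∈ I}, ∃ nc : Γ(F, W), a • nc = c.1 • n := by
    intro c
    have h1 : c.1 • (Submodule.mkQ _ n : QuotSMulTop a Γ(F, W)) = 0 := (hm0' c.1).mp (hIq c.2)
    rw [← map_smul, Submodule.mkQ_apply, Submodule.Quotient.mk_eq_zero,
      Submodule.mem_smul_pointwise_iff_exists] at h1
    obtain ⟨nc, -, hnc⟩ := h1
    exact ⟨nc, hnc⟩
  choose nc hnc using hex
  let Fs : TopCat.Sheaf Ab X := ⟨F.presheaf, F.isSheaf⟩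
  let Uc : {c : Γ(X, W) // c ∈ I} → X.Opens := fun c => X.basicOpen c.1
  have hle : ∀ c : {c : Γ(X, W) // c ∈ I}, Uc c ≤ W ⊓ U :=
    fun c => basicOpen_le_of_mem hW U I hI c.2
  have hu : ∀ c : {c : Γ(X, W) // c ∈ I}, IsUnit (res (X.basicOpen_le c.1) c.1) :=
    fun c => isUnit_res_basicOpen c.1
  let sf : ∀ c : {c : Γ(X, W) // c ∈ I}, Γ(F, Uc c) :=
    fun c => (↑(hu c).unit⁻¹ : Γ(X, X.basicOpen c.1)) • ρ F (X.basicOpen_le c.1) (nc c)
  have hsf : ∀ c : {c : Γ(X, W) // c ∈ I},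
      res (X.basicOpen_le c.1) a • sf c = ρ F (X.basicOpen_le c.1) n := by
    intro c
    change res (X.basicOpen_le c.1) a •
      ((↑(hu c).unit⁻¹ : Γ(X, X.basicOpen c.1)) • ρ F (X.basicOpen_le c.1) (nc c)) = _
    rw [smul_comm, ← ρ_smul, hnc, ρ_smul, smul_smul]
    have : (↑(hu c).unit⁻¹ : Γ(X, X.basicOpen c.1)) * res (X.basicOpen_le c.1) c.1 = 1 :=
      (hu c).val_inv_mul
    rw [this, one_smul]
  have hcompat : TopCat.Presheaf.IsCompatible Fs.1 Uc sf := by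
    intro i j
    change ρ F (inf_le_left : Uc i ⊓ Uc j ≤ Uc i) (sf i) =
      ρ F (inf_le_right : Uc i ⊓ Uc j ≤ Uc j) (sf j)
    have hO : Uc i ⊓ Uc j = X.basicOpen (i.1 * j.1) := (Scheme.basicOpen_mul _ _ _).symm
    have hOW : Uc i ⊓ Uc j ≤ W := inf_le_left.trans (X.basicOpen_le i.1)
    have hreg := isSMulRegular_of_eq_basicOpen F hW a ha (Uc i ⊓ Uc j) (i.1 * j.1) hO hOW
    apply hreg
    change res hOW a • ρ F (inf_le_left : Uc i ⊓ Uc j ≤ Uc i) (sf i) =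
      res hOW a • ρ F (inf_le_right : Uc i ⊓ Uc j ≤ Uc j) (sf j)
    have e1 : res hOW a = res (inf_le_left : Uc i ⊓ Uc j ≤ Uc i) (res (X.basicOpen_le i.1) a) :=
      (res_res _ _ _).symm
    have e2 : res hOW a = res (inf_le_right : Uc i ⊓ Uc j ≤ Uc j) (res (X.basicOpen_le j.1) a) :=
      (res_res _ _ _).symm
    rw [e1, ← ρ_smul, hsf i, ← e1, e2, ← ρ_smul, hsf j, ρ_ρ, ρ_ρ]
  have hcover : W ⊓ U ≤ iSup Uc := by
    intro x hx
    obtain ⟨c, hcI, hxc⟩ := exists_mem_basicOpen hW U I hI hx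
    exact Opens.mem_iSup.mpr ⟨⟨c, hcI⟩, hxc⟩
  obtain ⟨t, ht, -⟩ := TopCat.Sheaf.existsUnique_gluing' Fs Uc (W ⊓ U)
    (fun c => homOfLE (hle c)) hcover sf hcompat
  have ht' : ∀ c : {c : Γ(X, W) // c ∈ I}, ρ F (hle c) t = sf c := ht
  have hat : res (inf_le_left : W ⊓ U ≤ W) a • t = ρ F (inf_le_left : W ⊓ U ≤ W) n := by
    rw [← sub_eq_zero]
    apply eq_zero_of_forall_basicOpen F hW U I hI
    intro c hc
    have := ht' ⟨c, hc⟩
    rw [map_sub, ρ_smul, res_res, this, hsf ⟨c, hc⟩, ρ_ρ, sub_self]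
  obtain ⟨s, hs⟩ := hbij.2 t
  have hsn : a • s = n := by
    apply hbij.1
    rw [ρ_smul, hs, hat]
  apply hne
  rw [← hsn, Submodule.mkQ_apply, Submodule.Quotient.mk_eq_zero]
  exact Submodule.smul_mem_pointwise_smul _ _ _ trivial

end

attribute [local instance] stalkModuleSections

/-- **Converse of Hartogs**: if all restrictions `Γ(V, F) → Γ(V ⊓ U, F)` are bijective then
`depth F_x ≥ 2` for all `x ∉ U`. -/
theorem two_le_depth_of_res_bijective [IsLocallyNoetherian X] (hF : Coh.IsCoh F) (U : X.Opens)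
    (hbij : ∀ V : X.Opens, Function.Bijective (ρ F (inf_le_left : V ⊓ U ≤ V)))
    (x : X) (hx : x ∉ U) :
    (2 : ℕ∞) ≤ LocCoh.depth (X.presheaf.stalk x) (F.presheaf.stalk x) := by
  obtain ⟨_, ⟨W, hW : IsAffineOpen W, rfl⟩, hxW, -⟩ :=
    X.isBasis_affineOpens.exists_subset_of_mem_open (Set.mem_univ x) isOpen_univ
  haveI hq : SheafOfModules.IsQuasicoherent.{u, u, u} F := hF.1
  haveI : IsNoetherianRing Γ(X, W) := IsLocallyNoetherian.component_noetherian ⟨W, hW⟩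
  haveI : Module.Finite Γ(X, W) Γ(F, W) := finite_sections_of_isCoh hW F hF
  obtain ⟨I, hI⟩ := exists_ideal_compl hW U
  obtain ⟨y, hy⟩ : ∃ y : W, (y : X) = x := ⟨⟨x, hxW⟩, rfl⟩
  subst hy
  have hIp : I ≤ (hW.primeIdealOf y).asIdeal := by
    by_contra hcon
    exact hx ((hI y).mpr hcon)
  have hdepthI : (2 : ℕ∞) ≤ LocCoh.idealDepth I Γ(F, W) := by
    rcases subsingleton_or_nontrivial Γ(F, W) with hsub | hnt
    · rw [Groth.Agent.Lib.Helper29.idealDepth_of_smul_top_eq I Γ(F, W) (Subsingleton.elim _ _)]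
      exact le_top
    · obtain ⟨a, haI, ha⟩ := exists_regular_of_injective F hW U I hI (hbij W).1
      obtain ⟨b, hbI, hb⟩ := exists_regular_mod_of_bijective F hW U I hI (hbij W) a haI ha
      have hreg : IsWeaklyRegular Γ(F, W) [a, b] := by
        rw [isWeaklyRegular_cons_iff]
        refine ⟨ha, ?_⟩
        rw [isWeaklyRegular_cons_iff]
        exact ⟨hb, IsWeaklyRegular.nil _ _⟩
      have := Groth.Agent.Lib.Helper29.length_le_idealDepth I Γ(F, W) [a, b] hreg (by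
        intro r hr
        simp only [List.mem_cons, List.not_mem_nil, or_false] at hr
        rcases hr with rfl | rfl
        · exact haI
        · exact hbI)
      exact_mod_cast this
  have := hW.isLocalization_stalk y
  have := isLocalizedModule_germₗ hW F y
  rw [depth_eq_depth_localizedModule (hW.primeIdealOf y).asIdeal
    (X.presheaf.stalk (y : X)) (germₗ F y)]
  exact hdepthI.trans ((Groth.Agent.Lib.Helper29.idealDepth_mono hIp Γ(F, W)).trans
    (Groth.Agent.Lib.Helper29.idealDepth_le_depth_localization Γ(X, W) _ Γ(F, W)))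

end Groth.Agent.Lib.Helper80
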