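import Mathlib
import Groth.Agent.Lib.Helper80.ModHartogs
import Groth.Agent.Lib.Helper80.ModHartogsConv
import Groth.Agent.Lib.Helper80.SheafBasisLe
import Groth.Agent.Lib.Helper29.DepthRees

/-!
# Local forms of Hartogs for coherent modules (helper80)

The depth hypotheses are only required at the points of a fixed open `V₀`; the conclusion holds for
the opens contained in `V₀`.  Also the depth `≥ 1` / injectivity analogue.
-/

set_option autoImplicit false
universe u

open AlgebraicGeometry CategoryTheory Opposite TopologicalSpace RingTheory.Sequence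

namespace Groth.Agent.Lib.Helper80

open Groth.Agent.Lib.Helper45 Groth.Agent.Lib.Helper2

variable {X : Scheme.{u}} (F : X.Modules)

/-- a regular element inside an ideal of depth at least one on a finite module -/
lemma exists_regular_of_idealDepth {R : Type u} [CommRing R] {N : Type u} [AddCommGroup N]
    [Module R N] (I : Ideal R) [Module.Finite R N] (h : 1 ≤ LocCoh.idealDepth I N) :
    ∃ a : R, a ∈ I ∧ IsSMulRegular N a := by
  have h' : ((1 : ℕ) : ℕ∞) ≤ LocCoh.idealDepth I N := by exact_mod_cast h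
  rw [Groth.Agent.Lib.Helper29.le_idealDepth_iff] at h'
  rcases h' with hI | ⟨rs, hlen, hmem, hreg⟩
  · obtain ⟨a, haI, ha⟩ := Submodule.exists_mem_and_smul_eq_self_of_fg_of_le_smul I
      (⊤ : Submodule R N) Module.Finite.fg_top (by rw [hI])
    refine ⟨a, haI, ?_⟩
    intro x y hxy
    change a • x = a • y at hxy
    rwa [ha x trivial, ha y trivial] at hxy
  · obtain ⟨a, rfl⟩ := List.length_eq_one_iff.mp hlen
    rw [isWeaklyRegular_singleton_iff] at hreg
    exact ⟨a, hmem a (by simp), hreg⟩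

attribute [local instance] stalkModuleSections

/-- transfer of depth between the stalk and the localized sections over an affine open -/
theorem depth_stalk_eq [IsLocallyNoetherian X] (hF : Coh.IsCoh F) {W : X.Opens}
    (hW : IsAffineOpen W) (x : W) :
    haveI : IsNoetherianRing Γ(X, W) := IsLocallyNoetherian.component_noetherian ⟨W, hW⟩
    LocCoh.depth (X.presheaf.stalk (x : X)) (F.presheaf.stalk (x : X)) =
      LocCoh.depth (Localization.AtPrime (hW.primeIdealOf x).asIdeal)
        (LocalizedModule (hW.primeIdealOf x).asIdeal.primeCompl Γ(F, W)) := by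
  haveI hq : SheafOfModules.IsQuasicoherent.{u, u, u} F := hF.1
  haveI : IsNoetherianRing Γ(X, W) := IsLocallyNoetherian.component_noetherian ⟨W, hW⟩
  haveI : Module.Finite Γ(X, W) Γ(F, W) := finite_sections_of_isCoh hW F hF
  have := hW.isLocalization_stalk x
  have := isLocalizedModule_germₗ hW F x
  exact depth_eq_depth_localizedModule (hW.primeIdealOf x).asIdeal
    (X.presheaf.stalk (x : X)) (germₗ F x)

/-- **Hartogs for coherent modules, affine case, local form.** -/
theorem mod_res_bijective_of_isAffineOpen_on [IsLocallyNoetherian X] (hF : Coh.IsCoh F)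
    (U : X.Opens) (W : X.Opens) (hW : IsAffineOpen W)
    (hdepth : ∀ x : X, x ∈ W → x ∉ U →
      (2 : ℕ∞) ≤ LocCoh.depth (X.presheaf.stalk x) (F.presheaf.stalk x)) :
    Function.Bijective (ρ F (inf_le_left : W ⊓ U ≤ W)) := by
  haveI hq : SheafOfModules.IsQuasicoherent.{u, u, u} F := hF.1
  haveI : IsNoetherianRing Γ(X, W) := IsLocallyNoetherian.component_noetherian ⟨W, hW⟩
  haveI : Module.Finite Γ(X, W) Γ(F, W) := finite_sections_of_isCoh hW F hF
  obtain ⟨I, hI⟩ := exists_ideal_compl hW U
  have hdepthI : (2 : ℕ∞) ≤ LocCoh.idealDepth I Γ(F, W) := by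
    have := Groth.Agent.Lib.Helper29.le_idealDepth_of_forall_le_depth_localization Γ(X, W) 2
      Γ(F, W) I (by
        intro p hp hIp
        obtain ⟨x, hx⟩ := exists_primeIdealOf_eq hW ⟨p, hp⟩
        have hp' : (hW.primeIdealOf x).asIdeal = p := congrArg PrimeSpectrum.asIdeal hx
        subst hp'
        have hxU : (x : X) ∉ U := fun h => ((hI x).mp h) hIp
        rw [← depth_stalk_eq F hF hW x]
        exact hdepth x x.2 hxU)
    exact_mod_cast this
  obtain ⟨a, b, haI, hbI, ha, hab⟩ := exists_regular_pair_of_idealDepth I hdepthI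
  exact ρ_bijective_of_regular_pair F hW (W ⊓ U) inf_le_left a b
    (basicOpen_le_of_mem hW U I hI haI) (basicOpen_le_of_mem hW U I hI hbI) ha hab

/-- injectivity analogue for depth `≥ 1`, affine case, local form -/
theorem mod_res_injective_of_isAffineOpen_on [IsLocallyNoetherian X] (hF : Coh.IsCoh F)
    (U : X.Opens) (W : X.Opens) (hW : IsAffineOpen W)
    (hdepth : ∀ x : X, x ∈ W → x ∉ U →
      (1 : ℕ∞) ≤ LocCoh.depth (X.presheaf.stalk x) (F.presheaf.stalk x)) :
    Function.Injective (ρ F (inf_le_left : W ⊓ U ≤ W)) := by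
  haveI hq : SheafOfModules.IsQuasicoherent.{u, u, u} F := hF.1
  haveI : IsNoetherianRing Γ(X, W) := IsLocallyNoetherian.component_noetherian ⟨W, hW⟩
  haveI : Module.Finite Γ(X, W) Γ(F, W) := finite_sections_of_isCoh hW F hF
  obtain ⟨I, hI⟩ := exists_ideal_compl hW U
  have hdepthI : (1 : ℕ∞) ≤ LocCoh.idealDepth I Γ(F, W) := by
    have := Groth.Agent.Lib.Helper29.le_idealDepth_of_forall_le_depth_localization Γ(X, W) 1
      Γ(F, W) I (by
        intro p hp hIp
        obtain ⟨x, hx⟩ := exists_primeIdealOf_eq hW ⟨p, hp⟩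
        have hp' : (hW.primeIdealOf x).asIdeal = p := congrArg PrimeSpectrum.asIdeal hx
        subst hp'
        have hxU : (x : X) ∉ U := fun h => ((hI x).mp h) hIp
        rw [← depth_stalk_eq F hF hW x]
        exact_mod_cast hdepth x x.2 hxU)
    exact_mod_cast this
  obtain ⟨a, haI, ha⟩ := exists_regular_of_idealDepth I hdepthI
  exact ρ_injective_of_regular F hW (W ⊓ U) inf_le_left a (basicOpen_le_of_mem hW U I hI haI) ha

/-- **Hartogs for coherent modules, local form**: if `depth F_x ≥ 2` for all `x ∈ V₀ ∖ U`, then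
`Γ(V, F) → Γ(V ⊓ U, F)` is bijective for every open `V ≤ V₀`. -/
theorem mod_res_bijective_of_depth_on [IsLocallyNoetherian X] (hF : Coh.IsCoh F) (U V₀ : X.Opens)
    (hdepth : ∀ x : X, x ∈ V₀ → x ∉ U →
      (2 : ℕ∞) ≤ LocCoh.depth (X.presheaf.stalk x) (F.presheaf.stalk x))
    (V : X.Opens) (hV : V ≤ V₀) :
    Function.Bijective (ρ F (inf_le_left : V ⊓ U ≤ V)) := by
  let Fs : TopCat.Sheaf Ab X := ⟨F.presheaf, F.isSheaf⟩
  have key : Function.Bijective (SheafBasis.r Fs.1 (inf_le_left : V ⊓ U ≤ V)) := by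
    refine SheafBasis.r_bijective_of_basis_le Fs U V₀ {W | IsAffineOpen W ∧ W ≤ V₀} ?_ ?_ V hV
    · intro V hV x hx
      obtain ⟨W, hW, hxW, hWV⟩ := TopologicalSpace.Opens.isBasis_iff_nbhd.mp
        X.isBasis_affineOpens hx
      exact ⟨W, ⟨hW, hWV.trans hV⟩, hxW, hWV⟩
    · rintro W ⟨hW, hWV₀⟩
      exact mod_res_bijective_of_isAffineOpen_on F hF U W hW
        (fun x hxW hxU => hdepth x (hWV₀ hxW) hxU)
  exact key

/-- injectivity analogue for depth `≥ 1`, local form -/
theorem mod_res_injective_of_depth_on [IsLocallyNoetherian X] (hF : Coh.IsCoh F) (U V₀ : X.Opens)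
    (hdepth : ∀ x : X, x ∈ V₀ → x ∉ U →
      (1 : ℕ∞) ≤ LocCoh.depth (X.presheaf.stalk x) (F.presheaf.stalk x))
    (V : X.Opens) (hV : V ≤ V₀) :
    Function.Injective (ρ F (inf_le_left : V ⊓ U ≤ V)) := by
  let Fs : TopCat.Sheaf Ab X := ⟨F.presheaf, F.isSheaf⟩
  have key : Function.Injective (SheafBasis.r Fs.1 (inf_le_left : V ⊓ U ≤ V)) := by
    refine SheafBasis.r_injective_of_basis_le Fs U V₀ {W | IsAffineOpen W ∧ W ≤ V₀} ?_ ?_ V hV
    · intro V hV x hx
      obtain ⟨W, hW, hxW, hWV⟩ := TopologicalSpace.Opens.isBasis_iff_nbhd.mp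
        X.isBasis_affineOpens hx
      exact ⟨W, ⟨hW, hWV.trans hV⟩, hxW, hWV⟩
    · rintro W ⟨hW, hWV₀⟩
      exact mod_res_injective_of_isAffineOpen_on F hF U W hW
        (fun x hxW hxU => hdepth x (hWV₀ hxW) hxU)
  exact key

end Groth.Agent.Lib.Helper80
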