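import Mathlib
import Groth.Agent.Lib.Helper29.DepthLoc4
import Groth.Agent.Lib.Helper45.S1Alg

/-!
# Spreading out depth conditions along a closed subset (helper80)

For a finite module `M` over a Noetherian ring `A`, an ideal `I` and a prime `p`:
if `depth M_q ≥ 1` (resp. `≥ 2`) for all primes `I ≤ q ≤ p`, then the same holds for all primes
`q ⊇ I` in a basic open neighbourhood `D(g)` of `p`.
-/

set_option autoImplicit false
universe u

open IsLocalRing

namespace Groth.Agent.Lib.Helper80

section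

variable {A : Type u} [CommRing A] [IsNoetherianRing A]

/-- the depth of `M` at the prime `q` -/
noncomputable abbrev dq (M : Type u) [AddCommGroup M] [Module A M] (q : Ideal A) [q.IsPrime] : ℕ∞ :=
  LocCoh.depth (Localization.AtPrime q) (LocalizedModule q.primeCompl M)

variable (M : Type u) [AddCommGroup M] [Module A M] [Module.Finite A M]

theorem dq_eq_zero_iff (q : Ideal A) [q.IsPrime] : dq M q = 0 ↔ q ∈ associatedPrimes A M := by
  haveI : IsNoetherianRing (Localization.AtPrime q) :=
    IsLocalization.isNoetherianRing q.primeCompl _ inferInstance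
  haveI : Module.Finite (Localization.AtPrime q) (LocalizedModule q.primeCompl M) :=
    Module.Finite.of_isLocalizedModule q.primeCompl (LocalizedModule.mkLinearMap q.primeCompl M)
  unfold dq
  rw [Groth.Agent.Lib.Helper29.depth_eq_zero_iff]
  exact Groth.Agent.Lib.Helper45.maximalIdeal_mem_associatedPrimes_iff q
    (Localization.AtPrime q) (LocalizedModule.mkLinearMap q.primeCompl M)

theorem one_le_dq_iff (q : Ideal A) [q.IsPrime] : 1 ≤ dq M q ↔ q ∉ associatedPrimes A M := by
  rw [← dq_eq_zero_iff, Order.one_le_iff_ne_zero]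

/-- given finitely many ideals none of which lies in the prime `p`, some element outside `p` lies
in all of them -/
theorem exists_not_mem_forall_mem (B : Set (Ideal A)) (hB : B.Finite) (p : Ideal A) [p.IsPrime]
    (h : ∀ q ∈ B, ¬ q ≤ p) : ∃ g : A, g ∉ p ∧ ∀ q ∈ B, g ∈ q := by
  classical
  have h1 : ¬ (hB.toFinset.inf id ≤ p) := by
    intro hle
    obtain ⟨q, hq, hqp⟩ := (Ideal.IsPrime.inf_le' (s := hB.toFinset) (f := id) inferInstance).mp hle
    exact h q (hB.mem_toFinset.mp hq) hqp
  obtain ⟨g, hg, hgp⟩ := SetLike.not_le_iff_exists.mp h1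
  refine ⟨g, hgp, fun q hq => ?_⟩
  have : hB.toFinset.inf id ≤ q := Finset.inf_le (f := id) (hB.mem_toFinset.mpr hq)
  exact this hg

/-- depth `≥ 1` along `V(I)` spreads out from the generizations of `p` to a neighbourhood -/
theorem exists_one_le_dq (I : Ideal A) (p : Ideal A) [p.IsPrime]
    (h : ∀ (q : Ideal A) [q.IsPrime], I ≤ q → q ≤ p → 1 ≤ dq M q) :
    ∃ g : A, g ∉ p ∧ ∀ (q : Ideal A) [q.IsPrime], I ≤ q → g ∉ q → 1 ≤ dq M q := by
  have hfin : {q ∈ associatedPrimes A M | I ≤ q}.Finite :=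
    (associatedPrimes.finite A M).subset (fun q hq => hq.1)
  obtain ⟨g, hgp, hg⟩ := exists_not_mem_forall_mem {q ∈ associatedPrimes A M | I ≤ q} hfin p (by
    rintro q ⟨hq, hIq⟩ hqp
    haveI : q.IsPrime := IsAssociatedPrime.isPrime hq
    exact ((one_le_dq_iff M q).mp (h q hIq hqp)) hq)
  refine ⟨g, hgp, fun q _ hIq hgq => ?_⟩
  rw [one_le_dq_iff]
  intro hq
  exact hgq (hg q ⟨hq, hIq⟩)

/-- if `a` avoids all associated primes of `M` inside `q'`, then `a/1` is regular on `M_{q'}` -/
theorem isSMulRegular_localizedModule_of_forall_not_mem (a : A) (q' : Ideal A) [q'.IsPrime]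
    (h : ∀ q ∈ associatedPrimes A M, q ≤ q' → a ∉ q) :
    IsSMulRegular (LocalizedModule q'.primeCompl M) (algebraMap A (Localization.AtPrime q') a) := by
  rw [Groth.Agent.Lib.Helper29.isSMulRegular_localizedModule_iff]
  intro m hm
  by_contra hcon
  push Not at hcon
  -- the annihilator of `m` lies in `q'`
  let N : Submodule A M := Submodule.span A {m}
  have hann : Module.annihilator A N ≤ q' := by
    intro t ht
    by_contra htq
    apply hcon t htq
    have := (Module.mem_annihilator.mp ht) ⟨m, Submodule.mem_span_singleton_self m⟩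
    exact congrArg Subtype.val this
  obtain ⟨P, hP, hPq⟩ := Ideal.exists_minimalPrimes_le hann
  have hPass : P ∈ associatedPrimes A N :=
    Module.associatedPrimes.minimalPrimes_annihilator_subset_associatedPrimes A N hP
  have hPM : P ∈ associatedPrimes A M :=
    associatedPrimes.subset_of_injective (f := N.subtype) (Submodule.injective_subtype N) hPass
  apply h P hPM hPq
  apply hP.1.2
  rw [Module.mem_annihilator]
  rintro ⟨n, hn⟩
  obtain ⟨c, rfl⟩ := Submodule.mem_span_singleton.mp hn
  apply Subtype.ext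
  change a • c • m = 0
  rw [smul_comm, hm, smul_zero]

/-- depth `≥ 1` at `p` gives an element of `p` which is regular on `M_p` -/
theorem exists_mem_isSMulRegular_of_one_le_dq (p : Ideal A) [p.IsPrime] (h : 1 ≤ dq M p) :
    ∃ a ∈ p, IsSMulRegular (LocalizedModule p.primeCompl M)
      (algebraMap A (Localization.AtPrime p) a) := by
  classical
  have hp : p ∉ associatedPrimes A M := (one_le_dq_iff M p).mp h
  let S : Finset (Ideal A) := ((associatedPrimes.finite A M).subset
    (fun q (hq : q ∈ {q ∈ associatedPrimes A M | q ≤ p}) => hq.1)).toFinset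
  have hS : ∀ q, q ∈ S ↔ q ∈ associatedPrimes A M ∧ q ≤ p := by
    intro q
    rw [Set.Finite.mem_toFinset]
    rfl
  have h1 : ¬ ((p : Set A) ⊆ ⋃ q ∈ (S : Set (Ideal A)), (q : Set A)) := by
    intro hsub
    have := (Ideal.subset_union_prime (s := S) (f := id) ⊥ ⊥ (fun q hq _ _ =>
      IsAssociatedPrime.isPrime ((hS q).mp hq).1)).mp hsub
    obtain ⟨q, hq, hpq⟩ := this
    have hq' := (hS q).mp hq
    have : q = p := le_antisymm hq'.2 hpq
    exact hp (this ▸ hq'.1)
  obtain ⟨a, hap, ha⟩ := Set.not_subset.mp h1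
  refine ⟨a, hap, isSMulRegular_localizedModule_of_forall_not_mem M a p fun q hq hqp haq => ?_⟩
  apply ha
  simp only [Set.mem_iUnion]
  exact ⟨q, (hS q).mpr ⟨hq, hqp⟩, haq⟩

/-- modulo an element `a ∈ q'` avoiding the associated primes of `M` inside `q'`, the depth at `q'`
drops by one -/
theorem dq_quotSMulTop_add_one (a : A) (q' : Ideal A) [q'.IsPrime] (haq : a ∈ q')
    (h : ∀ q ∈ associatedPrimes A M, q ≤ q' → a ∉ q) :
    dq (QuotSMulTop a M) q' + 1 = dq M q' :=
  Groth.Agent.Lib.Helper29.depth_localizedModule_quotSMulTop_add_one' A q' M haq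
    (isSMulRegular_localizedModule_of_forall_not_mem M a q' h)

/-- depth `≥ 2` along `V(I)` spreads out from the generizations of `p` to a neighbourhood -/
theorem exists_two_le_dq (I : Ideal A) (p : Ideal A) [p.IsPrime]
    (h : ∀ (q : Ideal A) [q.IsPrime], I ≤ q → q ≤ p → 2 ≤ dq M q) :
    ∃ g : A, g ∉ p ∧ ∀ (q : Ideal A) [q.IsPrime], I ≤ q → g ∉ q → 2 ≤ dq M q := by
  classical
  obtain ⟨g₁, hg₁p, hg₁⟩ := exists_one_le_dq M I p (fun q _ hIq hqp =>
    le_trans (by norm_num) (h q hIq hqp))
  -- choose `a ∈ I` avoiding the associated primes of `M` not containing `g₁`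
  let S : Finset (Ideal A) := ((associatedPrimes.finite A M).subset
    (fun q (hq : q ∈ {q ∈ associatedPrimes A M | g₁ ∉ q}) => hq.1)).toFinset
  have hS : ∀ q, q ∈ S ↔ q ∈ associatedPrimes A M ∧ g₁ ∉ q := by
    intro q
    rw [Set.Finite.mem_toFinset]
    rfl
  have h1 : ¬ ((I : Set A) ⊆ ⋃ q ∈ (S : Set (Ideal A)), (q : Set A)) := by
    intro hsub
    have := (Ideal.subset_union_prime (s := S) (f := id) ⊥ ⊥ (fun q hq _ _ =>
      IsAssociatedPrime.isPrime ((hS q).mp hq).1)).mp hsub
    obtain ⟨q, hq, hIq⟩ := this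
    have hq' := (hS q).mp hq
    haveI : q.IsPrime := IsAssociatedPrime.isPrime hq'.1
    exact ((one_le_dq_iff M q).mp (hg₁ q hIq hq'.2)) hq'.1
  obtain ⟨a, haI, ha⟩ := Set.not_subset.mp h1
  have ha' : ∀ q ∈ associatedPrimes A M, g₁ ∉ q → a ∉ q := by
    intro q hq hgq haq
    apply ha
    simp only [Set.mem_iUnion]
    exact ⟨q, (hS q).mpr ⟨hq, hgq⟩, haq⟩
  have hdrop : ∀ (q' : Ideal A) [q'.IsPrime], I ≤ q' → g₁ ∉ q' →
      dq (QuotSMulTop a M) q' + 1 = dq M q' := by
    intro q' _ hIq' hgq'
    exact dq_quotSMulTop_add_one M a q' (hIq' haI)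
      (fun q hq hqq' => ha' q hq (fun hg => hgq' (hqq' hg)))
  -- second step: the associated primes of `M/aM`
  have hfin : {q ∈ associatedPrimes A (QuotSMulTop a M) | I ≤ q ∧ g₁ ∉ q}.Finite :=
    (associatedPrimes.finite A (QuotSMulTop a M)).subset (fun q hq => hq.1)
  obtain ⟨g₂, hg₂p, hg₂⟩ := exists_not_mem_forall_mem
    {q ∈ associatedPrimes A (QuotSMulTop a M) | I ≤ q ∧ g₁ ∉ q} hfin p (by
    rintro q ⟨hq, hIq, hgq⟩ hqp
    haveI : q.IsPrime := IsAssociatedPrime.isPrime hq
    have h2 := h q hIq hqp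
    rw [← hdrop q hIq hgq, (dq_eq_zero_iff (QuotSMulTop a M) q).mpr hq, zero_add] at h2
    exact absurd h2 (by norm_num))
  refine ⟨g₁ * g₂, fun hmem => (Ideal.IsPrime.mem_or_mem inferInstance hmem).elim hg₁p hg₂p,
    fun q _ hIq hgq => ?_⟩
  have hgq₁ : g₁ ∉ q := fun hg => hgq (Ideal.mul_mem_right _ _ hg)
  have hgq₂ : g₂ ∉ q := fun hg => hgq (Ideal.mul_mem_left _ _ hg)
  rw [← hdrop q hIq hgq₁]
  have h3 : 1 ≤ dq (QuotSMulTop a M) q := by
    rw [one_le_dq_iff]
    intro hq
    exact hgq₂ (hg₂ q ⟨hq, hIq, hgq₁⟩)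
  calc (2 : ℕ∞) = 1 + 1 := by norm_num
    _ ≤ dq (QuotSMulTop a M) q + 1 := add_le_add_left h3 1

/-- if `a ∈ p` is regular on `M_p` and `depth M_p < 2`, there is a "socle element modulo `a`" -/
theorem exists_socle_mod (p : Ideal A) [p.IsPrime] (a : A) (hap : a ∈ p)
    (hreg : IsSMulRegular (LocalizedModule p.primeCompl M) (algebraMap A (Localization.AtPrime p) a))
    (h2 : ¬ 2 ≤ dq M p) :
    ∃ e : M, (∀ c ∈ p, ∃ n : M, c • e = a • n) ∧ ∀ s : A, s ∉ p → ∀ n : M, s • e ≠ a • n := by
  have hdrop := Groth.Agent.Lib.Helper29.depth_localizedModule_quotSMulTop_add_one' A p M hap hreg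
  have h0 : dq (QuotSMulTop a M) p = 0 := by
    by_contra hne
    apply h2
    have h3 : 1 ≤ dq (QuotSMulTop a M) p := Order.one_le_iff_ne_zero.mpr hne
    change (2 : ℕ∞) ≤ LocCoh.depth (Localization.AtPrime p) (LocalizedModule p.primeCompl M)
    rw [← hdrop]
    calc (2 : ℕ∞) = 1 + 1 := by norm_num
      _ ≤ dq (QuotSMulTop a M) p + 1 := add_le_add_left h3 1
  have hass := (dq_eq_zero_iff (QuotSMulTop a M) p).mp h0
  obtain ⟨-, ebar, he⟩ := isAssociatedPrime_iff.mp hass
  obtain ⟨e, rfl⟩ := Submodule.mkQ_surjective _ ebar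
  have hmem : ∀ c : A, c ∈ p ↔ ∃ n : M, c • e = a • n := by
    intro c
    rw [he, Submodule.mem_colon_singleton, Submodule.mem_bot, ← map_smul, Submodule.mkQ_apply,
      Submodule.Quotient.mk_eq_zero, Submodule.mem_smul_pointwise_iff_exists]
    constructor
    · rintro ⟨n, -, hn⟩
      exact ⟨n, hn.symm⟩
    · rintro ⟨n, hn⟩
      exact ⟨n, trivial, hn.symm⟩
  exact ⟨e, fun c hc => (hmem c).mp hc, fun s hs n hn => hs ((hmem s).mpr ⟨n, hn⟩)⟩

/-- if `a/1` is regular on `M_p`, some `g ∉ p` kills the `a`-torsion of `M` -/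
theorem exists_kills_torsion (p : Ideal A) [p.IsPrime] (a : A)
    (hreg : IsSMulRegular (LocalizedModule p.primeCompl M) (algebraMap A (Localization.AtPrime p) a)) :
    ∃ g : A, g ∉ p ∧ ∀ m : M, a • m = 0 → g • m = 0 := by
  classical
  rw [Groth.Agent.Lib.Helper29.isSMulRegular_localizedModule_iff] at hreg
  let K : Submodule A M := LinearMap.ker (LinearMap.lsmul A M a)
  have hKfg : K.FG := IsNoetherian.noetherian K
  obtain ⟨G, hG⟩ := hKfg
  have hGK : ∀ k ∈ G, a • k = 0 := by
    intro k hk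
    have : k ∈ K := hG ▸ Submodule.subset_span hk
    exact this
  have hex : ∀ k : M, ∃ t : A, k ∈ G → (t ∉ p ∧ t • k = 0) := by
    intro k
    by_cases hk : k ∈ G
    · obtain ⟨t, ht, htk⟩ := hreg k (hGK k hk)
      exact ⟨t, fun _ => ⟨ht, htk⟩⟩
    · exact ⟨1, fun h => absurd h hk⟩
  choose t ht using hex
  refine ⟨∏ k ∈ G, t k, ?_, ?_⟩
  · intro hmem
    obtain ⟨k, hk, hkp⟩ := (Ideal.IsPrime.prod_mem_iff (hp := inferInstance)).mp hmem
    exact (ht k hk).1 hkp
  · intro m hm
    have hmK : m ∈ Submodule.span A (G : Set M) := by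
      rw [hG]
      exact hm
    refine Submodule.span_induction (p := fun m _ => (∏ k ∈ G, t k) • m = 0) ?_ ?_ ?_ ?_ hmK
    · intro k hk
      rw [← Finset.mul_prod_erase G t hk, mul_comm, mul_smul, (ht k hk).2, smul_zero]
    · exact smul_zero _
    · intro x y _ _ hx hy
      rw [smul_add, hx, hy, add_zero]
    · intro c x _ hx
      rw [smul_comm, hx, smul_zero]

end

section Generization

variable {A : Type u} [CommRing A] {M N : Type u} [AddCommGroup M] [Module A M]
  [AddCommGroup N] [Module A N] (f : M →ₗ[A] N)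

theorem localizedModule_map_injective_of_le {p p' : Ideal A} [p.IsPrime] [p'.IsPrime] (hle : p' ≤ p)
    (h : Function.Injective (LocalizedModule.map p.primeCompl f)) :
    Function.Injective (LocalizedModule.map p'.primeCompl f) := by
  rw [injective_iff_map_eq_zero]
  intro z hz
  induction z using LocalizedModule.induction_on with
  | h m s =>
    rw [LocalizedModule.map_mk, ← LocalizedModule.zero_mk s, LocalizedModule.mk_eq] at hz
    obtain ⟨t, ht⟩ := hz
    simp only [smul_zero, Submonoid.smul_def] at ht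
    -- `f (t s m) = 0`
    have h1 : LocalizedModule.map p.primeCompl f
        (LocalizedModule.mk ((t : A) • (s : A) • m) (1 : p.primeCompl)) = 0 := by
      rw [LocalizedModule.map_mk, map_smul, map_smul, ht, LocalizedModule.zero_mk]
    have h2 := (injective_iff_map_eq_zero _).mp h _ h1
    rw [← LocalizedModule.zero_mk (1 : p.primeCompl), LocalizedModule.mk_eq] at h2
    obtain ⟨u, hu⟩ := h2
    simp only [smul_zero, Submonoid.smul_def, one_smul] at hu
    rw [← LocalizedModule.zero_mk s, LocalizedModule.mk_eq]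
    have hu' : (u : A) ∉ p' := fun hmem => u.2 (hle hmem)
    refine ⟨⟨(u : A) * (t : A) * (s : A), p'.primeCompl.mul_mem
      (p'.primeCompl.mul_mem hu' t.2) s.2⟩, ?_⟩
    simp only [smul_zero, Submonoid.smul_def]
    calc ((u : A) * (t : A) * (s : A)) • (s : A) • m
        = (s : A) • ((u : A) • (t : A) • (s : A) • m) := by
          simp only [← mul_smul]; congr 1; ring
      _ = 0 := by rw [hu, smul_zero]

theorem localizedModule_map_surjective_of_le {p p' : Ideal A} [p.IsPrime] [p'.IsPrime] (hle : p' ≤ p)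
    (h : Function.Surjective (LocalizedModule.map p.primeCompl f)) :
    Function.Surjective (LocalizedModule.map p'.primeCompl f) := by
  intro z
  induction z using LocalizedModule.induction_on with
  | h n s =>
    obtain ⟨w, hw⟩ := h (LocalizedModule.mk n (1 : p.primeCompl))
    induction w using LocalizedModule.induction_on with
    | h m u =>
      rw [LocalizedModule.map_mk, LocalizedModule.mk_eq] at hw
      obtain ⟨v, hv⟩ := hw
      simp only [Submonoid.smul_def, one_smul] at hv
      have hu' : (u : A) ∉ p' := fun hmem => u.2 (hle hmem)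
      have hv' : (v : A) ∉ p' := fun hmem => v.2 (hle hmem)
      refine ⟨LocalizedModule.mk ((v : A) • m) ⟨(v : A) * (u : A) * (s : A), p'.primeCompl.mul_mem
        (p'.primeCompl.mul_mem hv' hu') s.2⟩, ?_⟩
      rw [LocalizedModule.map_mk, LocalizedModule.mk_eq]
      refine ⟨1, ?_⟩
      simp only [Submonoid.smul_def, one_smul, map_smul]
      rw [hv]
      simp only [mul_smul]
      rw [smul_comm (s : A)]
      congr 1
      rw [smul_comm (s : A)]

end Generization

end Groth.Agent.Lib.Helper80
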