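import Mathlib
import Groth.Agent.Lib.Helper49.StalkNbhd
import Groth.Agent.Lib.Helper45.AffinePoints
import Groth.Agent.Lib.Helper80.DepthSpread

/-!
# Injectivity / surjectivity of stalk maps of quasi-coherent modules passes to generizations
(helper80)
-/

set_option autoImplicit false
universe u

open AlgebraicGeometry CategoryTheory Opposite TopologicalSpace

namespace Groth.Agent.Lib.Helper80

open Groth.Agent.Lib.Helper45 Groth.Agent.Lib.Helper49

attribute [local instance] stalkModuleSections

variable {X : Scheme.{u}} {F G : X.Modules} [F.IsQuasicoherent] [G.IsQuasicoherent] (φ : F ⟶ G)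

theorem stalkMap_injective_iff_localized {W : X.Opens} (hW : IsAffineOpen W) (y : W) :
    Function.Injective (stalkMap φ (y : X)).hom ↔
      Function.Injective (LocalizedModule.map (hW.primeIdealOf y).asIdeal.primeCompl
        (Groth.Agent.Lib.Helper49.appₗ φ W)) := by
  have h1 := isLocalizedModule_germₗ hW F y
  have h2 := isLocalizedModule_germₗ hW G y
  have heq := stalkMapₗ_eq_map φ hW y
  rw [← IsLocalizedModule.map_injective_iff_localizedModuleMap_injective
    (germₗ F y) (germₗ G y), ← heq]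
  rfl

theorem stalkMap_surjective_iff_localized {W : X.Opens} (hW : IsAffineOpen W) (y : W) :
    Function.Surjective (stalkMap φ (y : X)).hom ↔
      Function.Surjective (LocalizedModule.map (hW.primeIdealOf y).asIdeal.primeCompl
        (Groth.Agent.Lib.Helper49.appₗ φ W)) := by
  have h1 := isLocalizedModule_germₗ hW F y
  have h2 := isLocalizedModule_germₗ hW G y
  have heq := stalkMapₗ_eq_map φ hW y
  rw [← IsLocalizedModule.map_surjective_iff_localizedModuleMap_surjective
    (germₗ F y) (germₗ G y), ← heq]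
  rfl

theorem stalkMap_injective_of_specializes {x x' : X} (hx : x' ⤳ x)
    (h : Function.Injective (stalkMap φ x).hom) : Function.Injective (stalkMap φ x').hom := by
  obtain ⟨_, ⟨W, hW : IsAffineOpen W, rfl⟩, hxW, -⟩ :=
    X.isBasis_affineOpens.exists_subset_of_mem_open (Set.mem_univ x) isOpen_univ
  have hx'W : x' ∈ W := hx.mem_open W.2 hxW
  obtain ⟨y, rfl⟩ : ∃ y : W, (y : X) = x := ⟨⟨x, hxW⟩, rfl⟩
  obtain ⟨y', rfl⟩ : ∃ y' : W, (y' : X) = x' := ⟨⟨x', hx'W⟩, rfl⟩
  rw [stalkMap_injective_iff_localized φ hW] at h ⊢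
  exact localizedModule_map_injective_of_le _ ((primeIdealOf_le_iff hW y y').mpr hx) h

theorem stalkMap_surjective_of_specializes {x x' : X} (hx : x' ⤳ x)
    (h : Function.Surjective (stalkMap φ x).hom) : Function.Surjective (stalkMap φ x').hom := by
  obtain ⟨_, ⟨W, hW : IsAffineOpen W, rfl⟩, hxW, -⟩ :=
    X.isBasis_affineOpens.exists_subset_of_mem_open (Set.mem_univ x) isOpen_univ
  have hx'W : x' ∈ W := hx.mem_open W.2 hxW
  obtain ⟨y, rfl⟩ : ∃ y : W, (y : X) = x := ⟨⟨x, hxW⟩, rfl⟩
  obtain ⟨y', rfl⟩ : ∃ y' : W, (y' : X) = x' := ⟨⟨x', hx'W⟩, rfl⟩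
  rw [stalkMap_surjective_iff_localized φ hW] at h ⊢
  exact localizedModule_map_surjective_of_le _ ((primeIdealOf_le_iff hW y y').mpr hx) h

end Groth.Agent.Lib.Helper80
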