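import Mathlib
import Groth.Agent.Lib.Helper49.FinLocFree
import Groth.Agent.Lib.Helper49.FreeNear
import Groth.Agent.Lib.Helper49.FinitePresentation
import Groth.Agent.S4652

/-! Free locus of a finitely presented module; local freeness on an open via stalks. -/

set_option autoImplicit false
universe u
open CategoryTheory CategoryTheory.Limits AlgebraicGeometry TopologicalSpace

namespace Groth.Agent.Lib.Helper80.FreeLocus

open Groth.Agent.Lib.Helper49

attribute [local instance] Helper45.stalkModuleSections Helper45.sectionsBasicOpenModule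

variable {X : Scheme.{u}}

/-- If `F|_W ≅ O_W^n`, the stalks of `F` at points of `W` are free. -/
theorem free_stalk_of_iso_restrict_freeMod (F : X.Modules) [F.IsQuasicoherent] (W : X.Opens)
    (n : ℕ) (e : F.restrict W.ι ≅ FlatMod.freeMod (↑W) n) (x : X) (hx : x ∈ W) :
    Module.Free (X.presheaf.stalk x) ↑(F.presheaf.stalk x) := by
  obtain ⟨_, ⟨V, hV : IsAffineOpen V, rfl⟩, hxV, hVW⟩ :=
    X.isBasis_affineOpens.exists_subset_of_mem_open hx W.2
  let e' := sectionsEquivOfIsoFree F n (isoFreeOfLE hVW F n e)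
  obtain ⟨xV, rfl⟩ : ∃ xV : V, (xV : X) = x := ⟨⟨x, hxV⟩, rfl⟩
  have := Helper45.isLocalizedModule_germₗ hV F xV
  have := hV.isLocalization_stalk xV
  have : Module.Free Γ(X, V) Γ(F, V) := Module.Free.of_equiv e'.symm
  exact Module.free_of_isLocalizedModule (hV.primeIdealOf xV).asIdeal.primeCompl
    (Helper45.germₗ F xV)

/-- If `F|_U` is finite locally free, then near each point of `U`, `F` is free. -/
theorem exists_iso_restrict_freeMod_of_isFinLocFree_restrict (F : X.Modules) (U : X.Opens)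
    (h : FlatMod.IsFinLocFree (F.restrict U.ι)) (x : X) (hx : x ∈ U) :
    ∃ (W : X.Opens) (n : ℕ), x ∈ W ∧ Nonempty (F.restrict W.ι ≅ FlatMod.freeMod (↑W) n) := by
  obtain ⟨W, n, hxW, ⟨φ⟩⟩ := h ⟨x, hx⟩
  let f : (W : Scheme.{u}) ⟶ X := W.ι ≫ U.ι
  let φ' : F.restrict f ≅ FlatMod.freeMod (↑W) n :=
    (Scheme.Modules.restrictFunctorComp W.ι U.ι).app F ≪≫ φ
  obtain ⟨ψ⟩ := Groth.Agent.S4652.nonempty_iso_freeMod_opensRange F f n φ'
  exact ⟨f.opensRange, n, ⟨⟨⟨x, hx⟩, hxW⟩, rfl⟩, ⟨ψ⟩⟩

/-- If `F|_U` is finite locally free, the stalks of `F` at points of `U` are free. -/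
theorem free_stalk_of_isFinLocFree_restrict (F : X.Modules) [F.IsQuasicoherent] (U : X.Opens)
    (h : FlatMod.IsFinLocFree (F.restrict U.ι)) (x : X) (hx : x ∈ U) :
    Module.Free (X.presheaf.stalk x) ↑(F.presheaf.stalk x) := by
  obtain ⟨W, n, hxW, ⟨e⟩⟩ := exists_iso_restrict_freeMod_of_isFinLocFree_restrict F U h x hx
  exact free_stalk_of_iso_restrict_freeMod F W n e x hxW

/-- Local freeness of a restriction along an open immersion, from local trivialisations of `M`
at the points of the image. -/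
theorem isFinLocFree_restrict_of_forall {U : Scheme.{u}} (j : U ⟶ X) [IsOpenImmersion j]
    (M : X.Modules)
    (h : ∀ y : U, ∃ (V : X.Opens) (n : ℕ), j y ∈ V ∧
      Nonempty (M.restrict V.ι ≅ FlatMod.freeMod (↑V) n)) :
    FlatMod.IsFinLocFree ((Scheme.Modules.restrictFunctor j).obj M) := by
  intro y
  obtain ⟨V, n, hxV, ⟨e⟩⟩ := h y
  let W : U.Opens := j ⁻¹ᵁ V
  have hyW : y ∈ W := hxV
  have hrange : Set.range (W.ι ≫ j) ⊆ Set.range V.ι := by
    rintro _ ⟨z, rfl⟩
    rw [Scheme.Opens.range_ι]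
    exact z.2
  let g : (W : Scheme.{u}) ⟶ (V : Scheme.{u}) := IsOpenImmersion.lift V.ι (W.ι ≫ j) hrange
  have hg : g ≫ V.ι = W.ι ≫ j := IsOpenImmersion.lift_fac _ _ _
  have : IsOpenImmersion g := IsOpenImmersion.of_comp g V.ι
  refine ⟨W, n, hyW, ⟨?_⟩⟩
  exact (Scheme.Modules.restrictFunctorComp W.ι j).symm.app M ≪≫
    (Scheme.Modules.restrictFunctorCongr hg.symm).app M ≪≫
    (Scheme.Modules.restrictFunctorComp g V.ι).app M ≪≫
    (Scheme.Modules.restrictFunctor g).mapIso e ≪≫ restrictFreeIso n g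

/-- The free locus of a finitely presented module is open. -/
theorem isOpen_setOf_free_stalk (F : X.Modules)
    (hF : SheafOfModules.IsFinitePresentation (R := X.ringCatSheaf) F) :
    IsOpen {x : X | Module.Free (X.presheaf.stalk x) ↑(F.presheaf.stalk x)} := by
  have := isQuasicoherent_of_isFinitePresentation F hF
  rw [isOpen_iff_forall_mem_open]
  intro x hx
  obtain ⟨W, n, hxW, ⟨e⟩⟩ := exists_iso_restrict_freeMod_of_stalk_free F hF x hx
  exact ⟨W, fun y hy => free_stalk_of_iso_restrict_freeMod F W n e y hy, W.2, hxW⟩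

/-- A finitely presented module is finite locally free on an open all of whose points have
free stalks. -/
theorem isFinLocFree_restrict_of_free_stalk (F : X.Modules)
    (hF : SheafOfModules.IsFinitePresentation (R := X.ringCatSheaf) F) (U : X.Opens)
    (h : ∀ x ∈ U, Module.Free (X.presheaf.stalk x) ↑(F.presheaf.stalk x)) :
    FlatMod.IsFinLocFree (F.restrict U.ι) :=
  isFinLocFree_restrict_of_forall U.ι F fun y =>
    exists_iso_restrict_freeMod_of_stalk_free F hF (U.ι y) (h _ y.2)

end Groth.Agent.Lib.Helper80.FreeLocus
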