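import Mathlib
import Groth.Agent.Lib.Helper80.ModHartogs
import Groth.Agent.Lib.Helper80.ModHartogsConv
import Groth.Agent.Lib.Helper49.ZClosure7

/-!
# Hartogs extension for flat quasi-coherent modules (helper80)

If `depth O_{X,x} ≥ 2` for all `x ∉ U` (locally Noetherian `X`) and `A` is a flat quasi-coherent
module, then `A → j_* j^* A` is an isomorphism.
-/

set_option autoImplicit false
universe u

open AlgebraicGeometry CategoryTheory Opposite TopologicalSpace

namespace Groth.Agent.Lib.Helper80

open Groth.Agent.Lib.Helper45 Groth.Agent.Lib.Helper2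

section Algebra

open scoped Pointwise

variable {R : Type u} [CommRing R] (N : Type u) [AddCommGroup N] [Module R N]

lemma regModM_iff_isSMulRegular_quotSMulTop (a b : R) :
    RegModM N a b ↔ IsSMulRegular (QuotSMulTop a N) b := by
  unfold QuotSMulTop
  rw [isSMulRegular_quotient_iff_mem_of_smul_mem]
  constructor
  · intro h n hn
    rw [Submodule.mem_smul_pointwise_iff_exists] at hn
    obtain ⟨n', -, hn'⟩ := hn
    obtain ⟨c, hc⟩ := h n ⟨n', hn'.symm⟩
    rw [hc]
    exact Submodule.smul_mem_pointwise_smul _ _ _ trivial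
  · intro h n ⟨n', hn'⟩
    have : b • n ∈ a • (⊤ : Submodule R N) := by
      rw [hn']; exact Submodule.smul_mem_pointwise_smul _ _ _ trivial
    have h1 := h n this
    rw [Submodule.mem_smul_pointwise_iff_exists] at h1
    obtain ⟨c, -, hc⟩ := h1
    exact ⟨c, hc.symm⟩

open TensorProduct in
/-- A regular pair on the ring stays a regular pair on a flat module. -/
lemma regular_pair_of_flat [Module.Flat R N] (a b : R) (ha : IsSMulRegular R a)
    (hab : RegModM R a b) : IsSMulRegular N a ∧ RegModM N a b := by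
  constructor
  · have hreg : IsRegular a := ⟨ha, by
      intro x y hxy
      apply ha
      change a • x = a • y
      simpa [mul_comm] using hxy⟩
    exact Module.Flat.isSMulRegular_of_isRegular hreg
  · rw [regModM_iff_isSMulRegular_quotSMulTop] at hab ⊢
    have h1 : IsSMulRegular (R ⧸ Ideal.span {a}) b := by
      have e : QuotSMulTop a R ≃ₗ[R] (R ⧸ Ideal.span {a}) :=
        (QuotSMulTop.equivQuotTensor a R).trans (TensorProduct.rid R _)
      exact (e.isSMulRegular_congr b).mp hab
    have h2 : IsSMulRegular ((R ⧸ Ideal.span {a}) ⊗[R] N) b := IsSMulRegular.rTensor N h1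
    exact ((QuotSMulTop.equivQuotTensor a N).isSMulRegular_congr b).mpr h2

end Algebra

attribute [local instance] stalkModuleSections

variable {X : Scheme.{u}}

/-- sections over an affine open of a stalkwise flat quasi-coherent module are flat -/
theorem flat_sections_of_isFlat (A : X.Modules) [A.IsQuasicoherent] (hfl : FlatMod.IsFlat A)
    {W : X.Opens} (hW : IsAffineOpen W) : Module.Flat Γ(X, W) Γ(A, W) := by
  apply Module.flat_of_localized_maximal
  intro P hP
  obtain ⟨x, hx⟩ := exists_primeIdealOf_eq hW ⟨P, hP.isPrime⟩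
  have hxP : (hW.primeIdealOf x).asIdeal = P := congrArg PrimeSpectrum.asIdeal hx
  subst hxP
  have := hW.isLocalization_stalk x
  have := isLocalizedModule_germₗ hW A x
  have h1 : Module.Flat (X.presheaf.stalk (x : X)) (A.presheaf.stalk (x : X)) := hfl x
  have h2 : Module.Flat Γ(X, W) (X.presheaf.stalk (x : X)) :=
    IsLocalization.flat _ (hW.primeIdealOf x).asIdeal.primeCompl
  have h3 : Module.Flat Γ(X, W) (A.presheaf.stalk (x : X)) :=
    Module.Flat.trans Γ(X, W) (X.presheaf.stalk (x : X)) _
  exact Module.Flat.of_linearEquiv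
    (IsLocalizedModule.iso (hW.primeIdealOf x).asIdeal.primeCompl (germₗ A x))

/-- **Hartogs for flat quasi-coherent modules, affine case.** -/
theorem flat_res_bijective_of_isAffineOpen [IsLocallyNoetherian X] (A : X.Modules)
    [A.IsQuasicoherent] (hfl : FlatMod.IsFlat A) (U : X.Opens)
    (hdepth : ∀ x : X, x ∉ U →
      (2 : ℕ∞) ≤ LocCoh.depth (X.presheaf.stalk x) (X.presheaf.stalk x))
    (W : X.Opens) (hW : IsAffineOpen W) :
    Function.Bijective (ρ A (inf_le_left : W ⊓ U ≤ W)) := by
  haveI : IsNoetherianRing Γ(X, W) := IsLocallyNoetherian.component_noetherian ⟨W, hW⟩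
  obtain ⟨I, hI⟩ := exists_ideal_compl hW U
  have hdepthI : (2 : ℕ∞) ≤ LocCoh.idealDepth I Γ(X, W) := by
    have := Groth.Agent.Lib.Helper29.le_idealDepth_of_forall_le_depth_localization Γ(X, W) 2
      Γ(X, W) I (by
        intro p hp hIp
        obtain ⟨x, hx⟩ := exists_primeIdealOf_eq hW ⟨p, hp⟩
        have hp' : (hW.primeIdealOf x).asIdeal = p := congrArg PrimeSpectrum.asIdeal hx
        subst hp'
        have hxU : (x : X) ∉ U := fun h => ((hI x).mp h) hIp
        have := hW.isLocalization_stalk x
        have hloc : IsLocalizedModule (hW.primeIdealOf x).asIdeal.primeCompl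
            (Algebra.linearMap Γ(X, W) (X.presheaf.stalk (x : X))) :=
          (isLocalizedModule_iff_isLocalization).mpr inferInstance
        rw [← depth_eq_depth_localizedModule (hW.primeIdealOf x).asIdeal
          (X.presheaf.stalk (x : X)) (Algebra.linearMap Γ(X, W) (X.presheaf.stalk (x : X)))]
        exact hdepth x hxU)
    exact_mod_cast this
  obtain ⟨a, b, haI, hbI, ha, hab⟩ := exists_regular_pair_of_idealDepth I hdepthI
  have hflat := flat_sections_of_isFlat A hfl hW
  obtain ⟨ha', hab'⟩ := regular_pair_of_flat Γ(A, W) a b ha hab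
  exact ρ_bijective_of_regular_pair A hW (W ⊓ U) inf_le_left a b
    (basicOpen_le_of_mem hW U I hI haI) (basicOpen_le_of_mem hW U I hI hbI) ha' hab'

/-- **Hartogs for flat quasi-coherent modules.** -/
theorem flat_res_bijective [IsLocallyNoetherian X] (A : X.Modules)
    [A.IsQuasicoherent] (hfl : FlatMod.IsFlat A) (U : X.Opens)
    (hdepth : ∀ x : X, x ∉ U →
      (2 : ℕ∞) ≤ LocCoh.depth (X.presheaf.stalk x) (X.presheaf.stalk x))
    (V : X.Opens) :
    Function.Bijective (ρ A (inf_le_left : V ⊓ U ≤ V)) := by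
  let Fs : TopCat.Sheaf Ab X := ⟨A.presheaf, A.isSheaf⟩
  have key : Function.Bijective (SheafBasis.r Fs.1 (inf_le_left : V ⊓ U ≤ V)) := by
    refine SheafBasis.r_bijective_of_basis Fs U {W | IsAffineOpen W} ?_ ?_ V
    · intro V x hx
      obtain ⟨W, hW, hxW, hWV⟩ := TopologicalSpace.Opens.isBasis_iff_nbhd.mp
        X.isBasis_affineOpens hx
      exact ⟨W, hW, hxW, hWV⟩
    · intro W hW
      exact flat_res_bijective_of_isAffineOpen A hfl U hdepth W hW
  exact key

open Groth.Agent.Lib.Helper49.ZClosure ZClos in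
/-- the unit `A → j_*(A|_U)` is an isomorphism for flat quasi-coherent `A` when
`depth O_x ≥ 2` off `U`. -/
theorem isIso_unit_of_flat [IsLocallyNoetherian X] (A : X.Modules)
    [A.IsQuasicoherent] (hfl : FlatMod.IsFlat A) (U : X.Opens)
    (hdepth : ∀ x : X, x ∉ U →
      (2 : ℕ∞) ≤ LocCoh.depth (X.presheaf.stalk x) (X.presheaf.stalk x)) :
    IsIso ((Scheme.Modules.restrictAdjunction U.ι).unit.app A) := by
  refine Scheme.Modules.Hom.isIso_iff_isIso_app.mpr fun V => ?_
  rw [ConcreteCategory.isIso_iff_bijective]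
  have h := flat_res_bijective A hfl U hdepth V
  have he : V ⊓ U = U.ι ''ᵁ U.ι ⁻¹ᵁ V := by rw [ι_image_preimage, inf_comm]
  exact (map_bijective_iff_of_eq A inf_le_left (U.ι.image_preimage_le V) he).mp h

end Groth.Agent.Lib.Helper80
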