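/-
helper80: the pullback of a quasi-coherent module of finite type along any morphism of schemes is
of finite type (hence pullbacks of coherent modules are coherent).
-/
import Mathlib
import Groth.Prelude.Def_Coh
import Groth.Agent.Lib.Helper16.FlatPull.Chart
import Groth.Agent.Lib.Helper49.QcqsModules
import Groth.Agent.Lib.Helper45.FiniteType
import Groth.Agent.Lib.Helper49.ClosedImmUnit

set_option autoImplicit false
set_option linter.style.haveILetI false
universe u

open AlgebraicGeometry CategoryTheory Limits TensorProduct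

namespace Groth.Agent.Lib.Helper80

variable {X Y : Scheme.{u}} (h : X ⟶ Y)

/-- The pullback of a quasi-coherent module of finite type is of finite type. -/
theorem isFiniteType_pullback (G : Y.Modules) [G.IsQuasicoherent]
    (hG : SheafOfModules.IsFiniteType (R := Y.ringCatSheaf) G) :
    SheafOfModules.IsFiniteType (R := X.ringCatSheaf) ((Scheme.Modules.pullback h).obj G) := by
  have hq : ((Scheme.Modules.pullback h).obj G).IsQuasicoherent :=
    Groth.Agent.Lib.Helper16.FlatPull.isQuasicoherent_pullback h G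
  have : ∀ p : {p : Y.affineOpens × X.affineOpens // p.2.1 ≤ h ⁻¹ᵁ p.1.1},
      IsOpenImmersion (p.1.2.2.fromSpec) := fun p => IsAffineOpen.isOpenImmersion_fromSpec _
  refine Groth.Agent.Lib.Helper49.isFiniteType_of_forall_restrict _
    (ι := {p : Y.affineOpens × X.affineOpens // p.2.1 ≤ h ⁻¹ᵁ p.1.1})
    (fun p => Spec Γ(X, p.1.2.1)) (fun p => p.1.2.2.fromSpec) (fun x => ?_) (fun p => ?_)
  · obtain ⟨U, W, hU, hW, hWU, hxW⟩ := Groth.Agent.Lib.Helper16.FlatPull.exists_charts h x
    refine ⟨⟨(⟨U, hU⟩, ⟨W, hW⟩), hWU⟩, ?_⟩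
    rw [hW.range_fromSpec]
    exact hxW
  · obtain ⟨⟨⟨U, hU⟩, ⟨W, hW⟩⟩, hWU⟩ := p
    change SheafOfModules.IsFiniteType
      (((Scheme.Modules.pullback h).obj G).restrict hW.fromSpec)
    have : (((Scheme.Modules.pullback h).obj G).restrict hW.fromSpec).IsQuasicoherent :=
      Scheme.Modules.isQuasicoherent_restrictFunctor _ _
    refine (Groth.Agent.Lib.Helper49.isFiniteType_iff_finite_Γ Γ(X, W) _).mpr ?_
    have hfin : Module.Finite Γ(X, W) Γ((Scheme.Modules.pullback h).obj G, W) := by
      obtain ⟨f, hf⟩ := Groth.Agent.Lib.Helper16.FlatPull.exists_isBaseChange_sections h hU hW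
        hWU G
      letI := (h.appLE U W hWU).hom.toAlgebra
      letI : Module Γ(Y, U) Γ((Scheme.Modules.pullback h).obj G, W) :=
        Module.compHom _ (h.appLE U W hWU).hom
      haveI : IsScalarTower Γ(Y, U) Γ(X, W)
          Γ((Scheme.Modules.pullback h).obj G, W) := IsScalarTower.of_compHom _ _ _
      haveI : Module.Finite Γ(Y, U) Γ(G, U) :=
        Groth.Agent.Lib.Helper49.finite_sections_of_isFiniteType G hG hU
      exact Module.Finite.equiv hf.equiv
    exact Module.Finite.equiv (Groth.Agent.Lib.Helper49.sectionsFromSpecTopEquiv hW _).symm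

/-- The pullback of a coherent module is coherent. -/
theorem isCoh_pullback (G : Y.Modules) (hG : Coh.IsCoh G) :
    Coh.IsCoh ((Scheme.Modules.pullback h).obj G) := by
  have : G.IsQuasicoherent := hG.1
  exact ⟨Groth.Agent.Lib.Helper16.FlatPull.isQuasicoherent_pullback h G,
    isFiniteType_pullback h G hG.2⟩

end Groth.Agent.Lib.Helper80
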