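import Mathlib

/-!
# Kähler differentials from a pushout with a retraction (helper80)

Let `A → B` be a ring map and `C` a ring with two maps `p₁ p₂ : B → C` making `C` the pushout of
`B ← A → B`, and let `C → B` (an algebra structure) be a common retraction.  If `M ≅ ker (C → B)`
as `C`-modules and `N ≅ B ⊗[C] M`, then a `B`-linear map `Ω[B⁄A] → N` sending `D s` to the class of
`p₂ s - p₁ s` is bijective.
-/

set_option autoImplicit false
universe u

open TensorProduct

namespace Groth.Agent.Lib.Helper80.KaehlerPushout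

variable {A B C : Type u} [CommRing A] [CommRing B] [CommRing C] [Algebra A B] [Algebra C B]
  (p₁ p₂ : B →+* C)

/-- the universal property of a pushout of `B ← A → B` in commutative rings (universe `u`) -/
def IsPO : Prop :=
  p₁.comp (algebraMap A B) = p₂.comp (algebraMap A B) ∧
  ∀ (T : Type u) [CommRing T] (g₁ g₂ : B →+* T),
    g₁.comp (algebraMap A B) = g₂.comp (algebraMap A B) →
      ∃! g : C →+* T, g.comp p₁ = g₁ ∧ g.comp p₂ = g₂

variable {p₁ p₂}

section

variable (hpo : IsPO (A := A) p₁ p₂)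
  (h₁ : ∀ b, algebraMap C B (p₁ b) = b) (h₂ : ∀ b, algebraMap C B (p₂ b) = b)

include hpo in
theorem hom_ext' {T : Type u} [CommRing T] (g g' : C →+* T) (e₁ : g.comp p₁ = g'.comp p₁)
    (e₂ : g.comp p₂ = g'.comp p₂) : g = g' := by
  have hcomm : (g'.comp p₁).comp (algebraMap A B) = (g'.comp p₂).comp (algebraMap A B) := by
    rw [RingHom.comp_assoc, RingHom.comp_assoc, hpo.1]
  obtain ⟨k, -, huniq⟩ := hpo.2 T (g'.comp p₁) (g'.comp p₂) hcomm
  rw [huniq g ⟨e₁, e₂⟩, huniq g' ⟨rfl, rfl⟩]

include hpo in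
/-- the comparison map to the tensor product -/
theorem exists_toTensor : ∃ ψ : C →+* B ⊗[A] B, (∀ b, ψ (p₁ b) = b ⊗ₜ 1) ∧ (∀ b, ψ (p₂ b) = 1 ⊗ₜ b) := by
  obtain ⟨ψ, ⟨hk1, hk2⟩, -⟩ := hpo.2 (B ⊗[A] B)
    (Algebra.TensorProduct.includeLeftRingHom)
    ((Algebra.TensorProduct.includeRight : B →ₐ[A] B ⊗[A] B) : B →+* B ⊗[A] B) (by
      ext a
      simp only [RingHom.comp_apply, Algebra.TensorProduct.includeLeftRingHom_apply,
        AlgHom.coe_toRingHom, Algebra.TensorProduct.includeRight_apply]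
      rw [Algebra.algebraMap_eq_smul_one, TensorProduct.smul_tmul, ← Algebra.algebraMap_eq_smul_one])
  refine ⟨ψ, fun b => ?_, fun b => ?_⟩
  · exact congrArg (fun k : B →+* B ⊗[A] B => k b) hk1
  · exact congrArg (fun k : B →+* B ⊗[A] B => k b) hk2

include hpo h₁ h₂ in
theorem lmul_toTensor (ψ : C →+* B ⊗[A] B) (hψ₁ : ∀ b, ψ (p₁ b) = b ⊗ₜ 1)
    (hψ₂ : ∀ b, ψ (p₂ b) = 1 ⊗ₜ b) (c : C) :
    Algebra.TensorProduct.lmul' (S := B) A (ψ c) = algebraMap C B c := by
  have : ((Algebra.TensorProduct.lmul' (S := B) A : B ⊗[A] B →ₐ[A] B) : B ⊗[A] B →+* B).comp ψ =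
      algebraMap C B := by
    apply hom_ext' hpo
    · ext b
      simp only [RingHom.comp_apply, AlgHom.coe_toRingHom, hψ₁, h₁,
        Algebra.TensorProduct.lmul'_apply_tmul, mul_one]
    · ext b
      simp only [RingHom.comp_apply, AlgHom.coe_toRingHom, hψ₂, h₂,
        Algebra.TensorProduct.lmul'_apply_tmul, one_mul]
  exact congrArg (fun k : C →+* B => k c) this

include hpo h₁ h₂ in
/-- the kernel of the retraction is generated by the differences `p₂ s - p₁ s` -/
theorem ker_le_span (c : C) (hc : algebraMap C B c = 0) :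
    c ∈ Ideal.span (Set.range fun s : B => p₂ s - p₁ s) := by
  set I' : Ideal C := Ideal.span (Set.range fun s : B => p₂ s - p₁ s) with hI'
  have hq : ∀ s : B, Ideal.Quotient.mk I' (p₂ s) = Ideal.Quotient.mk I' (p₁ s) := by
    intro s
    rw [Ideal.Quotient.eq]
    exact Ideal.subset_span ⟨s, rfl⟩
  have key : ((Ideal.Quotient.mk I').comp p₁).comp (algebraMap C B) = Ideal.Quotient.mk I' := by
    apply hom_ext' hpo
    · ext b
      simp only [RingHom.comp_apply, h₁]
    · ext b
      simp only [RingHom.comp_apply, h₂, hq]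
  have := congrArg (fun k : C →+* C ⧸ I' => k c) key
  simp only [RingHom.comp_apply, hc, map_zero] at this
  exact Ideal.Quotient.eq_zero_iff_mem.mp this.symm

end

section Lift

omit [Algebra A B] in
theorem exists_lift_of_semilinear {M : Type u} [AddCommGroup M] [Module C M]
    {Q : Type u} [AddCommGroup Q] [Module B Q]
    (g : M →+ Q) (hg : ∀ (c : C) (x : M), g (c • x) = algebraMap C B c • g x) :
    ∃ σ : B ⊗[C] M →ₗ[B] Q, ∀ b x, σ (b ⊗ₜ x) = b • g x := by
  letI : Module C Q := Module.compHom Q (algebraMap C B)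
  haveI : IsScalarTower C B Q := IsScalarTower.of_algebraMap_smul fun _ _ => rfl
  let g' : M →ₗ[C] Q := { toFun := g, map_add' := map_add g, map_smul' := fun c x => hg c x }
  exact ⟨LinearMap.liftBaseChange B g', fun b x => by
    rw [LinearMap.liftBaseChange_tmul]; rfl⟩

end Lift

section Main

variable (hpo : IsPO (A := A) p₁ p₂)
  (h₁ : ∀ b, algebraMap C B (p₁ b) = b) (h₂ : ∀ b, algebraMap C B (p₂ b) = b)
  {M : Type u} [AddCommGroup M] [Module C M] (ι : M →ₗ[C] C) (hι : Function.Injective ι)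
  (hker : ∀ x, algebraMap C B (ι x) = 0)
  (hrange : ∀ c, algebraMap C B c = 0 → ∃ x, ι x = c)

include hpo h₁ h₂ hι hker hrange in
/-- **Main algebraic statement.** -/
theorem bijective_of_isPO {N : Type u} [AddCommGroup N] [Module B N] (e : B ⊗[C] M ≃ₗ[B] N)
    (τ : Ω[B⁄A] →ₗ[B] N)
    (hτ : ∀ s : B, ∃ x : M, ι x = p₂ s - p₁ s ∧
      τ (KaehlerDifferential.D A B s) = e (1 ⊗ₜ x)) :
    Function.Bijective τ := by
  obtain ⟨ψ, hψ₁, hψ₂⟩ := exists_toTensor hpo
  have hlm := lmul_toTensor hpo h₁ h₂ ψ hψ₁ hψ₂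
  -- the map `G`
  let G : C →+ Ω[B⁄A] :=
    ((KaehlerDifferential.D A B).tensorProductTo.toAddMonoidHom).comp ψ.toAddMonoidHom
  have hG : ∀ c, G c = (KaehlerDifferential.D A B).tensorProductTo (ψ c) := fun _ => rfl
  have hGmul : ∀ c x : C, algebraMap C B x = 0 → G (c * x) = algebraMap C B c • G x := by
    intro c x hx
    rw [hG, hG, map_mul, Derivation.tensorProductTo_mul, hlm, hlm, hx, zero_smul, add_zero]
  have hGdiff : ∀ s : B, G (p₂ s - p₁ s) = KaehlerDifferential.D A B s := by
    intro s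
    rw [hG, map_sub, hψ₁, hψ₂, map_sub, Derivation.tensorProductTo_tmul,
      Derivation.tensorProductTo_tmul, one_smul, Derivation.map_one_eq_zero, smul_zero, sub_zero]
  let g : M →+ Ω[B⁄A] := G.comp ι.toAddMonoidHom
  have hg : ∀ (c : C) (x : M), g (c • x) = algebraMap C B c • g x := by
    intro c x
    change G (ι (c • x)) = algebraMap C B c • G (ι x)
    rw [map_smul, smul_eq_mul, hGmul _ _ (hker x)]
  obtain ⟨σ, hσ⟩ := exists_lift_of_semilinear g hg
  constructor
  · -- injective via the retraction `σ ∘ e.symm`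
    have hret : (σ.comp e.symm.toLinearMap).comp τ = LinearMap.id := by
      apply Derivation.liftKaehlerDifferential_unique
      ext s
      obtain ⟨x, hx, hτx⟩ := hτ s
      change σ (e.symm (τ (KaehlerDifferential.D A B s))) = KaehlerDifferential.D A B s
      rw [hτx, LinearEquiv.symm_apply_apply, hσ, one_smul]
      change G (ι x) = _
      rw [hx, hGdiff]
    intro a b hab
    have := congrArg (σ.comp e.symm.toLinearMap) hab
    rw [← LinearMap.comp_apply, ← LinearMap.comp_apply, hret] at this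
    exact this
  · -- surjective
    let S : Submodule C C :=
      { carrier := {c | ∃ x : M, ι x = c ∧ e (1 ⊗ₜ x) ∈ LinearMap.range τ}
        zero_mem' := ⟨0, map_zero _, by rw [tmul_zero, map_zero]; exact Submodule.zero_mem _⟩
        add_mem' := by
          rintro _ _ ⟨x, rfl, hx⟩ ⟨y, rfl, hy⟩
          exact ⟨x + y, map_add _ _ _, by rw [tmul_add, map_add]; exact Submodule.add_mem _ hx hy⟩
        smul_mem' := by
          rintro c _ ⟨x, rfl, hx⟩
          refine ⟨c • x, map_smul _ _ _, ?_⟩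
          have h3 : (1 : B) ⊗ₜ[C] (c • x) = algebraMap C B c • ((1 : B) ⊗ₜ[C] x) := by
            rw [← TensorProduct.smul_tmul, TensorProduct.smul_tmul', Algebra.smul_def, mul_one,
              smul_eq_mul, mul_one]
          rw [h3, map_smul]
          exact Submodule.smul_mem _ _ hx }
    have hspan : Ideal.span (Set.range fun s : B => p₂ s - p₁ s) ≤ S := by
      rw [Ideal.span_le]
      rintro _ ⟨s, rfl⟩
      obtain ⟨x, hx, hτx⟩ := hτ s
      exact ⟨x, hx, ⟨_, hτx⟩⟩
    have hone : ∀ x : M, e (1 ⊗ₜ x) ∈ LinearMap.range τ := by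
      intro x
      obtain ⟨y, hy, hmem⟩ := hspan (ker_le_span hpo h₁ h₂ (ι x) (hker x))
      rwa [hι hy] at hmem
    intro n
    obtain ⟨t, rfl⟩ := e.surjective n
    induction t using TensorProduct.induction_on with
    | zero => exact ⟨0, by rw [map_zero, map_zero]⟩
    | tmul b x =>
      have h4 : b ⊗ₜ[C] x = b • ((1 : B) ⊗ₜ[C] x) := by
        rw [TensorProduct.smul_tmul', smul_eq_mul, mul_one]
      rw [h4, map_smul]
      exact Submodule.smul_mem _ _ (hone x)
    | add t t' ht ht' =>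
      rw [map_add]
      exact Submodule.add_mem (LinearMap.range τ) ht ht'

end Main

end Groth.Agent.Lib.Helper80.KaehlerPushout
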