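import Mathlib
import Groth.Prelude.Def_OmAff
import Groth.Agent.Lib.Helper51.OmegaUniv.Conormal
import Groth.Agent.Lib.Helper80.KaehlerPushout

/-!
# The frozen sheaf of differentials on affine charts (helper80)

For `f : X ⟶ Y` quasi-separated and affine opens `U ≤ f⁻¹ V`, the comparison map
`OmAff.toSect f V U h : Ω[Γ(X,U)/Γ(Y,V)] ⟶ Γ(Omega.sheaf f, U)` is an isomorphism.
-/

set_option autoImplicit false
set_option linter.style.haveILetI false
universe u

open AlgebraicGeometry CategoryTheory Limits TopologicalSpace Opposite TensorProduct OmegaSh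

namespace Groth.Agent.Lib.Helper80.OmegaAffine

open Groth.Agent.Lib.Helper51.OmegaUniv Groth.Agent.Lib.Helper80.KaehlerPushout

/-- from a pushout square in `CommRingCat` to `IsPO` -/
theorem isPO_of_isPushout {A B C : CommRingCat.{u}} {φ : A ⟶ B} {p₁ p₂ : B ⟶ C}
    (hpo : IsPushout φ φ p₁ p₂) :
    letI := φ.hom.toAlgebra
    IsPO (A := A) (B := B) (C := C) p₁.hom p₂.hom := by
  letI := φ.hom.toAlgebra
  refine ⟨?_, fun T _ g₁ g₂ hg => ?_⟩
  · have := hpo.w
    ext a
    exact congr($this a)
  · have hg' : φ ≫ CommRingCat.ofHom g₁ = φ ≫ CommRingCat.ofHom g₂ := by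
      ext a
      exact congr($hg a)
    refine ⟨(hpo.desc (CommRingCat.ofHom g₁) (CommRingCat.ofHom g₂) hg').hom, ⟨?_, ?_⟩, ?_⟩
    · have := hpo.inl_desc _ _ hg'
      ext b
      exact congr($this b)
    · have := hpo.inr_desc _ _ hg'
      ext b
      exact congr($this b)
    · rintro g ⟨e1, e2⟩
      have : CommRingCat.ofHom g = hpo.desc (CommRingCat.ofHom g₁) (CommRingCat.ofHom g₂) hg' := by
        apply hpo.hom_ext
        · rw [hpo.inl_desc]
          ext b
          exact congr($e1 b)
        · rw [hpo.inr_desc]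
          ext b
          exact congr($e2 b)
      rw [← this]
      rfl

variable {X Y : Scheme.{u}} (f : X ⟶ Y)

section Chart

variable {U : X.Opens} (hU : IsAffineOpen U) {V : Y.Opens} (hV : IsAffineOpen V)
  (h : U ≤ f ⁻¹ᵁ V)

include hU hV h in
/-- `pr₁⁻¹ U ∩ pr₂⁻¹ U` is affine -/
theorem isAffineOpen_diagNbhd : IsAffineOpen (diagNbhd f U) := by
  have H : IsPullback (pullback.fst f f) (pullback.snd f f) f f := IsPullback.of_hasPullback f f
  have : IsAffine (V : Scheme.{u}) := hV
  have : IsAffine (U : Scheme.{u}) := hU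
  exact .of_isIso (Scheme.Hom.isPullback_resLE H h h rfl).isoPullback.hom

include hU hV h in
/-- the sections over `pr₁⁻¹ U ∩ pr₂⁻¹ U` are the pushout -/
theorem isPushout_diagNbhd :
    IsPushout (f.appLE V U h) (f.appLE V U h)
      ((pullback.fst f f).appLE U (diagNbhd f U) inf_le_left)
      ((pullback.snd f f).appLE U (diagNbhd f U) inf_le_right) := by
  have H : IsPullback (pullback.fst f f) (pullback.snd f f) f f := IsPullback.of_hasPullback f f
  have := isIso_pushoutSection_of_isAffineOpen H h h (UY := diagNbhd f U) rfl hV hU hU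
  exact (isIso_pushoutSection_iff H h h rfl).mp this

theorem preimage_diagNbhd (U : X.Opens) : pullback.diagonal f ⁻¹ᵁ diagNbhd f U = U :=
  le_antisymm (diagonal_preimage_le f (le_refl _)) (le_preimage_diagNbhd f U)

variable [QuasiSeparated f]

include hU hV h in
/-- **The affine computation**: the comparison map is bijective on affine charts. -/
theorem bijective_toSect : Function.Bijective (OmAff.toSect f V U h).hom := by
  have hD : IsAffineOpen (diagNbhd f U) := isAffineOpen_diagNbhd f hU hV h
  have hUD : U ≤ pullback.diagonal f ⁻¹ᵁ diagNbhd f U := le_preimage_diagNbhd f U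
  letI algAB : Algebra Γ(Y, V) Γ(X, U) := (f.appLE V U h).hom.toAlgebra
  letI algCB : Algebra Γ(pullback f f, diagNbhd f U) Γ(X, U) :=
    ((pullback.diagonal f).appLE (diagNbhd f U) U hUD).hom.toAlgebra
  have hpo := isPO_of_isPushout (isPushout_diagNbhd f hU hV h)
  obtain ⟨e, he⟩ := exists_conormal_sections_equiv (pullback.diagonal f) hD hU hUD
  have h₁ : ∀ b : Γ(X, U), algebraMap Γ(pullback f f, diagNbhd f U) Γ(X, U)
      (((pullback.fst f f).appLE U (diagNbhd f U) inf_le_left).hom b) = b := by
    intro b
    have e1 : (pullback.fst f f).appLE U (diagNbhd f U) inf_le_left ≫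
        (pullback.diagonal f).appLE (diagNbhd f U) U hUD = 𝟙 _ := by
      rw [Scheme.Hom.appLE_comp_appLE]
      exact id_appLE_eq_id (pullback.diagonal_fst f) _
    exact congr($e1 b)
  have h₂ : ∀ b : Γ(X, U), algebraMap Γ(pullback f f, diagNbhd f U) Γ(X, U)
      (((pullback.snd f f).appLE U (diagNbhd f U) inf_le_right).hom b) = b := by
    intro b
    have e1 : (pullback.snd f f).appLE U (diagNbhd f U) inf_le_right ≫
        (pullback.diagonal f).appLE (diagNbhd f U) U hUD = 𝟙 _ := by
      rw [Scheme.Hom.appLE_comp_appLE]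
      exact id_appLE_eq_id (pullback.diagonal_snd f) _
    exact congr($e1 b)
  let ι : Γ(ClSub.idealMod (pullback.diagonal f).ker, diagNbhd f U) →ₗ[Γ(pullback f f, diagNbhd f U)]
      Γ(pullback f f, diagNbhd f U) :=
    { toFun := idealSect (pullback.diagonal f).ker (diagNbhd f U)
      map_add' := map_add _
      map_smul' := fun r s => by rw [idealSect_smul]; rfl }
  have hι : Function.Injective ι := idealSect_injective _ _
  have happLE : ∀ c : Γ(pullback f f, diagNbhd f U),
      algebraMap Γ(pullback f f, diagNbhd f U) Γ(X, U) c =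
        X.presheaf.map (homOfLE hUD).op ((pullback.diagonal f).app (diagNbhd f U) c) := fun c => rfl
  have hker : ∀ x, algebraMap Γ(pullback f f, diagNbhd f U) Γ(X, U) (ι x) = 0 := by
    intro x
    rw [happLE]
    have := app_idealSect (pullback.diagonal f) hD x
    change X.presheaf.map (homOfLE hUD).op ((pullback.diagonal f).app (diagNbhd f U)
      (idealSect (pullback.diagonal f).ker (diagNbhd f U) x)) = 0
    rw [this, map_zero]
  have hrange : ∀ c, algebraMap Γ(pullback f f, diagNbhd f U) Γ(X, U) c = 0 → ∃ x, ι x = c := by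
    intro c hc
    rw [happLE] at hc
    have hinj : Function.Injective (X.presheaf.map (homOfLE hUD).op) := by
      have hiso : IsIso (X.presheaf.map (homOfLE hUD).op) := by
        have : homOfLE hUD = eqToHom (preimage_diagNbhd f U).symm := rfl
        rw [this]
        infer_instance
      exact (ConcreteCategory.bijective_of_isIso _).1
    have hc' : (pullback.diagonal f).app (diagNbhd f U) c = 0 := by
      apply hinj
      rw [hc, map_zero]
    exact exists_idealSect_eq (pullback.diagonal f) hD c hc'
  refine bijective_of_isPO hpo h₁ h₂ ι hι hker hrange e (OmAff.toSect f V U h).hom ?_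
  intro s
  refine ⟨idealLift f U s, ?_, ?_⟩
  · change idealSect (pullback.diagonal f).ker (diagNbhd f U) (idealLift f U s) = _
    rw [idealSect_apply, ι_idealLift]
    rfl
  · have h1 := OmAff.toSect_d f V U h s
    rw [he, one_smul]
    exact h1

end Chart

end Groth.Agent.Lib.Helper80.OmegaAffine
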