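import Mathlib
import Groth.Agent.Lib.Helper80.OmegaAffine
import Groth.Agent.Lib.Helper51.OmegaUniv.SecDer

/-!
# Universality of the frozen derivation `dOmega f` (helper80)
-/

set_option autoImplicit false
set_option linter.style.haveILetI false
universe u

open AlgebraicGeometry CategoryTheory Limits TopologicalSpace Opposite OmegaSh

namespace Groth.Agent.Lib.Helper80.OmegaUniversal

open Groth.Agent.Lib.Helper51.OmegaUniv Groth.Agent.Lib.Helper13.OmegaShYoneda
  Groth.Agent.Lib.Helper80.OmegaAffine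

variable {X Y : Scheme.{u}} (f : X ⟶ Y)

/-- the chart opens form a basis -/
theorem isBasis_chart : Opens.IsBasis (Set.range fun c : Chart f => c.U) := by
  rw [Opens.isBasis_iff_nbhd]
  intro W x hx
  obtain ⟨_, ⟨V, hV, rfl⟩, hxV, -⟩ := Y.isBasis_affineOpens.exists_subset_of_mem_open
    (Set.mem_univ (f x)) isOpen_univ
  obtain ⟨_, ⟨U, hU, rfl⟩, hxU, hUle⟩ := X.isBasis_affineOpens.exists_subset_of_mem_open
    (show x ∈ ((f ⁻¹ᵁ V) ⊓ W : X.Opens) from ⟨hxV, hx⟩) ((f ⁻¹ᵁ V) ⊓ W).2
  have hUV : U ≤ f ⁻¹ᵁ V := fun y hy => (hUle hy).1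
  have hUW : U ≤ W := fun y hy => (hUle hy).2
  exact ⟨U, ⟨⟨U, V, hU, hV, hUV⟩, rfl⟩, hxU, hUW⟩

variable [QuasiSeparated f]

/-- on a chart, the sections of the sheaf of differentials are spanned by the `d s` -/
theorem span_dSect (c : Chart f) :
    Submodule.span Γ(X, c.U) (Set.range (dSect f c.U)) = ⊤ := by
  letI := (f.appLE c.V c.U c.hUV).hom.toAlgebra
  have hb := bijective_toSect f c.hU c.hV c.hUV
  rw [eq_top_iff]
  rintro ω -
  obtain ⟨η, rfl⟩ := hb.2 ω
  have hη : η ∈ Submodule.span Γ(X, c.U)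
      (Set.range (KaehlerDifferential.D Γ(Y, c.V) Γ(X, c.U))) := by
    rw [KaehlerDifferential.span_range_derivation]; trivial
  induction hη using Submodule.span_induction with
  | mem y hy =>
    obtain ⟨s, rfl⟩ := hy
    apply Submodule.subset_span
    exact ⟨s, (OmAff.toSect_d f c.V c.U c.hUV s).symm⟩
  | zero => rw [map_zero]; exact Submodule.zero_mem _
  | add y z _ _ hy hz => rw [map_add]; exact Submodule.add_mem _ hy hz
  | smul b y _ hy => rw [map_smul]; exact Submodule.smul_mem _ _ hy

/-- existence part of the universal property on a chart -/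
theorem exists_chartLin (c : Chart f) {F : X.Modules} (D : Der f F) :
    ∃ L : Γ(Omega.sheaf f, c.U) →ₗ[Γ(X, c.U)] Γ(F, c.U),
      ∀ s, L (dSect f c.U s) = D.app c.U s := by
  letI := (f.appLE c.V c.U c.hUV).hom.toAlgebra
  have hb := bijective_toSect f c.hU c.hV c.hUV
  let τ : Ω[Γ(X, c.U)⁄Γ(Y, c.V)] ≃ₗ[Γ(X, c.U)] Γ(Omega.sheaf f, c.U) :=
    LinearEquiv.ofBijective (OmAff.toSect f c.V c.U c.hUV).hom hb
  refine ⟨(secLin D c.hUV).comp τ.symm.toLinearMap, fun s => ?_⟩
  have h1 : τ.symm (dSect f c.U s) = KaehlerDifferential.D Γ(Y, c.V) Γ(X, c.U) s := by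
    rw [LinearEquiv.symm_apply_eq]
    exact (OmAff.toSect_d f c.V c.U c.hUV s).symm
  change secLin D c.hUV (τ.symm (dSect f c.U s)) = _
  rw [h1, secLin_D]

/-- uniqueness part of the universal property on a chart -/
theorem chartLin_ext (c : Chart f) {N : Type u} [AddCommGroup N] [Module Γ(X, c.U) N]
    (L L' : Γ(Omega.sheaf f, c.U) →ₗ[Γ(X, c.U)] N)
    (h : ∀ s, L (dSect f c.U s) = L' (dSect f c.U s)) : L = L' := by
  apply LinearMap.ext_on (span_dSect f c)
  rintro _ ⟨s, rfl⟩
  exact h s

section Glue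

variable {F : X.Modules} (D : Der f F)

/-- the chosen linear maps on charts -/
noncomputable def chartLin (c : Chart f) : Γ(Omega.sheaf f, c.U) →ₗ[Γ(X, c.U)] Γ(F, c.U) :=
  (exists_chartLin f c D).choose

theorem chartLin_dSect (c : Chart f) (s : Γ(X, c.U)) :
    chartLin f D c (dSect f c.U s) = D.app c.U s :=
  (exists_chartLin f c D).choose_spec s

theorem chartLin_res (c c' : Chart f) (hle : c'.U ≤ c.U) (ω : Γ(Omega.sheaf f, c.U)) :
    chartLin f D c' ((Omega.sheaf f).presheaf.map (homOfLE hle).op ω) =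
      F.presheaf.map (homOfLE hle).op (chartLin f D c ω) := by
  have hω : ω ∈ Submodule.span Γ(X, c.U) (Set.range (dSect f c.U)) := by
    rw [span_dSect]; trivial
  induction hω using Submodule.span_induction with
  | mem y hy =>
    obtain ⟨s, rfl⟩ := hy
    have h1 : (Omega.sheaf f).presheaf.map (homOfLE hle).op (dSect f c.U s) =
        dSect f c'.U (X.presheaf.map (homOfLE hle).op s) := (dSect_map f hle s).symm
    rw [h1, chartLin_dSect, chartLin_dSect, der_app_map]
  | zero => rw [map_zero, map_zero, map_zero, map_zero]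
  | add y z _ _ hy hz => rw [map_add, map_add, map_add, map_add, hy, hz]
  | smul b y _ hy =>
    rw [Scheme.Modules.map_smul, map_smul, map_smul, Scheme.Modules.map_smul, hy]

/-- the family of chart maps as a morphism of presheaves on the basis -/
noncomputable def basisHom :
    (inducedFunctor fun c : Chart f => c.U).op ⋙ (Omega.sheaf f).presheaf ⟶
      (inducedFunctor fun c : Chart f => c.U).op ⋙ (shAb F).1 where
  app c := AddCommGrpCat.ofHom (chartLin f D c.unop).toAddMonoidHom
  naturality c c' g := by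
    ext ω
    exact chartLin_res f D c.unop c'.unop (leOfHom g.unop.hom) ω

/-- the glued morphism of abelian presheaves -/
noncomputable def glueAb : (Omega.sheaf f).presheaf ⟶ F.presheaf :=
  TopCat.Sheaf.restrictHomEquivHom (Omega.sheaf f).presheaf (shAb F) (isBasis_chart f)
    (basisHom f D)

theorem glueAb_app (c : Chart f) (ω : Γ(Omega.sheaf f, c.U)) :
    (glueAb f D).app (op c.U) ω = chartLin f D c ω := by
  have := TopCat.Sheaf.extend_hom_app (Omega.sheaf f).presheaf (shAb F) (isBasis_chart f)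
    (basisHom f D) c
  exact congr($this ω)

theorem glueAb_res {U V : X.Opens} (h : V ≤ U) (ω : Γ(Omega.sheaf f, U)) :
    (glueAb f D).app (op V) ((Omega.sheaf f).presheaf.map (homOfLE h).op ω) =
      F.presheaf.map (homOfLE h).op ((glueAb f D).app (op U) ω) := by
  have := (glueAb f D).naturality (homOfLE h).op
  exact congr($this ω)

theorem glueAb_smul (U : X.Opens) (r : Γ(X, U)) (ω : Γ(Omega.sheaf f, U)) :
    (glueAb f D).app (op U) (r • ω) = r • (glueAb f D).app (op U) ω := by
  apply section_ext F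
  intro x hx
  obtain ⟨_, ⟨c, rfl⟩, hxc, hle⟩ := (Opens.isBasis_iff_nbhd.mp (isBasis_chart f)) hx
  refine ⟨c.U, hle, hxc, ?_⟩
  rw [← glueAb_res, Scheme.Modules.map_smul, Scheme.Modules.map_smul, glueAb_app, map_smul,
    ← glueAb_res, glueAb_app]

/-- the glued morphism of modules -/
noncomputable def glueHom : Omega.sheaf f ⟶ F :=
  ⟨PresheafOfModules.homMk (glueAb f D) (fun U r ω => glueAb_smul f D U.unop r ω)⟩

theorem glueHom_app (U : X.Opens) (ω : Γ(Omega.sheaf f, U)) :
    (glueHom f D).app U ω = (glueAb f D).app (op U) ω := rfl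

end Glue

/-- **Universality of the frozen derivation.** -/
theorem isUniversal_dOmega : IsUniversal (dOmega f) := by
  intro F D
  refine ⟨glueHom f D, ?_, ?_⟩
  · apply der_ext_of_basis (fun c : Chart f => c.U) (isBasis_chart f)
    intro c s
    rw [postcomp_app, glueHom_app, glueAb_app]
    exact chartLin_dSect f D c s
  · intro β hβ
    have hβ' : ∀ U s, β.app U ((dOmega f).app U s) = D.app U s := fun U s =>
      congrArg (fun E => Der.app E U s) hβ
    have key : ∀ (c : Chart f) (ω : Γ(Omega.sheaf f, c.U)),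
        β.app c.U ω = chartLin f D c ω := by
      intro c ω
      let Lβ : Γ(Omega.sheaf f, c.U) →ₗ[Γ(X, c.U)] Γ(F, c.U) :=
        { toFun := fun ω => β.app c.U ω
          map_add' := fun a b => map_add _ a b
          map_smul' := fun r a => Scheme.Modules.Hom.app_smul β r a }
      have hL : Lβ = chartLin f D c := chartLin_ext f c _ _ (fun s => by
        rw [chartLin_dSect]
        exact hβ' c.U s)
      exact congrArg (fun L : Γ(Omega.sheaf f, c.U) →ₗ[Γ(X, c.U)] Γ(F, c.U) => L ω) hL
    apply Scheme.Modules.hom_ext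
    intro U
    ext ω
    apply section_ext F
    intro x hx
    obtain ⟨_, ⟨c, rfl⟩, hxc, hle⟩ := (Opens.isBasis_iff_nbhd.mp (isBasis_chart f)) hx
    refine ⟨c.U, hle, hxc, ?_⟩
    rw [← hom_app_map, ← hom_app_map, key, glueHom_app, glueAb_app]

end Groth.Agent.Lib.Helper80.OmegaUniversal
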