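import Mathlib
import Groth.Agent.Lib.Helper51.OmegaUniv.ConormalComp
import Groth.Agent.Lib.Helper18.ModHomMk
import Groth.Agent.Lib.Helper11.PullbackBasis

/-!
# Existence of the canonical map `C_{Z/X} ⟶ i^* Ω'` (`OmegaSh.IsConormalDiff`)

For any morphism `i : Z ⟶ X` and any derivation `d : O_X → Ω'` we construct
`conormalDiff i d : Omega.conormal i ⟶ i^* Ω'` with `IsConormalDiff i d (conormalDiff i d)`:
it is the adjunct of the `O_X`-linear map `𝓘 ⟶ i_* i^* Ω'`, `s ↦ i^*(d s)`.
-/
set_option autoImplicit false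
universe u
open CategoryTheory CategoryTheory.Limits AlgebraicGeometry TopologicalSpace Opposite OmegaSh

namespace Groth.Agent.Lib.Helper80.ConormalDiffMk

open Groth.Agent.Lib.Helper49 Groth.Agent.Lib.Helper18.ModHomMk Groth.Agent.Lib.Helper51.OmegaUniv

variable {X Y Z : Scheme.{u}} (i : Z ⟶ X) {f : X ⟶ Y} {Ω' : X.Modules} (d : Der f Ω')

/-- `i_* i^* Ω'`. -/
noncomputable abbrev pushPull : X.Modules :=
  (Scheme.Modules.pushforward i).obj ((Scheme.Modules.pullback i).obj Ω')

/-- the unit `Ω' ⟶ i_* i^* Ω'`. -/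
noncomputable abbrev unitΩ : Ω' ⟶ pushPull i (Ω' := Ω') :=
  (Scheme.Modules.pullbackPushforwardAdjunction i).unit.app Ω'

theorem hom_app_res {F G : X.Modules} (u : F ⟶ G) {O O' : X.Opens} (h : O' ≤ O) (s : Γ(F, O)) :
    mres G h ((u.app O).hom s) = (u.app O').hom (mres F h s) := by
  have hnat := u.mapPresheaf.naturality (homOfLE h).op
  exact (congrArg (fun k => k.hom s) hnat).symm

/-- sections: `s ↦ i^*(d s)`. -/
noncomputable def adjFun (U : X.Opens) : Γ(ClSub.idealMod i.ker, U) →+
    Γ(pushPull i (Ω' := Ω'), U) :=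
  (((unitΩ i (Ω' := Ω')).app U).hom).comp ((d.app U).comp (idealSect i.ker U))

theorem adjFun_apply (U : X.Opens) (s : Γ(ClSub.idealMod i.ker, U)) :
    adjFun i d U s = ((unitΩ i (Ω' := Ω')).app U).hom (d.app U (idealSect i.ker U s)) := rfl

theorem adjFun_res {U V : X.Opens} (h : V ≤ U) (s : Γ(ClSub.idealMod i.ker, U)) :
    mres (pushPull i (Ω' := Ω')) h
      (adjFun i d U s) = adjFun i d V (mres (ClSub.idealMod i.ker) h s) := by
  rw [adjFun_apply, adjFun_apply]
  have h1 : idealSect i.ker V (mres (ClSub.idealMod i.ker) h s) =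
      X.presheaf.map (homOfLE h).op (idealSect i.ker U s) := idealSect_map i.ker h s
  rw [h1, der_app_map]
  exact hom_app_res (unitΩ i (Ω' := Ω')) h _

theorem smul_pushPull_eq_zero (U : X.Opens) (a : Γ(X, U)) (ha : (i.app U).hom a = 0)
    (n : Γ(pushPull i (Ω' := Ω'), U)) : a • n = 0 := by
  have h : a • n = ((i.app U).hom a) • (show Γ((Scheme.Modules.pullback i).obj Ω', i ⁻¹ᵁ U) from n) :=
    rfl
  rw [h, ha, zero_smul]
  rfl

theorem adjFun_smul (U : X.Opens) (r : Γ(X, U)) (s : Γ(ClSub.idealMod i.ker, U)) :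
    adjFun i d U (r • s) = r • adjFun i d U s := by
  rw [adjFun_apply, adjFun_apply, idealSect_smul, der_app_mul, map_add]
  have h1 : ((unitΩ i (Ω' := Ω')).app U).hom (r • d.app U (idealSect i.ker U s)) =
      r • ((unitΩ i (Ω' := Ω')).app U).hom (d.app U (idealSect i.ker U s)) :=
    Scheme.Modules.Hom.app_smul (unitΩ i (Ω' := Ω')) r _
  have h2 : ((unitΩ i (Ω' := Ω')).app U).hom (idealSect i.ker U s • d.app U r) = 0 := by
    have h3 : ((unitΩ i (Ω' := Ω')).app U).hom (idealSect i.ker U s • d.app U r) =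
        idealSect i.ker U s • ((unitΩ i (Ω' := Ω')).app U).hom (d.app U r) :=
      Scheme.Modules.Hom.app_smul (unitΩ i (Ω' := Ω')) _ _
    rw [h3]
    exact smul_pushPull_eq_zero i U _ (app_idealSect' i U s) _
  rw [h1, h2, add_zero]

/-- the `O_X`-linear map `𝓘 ⟶ i_* i^* Ω'`. -/
noncomputable def adjMap : ClSub.idealMod i.ker ⟶ pushPull i (Ω' := Ω') :=
  mkHom _ _ (adjFun i d) (fun h s => adjFun_res i d h s) (fun U r s => adjFun_smul i d U r s)

/-- the canonical map `C_{Z/X} ⟶ i^* Ω'`. -/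
noncomputable def conormalDiff : Omega.conormal i ⟶ (Scheme.Modules.pullback i).obj Ω' :=
  ((Scheme.Modules.pullbackPushforwardAdjunction i).homEquiv _ _).symm (adjMap i d)

theorem isConormalDiff : IsConormalDiff i d (conormalDiff i d) := by
  intro U s
  have h := (Scheme.Modules.pullbackPushforwardAdjunction i).homEquiv_unit
    (f := conormalDiff i d)
  have h' : (Scheme.Modules.pullbackPushforwardAdjunction i).unit.app (ClSub.idealMod i.ker) ≫
      (Scheme.Modules.pushforward i).map (conormalDiff i d) = adjMap i d := by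
    rw [← h]
    exact Equiv.apply_symm_apply _ _
  have h2 := congrArg (fun k => (Scheme.Modules.Hom.app k U).hom s) h'
  exact h2

end Groth.Agent.Lib.Helper80.ConormalDiffMk
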