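import Mathlib
import Groth.Agent.Lib.Helper80.ModHartogsLocal
import Groth.Agent.Lib.Helper49.ZClosure7

/-!
# `G → j_* j^* G` is an isomorphism when `depth G_x ≥ 2` off `U` (helper80)
-/

set_option autoImplicit false
universe u

open AlgebraicGeometry CategoryTheory Opposite TopologicalSpace

namespace Groth.Agent.Lib.Helper80

open Groth.Agent.Lib.Helper45 Groth.Agent.Lib.Helper49.ZClosure ZClos

variable {X : Scheme.{u}}

/-- Hartogs: the unit `G → j_*(G|_U)` is an isomorphism if `depth G_x ≥ 2` for all `x ∉ U` -/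
theorem isIso_unit_of_depth [IsLocallyNoetherian X] (G : X.Modules) (hG : Coh.IsCoh G)
    (U : X.Opens)
    (hdepth : ∀ x : X, x ∉ U →
      (2 : ℕ∞) ≤ LocCoh.depth (X.presheaf.stalk x) (G.presheaf.stalk x)) :
    IsIso ((Scheme.Modules.restrictAdjunction U.ι).unit.app G) := by
  refine Scheme.Modules.Hom.isIso_iff_isIso_app.mpr fun V => ?_
  rw [ConcreteCategory.isIso_iff_bijective]
  have h := mod_res_bijective_of_depth_on G hG U ⊤ (fun x _ hx => hdepth x hx) V le_top
  have he : V ⊓ U = U.ι ''ᵁ U.ι ⁻¹ᵁ V := by rw [ι_image_preimage, inf_comm]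
  exact (map_bijective_iff_of_eq G inf_le_left (U.ι.image_preimage_le V) he).mp h

/-- the mono version: the unit `G → j_*(G|_U)` is a monomorphism if `depth G_x ≥ 1` off `U` -/
theorem app_unit_injective_of_depth [IsLocallyNoetherian X] (G : X.Modules) (hG : Coh.IsCoh G)
    (U : X.Opens)
    (hdepth : ∀ x : X, x ∉ U →
      (1 : ℕ∞) ≤ LocCoh.depth (X.presheaf.stalk x) (G.presheaf.stalk x)) (V : X.Opens) :
    Function.Injective (((Scheme.Modules.restrictAdjunction U.ι).unit.app G).app V) := by
  have h := mod_res_injective_of_depth_on G hG U ⊤ (fun x _ hx => hdepth x hx) V le_top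
  have he : V ⊓ U = U.ι ''ᵁ U.ι ⁻¹ᵁ V := by rw [ι_image_preimage, inf_comm]
  exact (map_injective_iff_of_eq G inf_le_left (U.ι.image_preimage_le V) he).mp h

end Groth.Agent.Lib.Helper80
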