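import Mathlib

/-!
# Direct sums of cyclic modules `⨁ R/(q i)`

The element `w₀ = (1, …, 1)`; the diagonal endomorphisms `D r`; if the `q i` are pairwise coprime
then `w₀` generates; if two of them are "linked" there is a nonzero endomorphism killing `w₀`.
-/

set_option autoImplicit false

namespace Groth.Agent.Lib.Helper80.CyclicSum

open DirectSum Function

variable {R : Type*} [CommRing R] {ι : Type*} [Fintype ι] [DecidableEq ι] (q : ι → R)

/-- The cyclic summands. -/
abbrev Nq (i : ι) : Type _ := R ⧸ Submodule.span R {q i}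

/-- The direct sum. -/
abbrev Wq : Type _ := ⨁ i, Nq q i

/-- The vector `(1, …, 1)`. -/
noncomputable def w₀ : Wq q := ∑ i, lof R ι (Nq q) i (Submodule.Quotient.mk 1)

/-- Diagonal endomorphisms. -/
noncomputable def D (r : ι → R) : Wq q →ₗ[R] Wq q :=
  DirectSum.lmap (fun i => r i • (LinearMap.id : Nq q i →ₗ[R] Nq q i))

lemma D_w₀ (r : ι → R) :
    D q r (w₀ q) = ∑ i, lof R ι (Nq q) i (Submodule.Quotient.mk (r i)) := by
  unfold w₀ D
  rw [map_sum]
  refine Finset.sum_congr rfl fun i _ => ?_
  rw [DirectSum.lmap_lof]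
  congr 1
  simp only [LinearMap.smul_apply, LinearMap.id_coe, id_eq]
  rw [← Submodule.Quotient.mk_smul, smul_eq_mul, mul_one]

lemma component_w₀ (i : ι) :
    DirectSum.component R ι (Nq q) i (w₀ q) = Submodule.Quotient.mk 1 := by
  unfold w₀
  rw [map_sum, Finset.sum_eq_single i]
  · exact DirectSum.component.lof_self R i _
  · intro j _ hji
    rw [DirectSum.component.of, dif_neg hji]
  · intro h; exact absurd (Finset.mem_univ i) h

lemma exists_D (w : Wq q) : ∃ r : ι → R, D q r (w₀ q) = w := by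
  have hsurj : ∀ i, ∃ r : R, (Submodule.Quotient.mk r : Nq q i) = w i :=
    fun i => Submodule.Quotient.mk_surjective _ (w i)
  choose r hr using hsurj
  refine ⟨r, ?_⟩
  rw [D_w₀]
  conv_rhs => rw [← DirectSum.sum_univ_of w]
  refine Finset.sum_congr rfl fun i _ => ?_
  rw [hr i]
  rfl

/-- If the `q i` are pairwise coprime, `w₀` generates the direct sum. -/
theorem exists_smul_w₀ (hcop : Pairwise (IsCoprime on fun i => Ideal.span {q i})) (w : Wq q) :
    ∃ r : R, r • w₀ q = w := by
  obtain ⟨s, rfl⟩ := exists_D q w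
  obtain ⟨r, hr⟩ := Ideal.exists_forall_sub_mem_ideal hcop s
  refine ⟨r, ?_⟩
  rw [D_w₀]
  unfold w₀
  rw [Finset.smul_sum]
  refine Finset.sum_congr rfl fun i _ => ?_
  rw [← map_smul]
  congr 1
  rw [← Submodule.Quotient.mk_smul, smul_eq_mul, mul_one]
  exact (Submodule.Quotient.eq _).mpr (hr i)

/-- If two of the moduli are linked by `c` (`c q_i ∈ (q_j)`, `c ∉ (q_j)`, `i ≠ j`), there is an
endomorphism killing `w₀` but not `e_i`. -/
theorem exists_endo_of_linked {i j : ι} (hij : i ≠ j) (c : R)
    (hc1 : c * q i ∈ Ideal.span {q j}) (hc2 : c ∉ Ideal.span {q j}) :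
    ∃ F : Wq q →ₗ[R] Wq q, F (w₀ q) = 0 ∧
      F (lof R ι (Nq q) i (Submodule.Quotient.mk 1)) ≠ 0 := by
  have hle : Submodule.span R {q i} ≤
      Submodule.comap (c • (LinearMap.id : R →ₗ[R] R)) (Submodule.span R {q j}) := by
    rw [Submodule.span_le]
    intro x hx
    rw [Set.mem_singleton_iff] at hx
    subst hx
    simpa using hc1
  let h : Nq q i →ₗ[R] Nq q j := Submodule.mapQ _ _ (c • LinearMap.id) hle
  have hh : h (Submodule.Quotient.mk 1) = Submodule.Quotient.mk c := by
    change Submodule.mapQ _ _ (c • LinearMap.id) hle (Submodule.Quotient.mk 1) = _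
    rw [Submodule.mapQ_apply]
    simp
  let E : Wq q →ₗ[R] Wq q := (lof R ι (Nq q) j) ∘ₗ h ∘ₗ (DirectSum.component R ι (Nq q) i)
  refine ⟨E - D q (Pi.single j c), ?_, ?_⟩
  · rw [LinearMap.sub_apply, D_w₀]
    simp only [E, LinearMap.comp_apply, component_w₀, hh]
    rw [Finset.sum_eq_single j]
    · rw [Pi.single_eq_same, sub_self]
    · intro k _ hkj
      rw [Pi.single_eq_of_ne hkj]
      simp
    · intro h'; exact absurd (Finset.mem_univ j) h'
  · rw [LinearMap.sub_apply]
    simp only [E, LinearMap.comp_apply, DirectSum.component.lof_self, hh]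
    have h2 : D q (Pi.single j c) (lof R ι (Nq q) i (Submodule.Quotient.mk 1)) = 0 := by
      unfold D
      rw [DirectSum.lmap_lof, Pi.single_eq_of_ne hij]
      simp
    rw [h2, sub_zero]
    intro h3
    have h4 := congrArg (DirectSum.component R ι (Nq q) j) h3
    rw [DirectSum.component.lof_self, map_zero, Submodule.Quotient.mk_eq_zero] at h4
    exact hc2 h4

end Groth.Agent.Lib.Helper80.CyclicSum
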