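import Mathlib

/-!
# Cyclic vectors for matrices over commutative rings

`krylov g v` is the matrix with columns `v, g v, …, g^(n-1) v`; `IsCyclic g v` says that its
determinant is a unit.  If `g` has a cyclic vector then every matrix commuting with `g` is a
polynomial in `g` (`eq_sum_of_commute`), so the commutant of `g` is commutative
(`commute_of_isCyclic`).  Cyclic vectors lift along local rings (`IsCyclic.of_residue`).
-/

set_option autoImplicit false

namespace Groth.Agent.Lib.Helper80.CyclicVec

open Matrix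

variable {B : Type*} [CommRing B] {n : ℕ}

/-- The Krylov matrix, with columns `v, g v, …, g^(n-1) v`. -/
def krylov (g : Matrix (Fin n) (Fin n) B) (v : Fin n → B) : Matrix (Fin n) (Fin n) B :=
  Matrix.of fun i k => ((g ^ (k : ℕ)) *ᵥ v) i

/-- `v` is a cyclic vector for `g`: the vectors `g^k v`, `k < n`, form a basis. -/
def IsCyclic (g : Matrix (Fin n) (Fin n) B) (v : Fin n → B) : Prop :=
  IsUnit (krylov g v).det

lemma krylov_map {C : Type*} [CommRing C] (f : B →+* C) (g : Matrix (Fin n) (Fin n) B)
    (v : Fin n → B) : (krylov g v).map f = krylov (g.map f) (f ∘ v) := by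
  ext i k
  simp only [krylov, Matrix.map_apply, Matrix.of_apply]
  have h1 : (g.map f) ^ (k : ℕ) = (g ^ (k : ℕ)).map f := by
    have := (RingHom.mapMatrix (m := Fin n) f).map_pow g (k : ℕ)
    simpa using this.symm
  rw [h1]
  simp only [Matrix.mulVec, dotProduct, Matrix.map_apply, Function.comp_apply, map_sum, map_mul]

lemma IsCyclic.map {C : Type*} [CommRing C] (f : B →+* C) {g : Matrix (Fin n) (Fin n) B}
    {v : Fin n → B} (h : IsCyclic g v) : IsCyclic (g.map f) (f ∘ v) := by
  unfold IsCyclic at h ⊢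
  rw [← krylov_map]
  have := h.map f
  rw [RingHom.map_det] at this
  exact this

lemma mul_krylov (x g : Matrix (Fin n) (Fin n) B) (v : Fin n → B) :
    x * krylov g v = Matrix.of fun i (k : Fin n) => (x *ᵥ ((g ^ (k : ℕ)) *ᵥ v)) i := by
  ext i k
  simp [krylov, Matrix.mul_apply, Matrix.mulVec, dotProduct]

/-- If `g` has a cyclic vector, every matrix commuting with `g` is a polynomial in `g`. -/
theorem eq_sum_of_commute {g : Matrix (Fin n) (Fin n) B} {v : Fin n → B} (hcyc : IsCyclic g v)
    (x : Matrix (Fin n) (Fin n) B) (hx : x * g = g * x) :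
    ∃ c : Fin n → B, x = ∑ k : Fin n, c k • g ^ (k : ℕ) := by
  set P := krylov g v with hP
  have hPu : IsUnit P.det := hcyc
  set c : Fin n → B := P⁻¹ *ᵥ (x *ᵥ v) with hc
  refine ⟨c, ?_⟩
  set y : Matrix (Fin n) (Fin n) B := ∑ k : Fin n, c k • g ^ (k : ℕ) with hy
  have hxk : ∀ k : ℕ, x * g ^ k = g ^ k * x := by
    intro k
    induction k with
    | zero => simp
    | succ k ih => rw [pow_succ, ← mul_assoc, ih, mul_assoc, hx, ← mul_assoc]
  have hyg : y * g = g * y := by
    rw [hy, Finset.sum_mul, Finset.mul_sum]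
    refine Finset.sum_congr rfl fun k _ => ?_
    rw [Matrix.smul_mul, Matrix.mul_smul, ← pow_succ, ← pow_succ']
  have hyk : ∀ k : ℕ, y * g ^ k = g ^ k * y := by
    intro k
    induction k with
    | zero => simp
    | succ k ih => rw [pow_succ, ← mul_assoc, ih, mul_assoc, hyg, ← mul_assoc]
  have hxv : x *ᵥ v = y *ᵥ v := by
    have h1 : P *ᵥ c = x *ᵥ v := by
      rw [hc, Matrix.mulVec_mulVec, Matrix.mul_nonsing_inv _ hPu, Matrix.one_mulVec]
    rw [← h1]
    ext i
    have e1 : (P *ᵥ c) i = ∑ k : Fin n, ∑ j : Fin n, (g ^ (k : ℕ)) i j * v j * c k := by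
      simp only [Matrix.mulVec, dotProduct, hP, krylov, Matrix.of_apply, Finset.sum_mul]
    have e2 : (y *ᵥ v) i = ∑ j : Fin n, ∑ k : Fin n, c k * (g ^ (k : ℕ)) i j * v j := by
      simp only [Matrix.mulVec, dotProduct, hy, Matrix.sum_apply, Matrix.smul_apply, smul_eq_mul,
        Finset.sum_mul]
    rw [e1, e2, Finset.sum_comm]
    refine Finset.sum_congr rfl fun j _ => Finset.sum_congr rfl fun k _ => ?_
    ring
  have hcols : x * P = y * P := by
    rw [hP, mul_krylov, mul_krylov]
    ext i k
    simp only [Matrix.of_apply]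
    rw [Matrix.mulVec_mulVec, Matrix.mulVec_mulVec, hxk, hyk, ← Matrix.mulVec_mulVec,
      ← Matrix.mulVec_mulVec, hxv]
  calc x = x * P * P⁻¹ := by rw [Matrix.mul_nonsing_inv_cancel_right _ _ hPu]
    _ = y * P * P⁻¹ := by rw [hcols]
    _ = y := by rw [Matrix.mul_nonsing_inv_cancel_right _ _ hPu]

/-- If `g` has a cyclic vector, its commutant is commutative. -/
theorem commute_of_isCyclic {g : Matrix (Fin n) (Fin n) B} {v : Fin n → B} (hcyc : IsCyclic g v)
    (x y : Matrix (Fin n) (Fin n) B) (hx : x * g = g * x) (hy : y * g = g * y) :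
    x * y = y * x := by
  obtain ⟨c, rfl⟩ := eq_sum_of_commute hcyc x hx
  obtain ⟨d, rfl⟩ := eq_sum_of_commute hcyc y hy
  have : Commute (∑ k : Fin n, c k • g ^ (k : ℕ)) (∑ k : Fin n, d k • g ^ (k : ℕ)) := by
    refine Commute.sum_left _ _ _ fun i _ => Commute.sum_right _ _ _ fun j _ => ?_
    exact ((Commute.pow_pow (Commute.refl g) _ _).smul_left _).smul_right _
  exact this.eq

/-- If `g` has a cyclic vector and `x` commutes with `g`, then `x` commutes with everything
commuting with `g`. -/
theorem commute_of_isCyclic' {g : Matrix (Fin n) (Fin n) B} {v : Fin n → B} (hcyc : IsCyclic g v)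
    (x y : Matrix (Fin n) (Fin n) B) (hx : x * g = g * x) (hy : y * g = g * y) :
    Commute x y := commute_of_isCyclic hcyc x y hx hy

/-- Cyclic vectors lift from the residue field of a local ring. -/
theorem IsCyclic.of_residue [IsLocalRing B] {g : Matrix (Fin n) (Fin n) B}
    {w : Fin n → IsLocalRing.ResidueField B}
    (h : IsCyclic (g.map (IsLocalRing.residue B)) w) : ∃ v : Fin n → B, IsCyclic g v := by
  have hsurj : Function.Surjective (IsLocalRing.residue B) := Ideal.Quotient.mk_surjective
  choose v hv using fun i => hsurj (w i)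
  refine ⟨v, ?_⟩
  have hw : (IsLocalRing.residue B) ∘ v = w := funext hv
  unfold IsCyclic at h ⊢
  rw [← hw, ← krylov_map] at h
  have h2 : (IsLocalRing.residue B) (krylov g v).det =
      ((krylov g v).map (IsLocalRing.residue B)).det := by
    rw [RingHom.map_det]; rfl
  rw [← h2] at h
  exact (isUnit_map_iff (IsLocalRing.residue B) _).mp h

end Groth.Agent.Lib.Helper80.CyclicVec
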