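import Mathlib
import Groth.Agent.Lib.Helper80.CyclicVec
import Groth.Agent.Lib.Helper80.CyclicSum

/-!
# Over a field: commutant of dimension `n` implies a cyclic vector
-/

set_option autoImplicit false

namespace Groth.Agent.Lib.Helper80.CyclicVec

open Polynomial Module Matrix Function

variable {K : Type*} [Field K] {n : ℕ}

/-- If every vector is `P(g) v₀` for a polynomial `P`, then `v₀` is a cyclic vector. -/
theorem isCyclic_of_forall_exists_aeval (g : Matrix (Fin n) (Fin n) K) (v₀ : Fin n → K)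
    (h : ∀ v : Fin n → K, ∃ P : K[X], (aeval g P) *ᵥ v₀ = v) : IsCyclic g v₀ := by
  unfold IsCyclic
  rw [← Matrix.isUnit_iff_isUnit_det, ← Matrix.mulVec_surjective_iff_isUnit]
  intro v
  obtain ⟨P, rfl⟩ := h v
  rcases Nat.eq_zero_or_pos n with hn | hn
  · subst hn
    exact ⟨0, by ext i; exact i.elim0⟩
  set χ := g.charpoly with hχdef
  have hχ : χ.Monic := Matrix.charpoly_monic g
  set S := P %ₘ χ with hSdef
  have hS : aeval g P = aeval g S := by
    have := Polynomial.modByMonic_add_div P χ
    conv_lhs => rw [← this]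
    rw [map_add, map_mul, Matrix.aeval_self_charpoly, zero_mul, add_zero]
  have hdeg : S.natDegree < n := by
    have h1 : S.degree < χ.degree := Polynomial.degree_modByMonic_lt P hχ
    rw [Matrix.charpoly_degree_eq_dim, Fintype.card_fin] at h1
    by_cases hS0 : S = 0
    · rw [hS0, natDegree_zero]; exact hn
    · exact (Polynomial.natDegree_lt_iff_degree_lt hS0).mpr h1
  refine ⟨fun k => S.coeff k, ?_⟩
  rw [hS, Polynomial.aeval_eq_sum_range' hdeg, Finset.sum_range]
  ext i
  have e1 : (krylov g v₀ *ᵥ fun k : Fin n => S.coeff (k : ℕ)) i =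
      ∑ k : Fin n, ∑ j : Fin n, (g ^ (k : ℕ)) i j * v₀ j * S.coeff (k : ℕ) := by
    simp only [Matrix.mulVec, dotProduct, krylov, Matrix.of_apply, Finset.sum_mul]
  have e2 : ((∑ k : Fin n, S.coeff (k : ℕ) • g ^ (k : ℕ)) *ᵥ v₀) i =
      ∑ j : Fin n, ∑ k : Fin n, S.coeff (k : ℕ) * (g ^ (k : ℕ)) i j * v₀ j := by
    simp only [Matrix.mulVec, dotProduct, Matrix.sum_apply, Matrix.smul_apply, smul_eq_mul,
      Finset.sum_mul]
  rw [e1, e2, Finset.sum_comm]
  refine Finset.sum_congr rfl fun j _ => Finset.sum_congr rfl fun k _ => ?_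
  ring

section Transport

variable (g : Matrix (Fin n) (Fin n) K)

/-- The `K[X]`-module `Kⁿ` with `X` acting through `g`. -/
abbrev MT : Type _ := Module.AEval' (Matrix.toLin' g)

/-- The matrix attached to a `K[X]`-linear endomorphism of `MT g`. -/
noncomputable def matOf (G : MT g →ₗ[K[X]] MT g) : Matrix (Fin n) (Fin n) K :=
  LinearMap.toMatrix' ((Module.AEval'.of (Matrix.toLin' g)).symm.toLinearMap ∘ₗ
    G.restrictScalars K ∘ₗ (Module.AEval'.of (Matrix.toLin' g)).toLinearMap)

lemma matOf_mulVec (G : MT g →ₗ[K[X]] MT g) (v : Fin n → K) :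
    matOf g G *ᵥ v = (Module.AEval'.of (Matrix.toLin' g)).symm
      (G (Module.AEval'.of (Matrix.toLin' g) v)) := by
  unfold matOf
  rw [← Matrix.toLin'_apply, Matrix.toLin'_toMatrix']
  rfl

lemma matOf_comm (G : MT g →ₗ[K[X]] MT g) : g * matOf g G = matOf g G * g := by
  apply Matrix.toLin'.injective
  apply LinearMap.ext
  intro v
  rw [Matrix.toLin'_mul, Matrix.toLin'_mul, LinearMap.comp_apply, LinearMap.comp_apply,
    Matrix.toLin'_apply (matOf g G), Matrix.toLin'_apply (matOf g G), matOf_mulVec, matOf_mulVec]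
  have h1 : Module.AEval'.of (Matrix.toLin' g) (Matrix.toLin' g v) =
      (X : K[X]) • Module.AEval'.of (Matrix.toLin' g) v :=
    (Module.AEval'.X_smul_of (Matrix.toLin' g) v).symm
  rw [h1, map_smul, Module.AEval'.of_symm_X_smul]

lemma matOf_mem (G : MT g →ₗ[K[X]] MT g) :
    matOf g G ∈ Subalgebra.centralizer K ({g} : Set (Matrix (Fin n) (Fin n) K)) := by
  rw [Subalgebra.mem_centralizer_iff]
  intro y hy
  rw [Set.mem_singleton_iff] at hy
  subst hy
  exact matOf_comm y G

end Transport

/-- Over a field, a matrix whose commutant has dimension `n` has a cyclic vector. -/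
theorem exists_isCyclic_of_finrank_centralizer (g : Matrix (Fin n) (Fin n) K)
    (hfin : Module.finrank K
      (Subalgebra.centralizer K ({g} : Set (Matrix (Fin n) (Fin n) K))) = n) :
    ∃ v, IsCyclic g v := by
  classical
  have htors : Module.IsTorsion K[X] (MT g) :=
    Module.AEval.isTorsion_of_finiteDimensional K (Fin n → K) (Matrix.toLin' g)
  obtain ⟨ι, hι, p, hp, e, ⟨φ⟩⟩ := Module.equiv_directSum_of_isTorsion htors
  let q : ι → K[X] := fun i => p i ^ e i
  have φ' : MT g ≃ₗ[K[X]] CyclicSum.Wq q := φ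
  clear φ
  let oF := Module.AEval'.of (Matrix.toLin' g)
  set m₀ : MT g := φ'.symm (CyclicSum.w₀ q) with hm₀
  set v₀ : Fin n → K := oF.symm m₀ with hv₀
  have hφm₀ : φ' (oF v₀) = CyclicSum.w₀ q := by
    rw [hv₀, LinearEquiv.apply_symm_apply, hm₀, LinearEquiv.apply_symm_apply]
  -- conjugation of endomorphisms
  let conj : (CyclicSum.Wq q →ₗ[K[X]] CyclicSum.Wq q) → (MT g →ₗ[K[X]] MT g) :=
    fun F => φ'.symm.toLinearMap ∘ₗ F ∘ₗ φ'.toLinearMap
  have hconj : ∀ F v, matOf g (conj F) *ᵥ v = oF.symm (φ'.symm (F (φ' (oF v)))) := by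
    intro F v
    rw [matOf_mulVec]
    rfl
  -- the evaluation map
  let ev : (Subalgebra.centralizer K ({g} : Set (Matrix (Fin n) (Fin n) K))) →ₗ[K] (Fin n → K) :=
    { toFun := fun x => x.1 *ᵥ v₀
      map_add' := fun x y => by simp [Matrix.add_mulVec]
      map_smul' := fun c x => by simp [Matrix.smul_mulVec] }
  have hev_surj : Function.Surjective ev := by
    intro v
    obtain ⟨r, hr⟩ := CyclicSum.exists_D q (φ' (oF v))
    refine ⟨⟨matOf g (conj (CyclicSum.D q r)), matOf_mem g _⟩, ?_⟩
    change matOf g (conj (CyclicSum.D q r)) *ᵥ v₀ = v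
    rw [hconj, hφm₀, hr, LinearEquiv.symm_apply_apply, LinearEquiv.symm_apply_apply]
  have hev_inj : Function.Injective ev :=
    (LinearMap.injective_iff_surjective_of_finrank_eq_finrank
      (by rw [hfin]; simp)).mpr hev_surj
  -- pairwise coprimality
  have key : ∀ i j : ι, i ≠ j → e i ≤ e j → IsCoprime (q i) (q j) := by
    intro i j hij hle
    by_contra hnc
    have hei : e i ≠ 0 := by
      intro h0
      apply hnc
      simp only [q, h0, pow_zero]
      exact isCoprime_one_left
    have hncp : ¬ IsCoprime (p i) (p j) := fun h => hnc (h.pow)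
    rw [(hp i).coprime_iff_not_dvd, not_not] at hncp
    have hassoc : Associated (p i) (p j) := (hp i).associated_of_dvd (hp j) hncp
    obtain ⟨u, hu⟩ := hassoc.symm
    -- p i = p j * u
    set c : K[X] := p j ^ (e j - e i) with hc
    have hc1 : c * q i ∈ Ideal.span {q j} := by
      rw [Ideal.mem_span_singleton]
      refine ⟨(u : K[X]) ^ e i, ?_⟩
      simp only [q, hc]
      rw [← hu, mul_pow, ← mul_assoc, ← pow_add, Nat.sub_add_cancel hle]
    have hc2 : c ∉ Ideal.span {q j} := by
      rw [Ideal.mem_span_singleton]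
      intro hdvd
      simp only [q, hc] at hdvd
      rw [pow_dvd_pow_iff (hp j).ne_zero (hp j).not_isUnit] at hdvd
      omega
    obtain ⟨F, hF0, hF1⟩ := CyclicSum.exists_endo_of_linked q hij c hc1 hc2
    -- the matrix of `F` is in the kernel of `ev`
    have h0 : ev ⟨matOf g (conj F), matOf_mem g _⟩ = ev 0 := by
      rw [map_zero]
      change matOf g (conj F) *ᵥ v₀ = 0
      rw [hconj, hφm₀, hF0, map_zero, map_zero]
    have h1 := hev_inj h0
    have h2 : matOf g (conj F) = 0 := congrArg Subtype.val h1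
    set w₁ := DirectSum.lof K[X] ι (CyclicSum.Nq q) i (Submodule.Quotient.mk 1) with hw₁
    have h3 := hconj F (oF.symm (φ'.symm w₁))
    rw [h2, Matrix.zero_mulVec, LinearEquiv.apply_symm_apply, LinearEquiv.apply_symm_apply] at h3
    have h4 : F w₁ = 0 := by
      have := congrArg (fun z => φ' (oF z)) h3
      simpa using this.symm
    exact hF1 h4
  have hcop : Pairwise (IsCoprime on fun i => Ideal.span {q i}) := by
    intro i j hij
    change IsCoprime (Ideal.span {q i}) (Ideal.span {q j})
    rw [Ideal.isCoprime_span_singleton_iff]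
    rcases le_total (e i) (e j) with hle | hle
    · exact key i j hij hle
    · exact (key j i hij.symm hle).symm
  -- the cyclic vector
  refine ⟨v₀, isCyclic_of_forall_exists_aeval g v₀ (fun v => ?_)⟩
  obtain ⟨r, hr⟩ := CyclicSum.exists_smul_w₀ q hcop (φ' (oF v))
  refine ⟨r, ?_⟩
  have h1 : r • m₀ = oF v := by
    apply φ'.injective
    rw [map_smul, hm₀, LinearEquiv.apply_symm_apply, hr]
  have h2 : oF.symm (r • m₀) = (aeval (Matrix.toLin' g) r) v₀ :=
    Module.AEval.of_symm_smul (Matrix.toLin' g) r m₀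
  have h3 : aeval (Matrix.toLin' g) r = Matrix.toLin' (aeval g r) := by
    have := Polynomial.aeval_algHom_apply (Matrix.toLinAlgEquiv' : Matrix (Fin n) (Fin n) K ≃ₐ[K] _).toAlgHom g r
    exact this
  rw [h1, LinearEquiv.symm_apply_apply, h3, Matrix.toLin'_apply] at h2
  exact h2.symm

end Groth.Agent.Lib.Helper80.CyclicVec
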