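import Mathlib
import Groth.Agent.Lib.Helper80.CyclicVec

/-!
# Explicit coefficients for the commutant of a matrix with a cyclic vector, and a flatness criterion
-/

set_option autoImplicit false

namespace Groth.Agent.Lib.Helper80.CyclicVec

open Matrix

variable {B : Type*} [CommRing B] {n : ℕ}

/-- The coefficient vector of `x v` in the Krylov basis. -/
noncomputable def coeffs (g : Matrix (Fin n) (Fin n) B) (v : Fin n → B)
    (x : Matrix (Fin n) (Fin n) B) : Fin n → B :=
  (krylov g v)⁻¹ *ᵥ (x *ᵥ v)

/-- The polynomial `∑ c_k g^k`. -/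
def polyMat (g : Matrix (Fin n) (Fin n) B) (c : Fin n → B) : Matrix (Fin n) (Fin n) B :=
  ∑ k : Fin n, c k • g ^ (k : ℕ)

lemma polyMat_comm (g : Matrix (Fin n) (Fin n) B) (c : Fin n → B) :
    polyMat g c * g = g * polyMat g c := by
  unfold polyMat
  rw [Finset.sum_mul, Finset.mul_sum]
  refine Finset.sum_congr rfl fun k _ => ?_
  rw [Matrix.smul_mul, Matrix.mul_smul, ← pow_succ, ← pow_succ']

lemma map_pow' {C : Type*} [CommRing C] (f : B →+* C) (g : Matrix (Fin n) (Fin n) B) (k : ℕ) :
    (g ^ k).map f = (g.map f) ^ k := by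
  have := (RingHom.mapMatrix (m := Fin n) f).map_pow g k
  simpa using this

lemma polyMat_map {C : Type*} [CommRing C] (f : B →+* C) (g : Matrix (Fin n) (Fin n) B)
    (c : Fin n → B) : (polyMat g c).map f = polyMat (g.map f) (f ∘ c) := by
  unfold polyMat
  ext i j
  simp only [Matrix.map_apply, Matrix.sum_apply, Matrix.smul_apply, smul_eq_mul, map_sum, map_mul,
    Function.comp_apply]
  refine Finset.sum_congr rfl fun k _ => ?_
  rw [← map_pow', Matrix.map_apply]

/-- If `g` has the cyclic vector `v`, every matrix commuting with `g` is the polynomial in `g`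
with coefficients `coeffs g v x`. -/
theorem eq_polyMat_coeffs {g : Matrix (Fin n) (Fin n) B} {v : Fin n → B} (hcyc : IsCyclic g v)
    (x : Matrix (Fin n) (Fin n) B) (hx : x * g = g * x) :
    x = polyMat g (coeffs g v x) := by
  set P := krylov g v with hP
  have hPu : IsUnit P.det := hcyc
  set c : Fin n → B := coeffs g v x with hc
  set y : Matrix (Fin n) (Fin n) B := polyMat g c with hy
  have hxk : ∀ k : ℕ, x * g ^ k = g ^ k * x := by
    intro k
    induction k with
    | zero => simp
    | succ k ih => rw [pow_succ, ← mul_assoc, ih, mul_assoc, hx, ← mul_assoc]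
  have hyg : y * g = g * y := polyMat_comm g c
  have hyk : ∀ k : ℕ, y * g ^ k = g ^ k * y := by
    intro k
    induction k with
    | zero => simp
    | succ k ih => rw [pow_succ, ← mul_assoc, ih, mul_assoc, hyg, ← mul_assoc]
  have hxv : x *ᵥ v = y *ᵥ v := by
    have h1 : P *ᵥ c = x *ᵥ v := by
      rw [hc, coeffs, Matrix.mulVec_mulVec, Matrix.mul_nonsing_inv _ hPu, Matrix.one_mulVec]
    rw [← h1]
    ext i
    have e1 : (P *ᵥ c) i = ∑ k : Fin n, ∑ j : Fin n, (g ^ (k : ℕ)) i j * v j * c k := by
      simp only [Matrix.mulVec, dotProduct, hP, krylov, Matrix.of_apply, Finset.sum_mul]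
    have e2 : (y *ᵥ v) i = ∑ j : Fin n, ∑ k : Fin n, c k * (g ^ (k : ℕ)) i j * v j := by
      simp only [Matrix.mulVec, dotProduct, hy, polyMat, Matrix.sum_apply, Matrix.smul_apply,
        smul_eq_mul, Finset.sum_mul]
    rw [e1, e2, Finset.sum_comm]
    refine Finset.sum_congr rfl fun j _ => Finset.sum_congr rfl fun k _ => ?_
    ring
  have hcols : x * P = y * P := by
    rw [hP, mul_krylov, mul_krylov]
    ext i k
    simp only [Matrix.of_apply]
    rw [Matrix.mulVec_mulVec, Matrix.mulVec_mulVec, hxk, hyk, ← Matrix.mulVec_mulVec,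
      ← Matrix.mulVec_mulVec, hxv]
  calc x = x * P * P⁻¹ := by rw [Matrix.mul_nonsing_inv_cancel_right _ _ hPu]
    _ = y * P * P⁻¹ := by rw [hcols]
    _ = y := by rw [Matrix.mul_nonsing_inv_cancel_right _ _ hPu]

section Flat

universe u

variable {A : Type u} [CommRing A] {L : Type u} [CommRing L] [Algebra A L] [Module.Flat A L]
  {n : ℕ}

/-- The generic polynomial in `g` over `L[c_0, …, c_{n-1}]`. -/
noncomputable def genPoly (g : Matrix (Fin n) (Fin n) A) (L : Type u) [CommRing L] [Algebra A L] :
    Matrix (Fin n) (Fin n) (MvPolynomial (Fin n) L) :=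
  polyMat (g.map (algebraMap A (MvPolynomial (Fin n) L))) (fun k => MvPolynomial.X k)

/-- Abstract flatness criterion: an `A`-algebra `O'` carrying a universal invertible matrix
commuting with `g`, over which `g` acquires a cyclic vector coming from a flat `A`-algebra `L`,
is flat over `A` (it is a retract of `L[c][1/det]`). -/
theorem flat_of_univ (g : Matrix (Fin n) (Fin n) A) (v : Fin n → L)
    (hv : IsCyclic (g.map (algebraMap A L)) v)
    (S : Submonoid A) (hS : ∀ s ∈ S, IsUnit (algebraMap A L s))
    (O' : Type u) [CommRing O'] [Algebra A O'] (lam : L →+* O')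
    (hlam : ∀ a, lam (algebraMap A L a) = algebraMap A O' a)
    (Xb : Matrix (Fin n) (Fin n) O')
    (hXg : Xb * g.map (algebraMap A O') = g.map (algebraMap A O') * Xb) (hXu : IsUnit Xb.det)
    (huniv : ∀ (T : Type u) [CommRing T] [Algebra A T] (Y : Matrix (Fin n) (Fin n) T),
      (∀ s ∈ S, IsUnit (algebraMap A T s)) →
      Y * g.map (algebraMap A T) = g.map (algebraMap A T) * Y → IsUnit Y.det →
        ∃ α : O' →ₐ[A] T, Xb.map α = Y)
    (hext : ∀ φ : O' →ₐ[A] O', Xb.map φ = Xb → φ = AlgHom.id A O') :
    Module.Flat A O' := by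
  classical
  set d : MvPolynomial (Fin n) L := (genPoly g L).det with hd
  set T := Localization.Away d with hT
  have hflatMv : Module.Flat A (MvPolynomial (Fin n) L) := Module.Flat.trans A L _
  have hflatT : Module.Flat A T := inferInstance
  -- the universal matrix over `T`
  let ι : MvPolynomial (Fin n) L →+* T := algebraMap _ T
  set Y : Matrix (Fin n) (Fin n) T := (genPoly g L).map ι with hY
  have hgT : (g.map (algebraMap A (MvPolynomial (Fin n) L))).map ι = g.map (algebraMap A T) := by
    ext i j
    simp only [Matrix.map_apply, ι]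
    exact (IsScalarTower.algebraMap_apply A (MvPolynomial (Fin n) L) T _).symm
  have hYpoly : Y = polyMat (g.map (algebraMap A T)) (fun k => ι (MvPolynomial.X k)) := by
    rw [hY, genPoly, polyMat_map, hgT]
    rfl
  have hYg : Y * g.map (algebraMap A T) = g.map (algebraMap A T) * Y := by
    rw [hYpoly]; exact polyMat_comm _ _
  have hYu : IsUnit Y.det := by
    have : Y.det = ι d := (RingHom.map_det ι (genPoly g L)).symm
    rw [this]
    exact IsLocalization.Away.algebraMap_isUnit d
  have hST : ∀ s ∈ S, IsUnit (algebraMap A T s) := by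
    intro s hs
    rw [IsScalarTower.algebraMap_apply A L T]
    exact (hS s hs).map _
  obtain ⟨α, hα⟩ := huniv T Y hST hYg hYu
  -- the map back
  have hcycO : IsCyclic (g.map (algebraMap A O')) (lam ∘ v) := by
    have := hv.map lam
    have e : (g.map (algebraMap A L)).map lam = g.map (algebraMap A O') := by
      ext i j
      simp only [Matrix.map_apply, hlam]
    rwa [e] at this
  set c' : Fin n → O' := coeffs (g.map (algebraMap A O')) (lam ∘ v) Xb with hc'
  have hXb : Xb = polyMat (g.map (algebraMap A O')) c' := eq_polyMat_coeffs hcycO Xb hXg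
  let β₁ : MvPolynomial (Fin n) L →+* O' := MvPolynomial.eval₂Hom lam c'
  have hβ₁A : ∀ a : A, β₁ (algebraMap A (MvPolynomial (Fin n) L) a) = algebraMap A O' a := by
    intro a
    have : algebraMap A (MvPolynomial (Fin n) L) a = MvPolynomial.C (algebraMap A L a) := by
      rw [IsScalarTower.algebraMap_apply A L (MvPolynomial (Fin n) L)]
      rfl
    rw [this]
    simp only [β₁, MvPolynomial.coe_eval₂Hom, MvPolynomial.eval₂_C, hlam]
  have hβ₁gen : (genPoly g L).map β₁ = Xb := by
    rw [genPoly, polyMat_map]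
    have e : (g.map (algebraMap A (MvPolynomial (Fin n) L))).map β₁ = g.map (algebraMap A O') := by
      ext i j
      simp only [Matrix.map_apply, hβ₁A]
    have e2 : (β₁ ∘ fun k : Fin n => (MvPolynomial.X k : MvPolynomial (Fin n) L)) = c' := by
      funext k
      simp only [Function.comp_apply, β₁, MvPolynomial.coe_eval₂Hom, MvPolynomial.eval₂_X]
    rw [e, e2, ← hXb]
  have hβ₁d : IsUnit (β₁ d) := by
    have : β₁ d = ((genPoly g L).map β₁).det := RingHom.map_det β₁ (genPoly g L)
    rw [hβ₁gen] at this
    rw [this]; exact hXu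
  let β₂ : T →+* O' := IsLocalization.Away.lift d hβ₁d
  have hβ₂ι : ∀ z, β₂ (ι z) = β₁ z := fun z => IsLocalization.Away.lift_eq d hβ₁d z
  have hβ₂A : ∀ a : A, β₂ (algebraMap A T a) = algebraMap A O' a := by
    intro a
    rw [IsScalarTower.algebraMap_apply A (MvPolynomial (Fin n) L) T]
    exact (hβ₂ι _).trans (hβ₁A a)
  let β : T →ₐ[A] O' := { β₂ with commutes' := hβ₂A }
  have hβY : Y.map β = Xb := by
    rw [hY, ← hβ₁gen]
    ext i j
    simp only [Matrix.map_apply]
    exact hβ₂ι _
  have hcomp : β.comp α = AlgHom.id A O' := by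
    apply hext
    have : Xb.map (β.comp α) = (Xb.map α).map β := by
      ext i j; simp [Matrix.map_apply]
    rw [this, hα, hβY]
  refine Module.Flat.of_retract α.toLinearMap β.toLinearMap ?_
  ext z
  exact congrArg (fun f : O' →ₐ[A] O' => f z) hcomp

end Flat

end Groth.Agent.Lib.Helper80.CyclicVec
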