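/-
helper80: on a product `X ×_k C` over a field, the local ring of the fibre of `pr₁` at a point `z`
has dimension ≥ 1 as soon as `pr₂ z` has a proper generization in `C`.
-/
import Mathlib
import Groth.Prelude.Def_CInt

set_option autoImplicit false
universe u

open CategoryTheory CategoryTheory.Limits AlgebraicGeometry

namespace Groth.Agent.Lib.Helper80.FibreDimProd

variable {X C T : Scheme.{u}} (a : X ⟶ T) (b : C ⟶ T)

/-- the projection from a fibre of `pr₁ : X ×_T C → X` to `C` is a base change of
`Spec κ(x) → X → T`. -/
theorem isPullback_fiber (x : X) :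
    IsPullback ((pullback.fst a b).fiberι x ≫ pullback.snd a b)
      ((pullback.fst a b).fiberToSpecResidueField x) b (X.fromSpecResidueField x ≫ a) := by
  have h1 : IsPullback ((pullback.fst a b).fiberι x) ((pullback.fst a b).fiberToSpecResidueField x)
      (pullback.fst a b) (X.fromSpecResidueField x) :=
    IsPullback.of_hasPullback (pullback.fst a b) (X.fromSpecResidueField x)
  have h2 : IsPullback (pullback.snd a b) (pullback.fst a b) b a :=
    (IsPullback.of_hasPullback a b).flip
  exact h1.paste_horiz h2

theorem flat_fiber_to_snd [Subsingleton T] [IsIntegral T] (x : X) :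
    Flat ((pullback.fst a b).fiberι x ≫ pullback.snd a b) := by
  have : Flat (X.fromSpecResidueField x ≫ a) := inferInstance
  exact MorphismProperty.of_isPullback (isPullback_fiber a b x).flip this

/-- if `pr₂ z` has a proper generization then the fibre of `pr₁` through `z` has positive
dimension at `z`. -/
theorem one_le_dim_fiberStalk [Subsingleton T] [IsIntegral T] (z : ↥(pullback a b)) (c' : C)
    (hc' : c' ⤳ (pullback.snd a b) z) (hne : c' ≠ (pullback.snd a b) z) :
    (1 : WithBot ℕ∞) ≤ ringKrullDim ↑(CInt.fiberStalk (pullback.fst a b) z) := by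
  set f := pullback.fst a b
  have hfl := flat_fiber_to_snd a b (f z)
  have hgen := Flat.generalizingMap (f.fiberι (f z) ≫ pullback.snd a b)
  have hz : (f.fiberι (f z) ≫ pullback.snd a b) (f.asFiber z) = (pullback.snd a b) z := by
    rw [Scheme.Hom.comp_apply, Scheme.Hom.fiberι_asFiber]
  obtain ⟨w, hw, hwc⟩ := hgen (a := f.asFiber z) (b := c') (by rw [hz]; exact hc')
  have hwne : w ≠ f.asFiber z := by
    intro h
    rw [h, hz] at hwc
    exact hne hwc.symm
  change (1 : WithBot ℕ∞) ≤ ringKrullDim ((f.fiber (f z)).presheaf.stalk (f.asFiber z))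
  rw [ringKrullDim_stalk_eq_coheight]
  have hlt : f.asFiber z < w := by
    refine lt_iff_le_not_ge.mpr ⟨Scheme.le_iff_specializes.mpr hw, fun h => hwne ?_⟩
    exact ((Scheme.le_iff_specializes.mp h).antisymm hw).eq.symm
  have h4 : Order.coheight w + 1 ≤ Order.coheight (f.asFiber z) := Order.coheight_add_one_le hlt
  have h5 : (1 : ℕ∞) ≤ Order.coheight (f.asFiber z) := le_trans (by simp) h4
  exact WithBot.coe_le_coe.mpr h5

end Groth.Agent.Lib.Helper80.FibreDimProd
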