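import Mathlib
import Groth.Agent.S15806
import Groth.Agent.Lib.Helper29.Depth

/-!
# Uniqueness of morphisms agreeing on a schematically dense open (helper80)
-/

set_option autoImplicit false
universe u

open AlgebraicGeometry CategoryTheory Opposite TopologicalSpace

namespace Groth.Agent.Lib.Helper80

/-- Two `S`-morphisms `P ⟶ G₂` from a flat `S`-scheme to an `S`-affine scheme which agree over a
schematically dense open of the locally Noetherian base are equal. -/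
theorem hom_ext_of_isSchematicallyDense {S P G₂ : Scheme.{u}} [IsLocallyNoetherian S]
    (f₁ : P ⟶ S) [Flat f₁] (f₂ : G₂ ⟶ S) [IsAffineHom f₂] (U : S.Opens)
    (hdense : CInt.IsSchematicallyDense U) (φ ψ : P ⟶ G₂) (hφ : φ ≫ f₂ = f₁) (hψ : ψ ≫ f₂ = f₁)
    (h : (f₁ ⁻¹ᵁ U).ι ≫ φ = (f₁ ⁻¹ᵁ U).ι ≫ ψ) : φ = ψ := by
  have hdense₁ : CInt.IsSchematicallyDense (f₁ ⁻¹ᵁ U) := Groth.Agent.S3844.result f₁ U hdense
  apply Scheme.hom_ext_of_forall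
  intro x
  obtain ⟨_, ⟨W, hW : IsAffineOpen W, rfl⟩, hxW, -⟩ :=
    S.isBasis_affineOpens.exists_subset_of_mem_open (Set.mem_univ (f₁ x)) isOpen_univ
  refine ⟨f₁ ⁻¹ᵁ W, hxW, ?_⟩
  have h₁ : f₁ ⁻¹ᵁ W ≤ φ ⁻¹ᵁ (f₂ ⁻¹ᵁ W) := by
    rw [← Scheme.Hom.comp_preimage, hφ]
  have h₂ : f₁ ⁻¹ᵁ W ≤ ψ ⁻¹ᵁ (f₂ ⁻¹ᵁ W) := by
    rw [← Scheme.Hom.comp_preimage, hψ]
  rw [← Scheme.Hom.resLE_comp_ι φ h₁, ← Scheme.Hom.resLE_comp_ι ψ h₂]
  congr 1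
  have hA₂ : IsAffineOpen (f₂ ⁻¹ᵁ W) := hW.preimage f₂
  have : IsAffine (f₂ ⁻¹ᵁ W).toScheme := hA₂
  apply ext_of_isAffine
  change (Scheme.Hom.resLE φ (f₂ ⁻¹ᵁ W) (f₁ ⁻¹ᵁ W) h₁).app ⊤ =
    (Scheme.Hom.resLE ψ (f₂ ⁻¹ᵁ W) (f₁ ⁻¹ᵁ W) h₂).app ⊤
  rw [Scheme.Hom.resLE_app_top, Scheme.Hom.resLE_app_top]
  congr 2
  exact Groth.Agent.S15806.appLE_eq_of_isSchematicallyDense φ ψ _ hdense₁ h _ _ _ _

/-- depth `≥ 1` off `U` implies `U` is schematically dense -/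
theorem isSchematicallyDense_of_depth {S : Scheme.{u}} [IsLocallyNoetherian S] (U : S.Opens)
    (hU : ∀ s : S, s ∉ U → (1 : ℕ∞) ≤ LocCoh.depth (S.presheaf.stalk s) (S.presheaf.stalk s)) :
    CInt.IsSchematicallyDense U := by
  refine (Groth.Agent.S1699.result S U).mpr (fun s hs => ?_)
  by_contra hsU
  have h0 : LocCoh.depth (S.presheaf.stalk s) (S.presheaf.stalk s) = 0 :=
    (Groth.Agent.Lib.Helper29.depth_eq_zero_iff _ _).mpr hs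
  have := hU s hsU
  rw [h0] at this
  simp at this

end Groth.Agent.Lib.Helper80
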