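import Mathlib
import Groth.Agent.Lib.Helper80.HartogsGlue
import Groth.Agent.Lib.Helper80.SchDenseExt

/-!
# Extension of morphisms between affine-over-`S` schemes across depth `≥ 2` (helper80)
-/

set_option autoImplicit false
universe u

open AlgebraicGeometry CategoryTheory CategoryTheory.Limits Opposite TopologicalSpace

namespace Groth.Agent.Lib.Helper80

open Groth.Agent.Lib.Helper2

lemma appTop_homOfLE_bijective {P : Scheme.{u}} {O V : P.Opens} (e : O ≤ V)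
    (h : Function.Bijective (res e)) : Function.Bijective (P.homOfLE e).appTop.hom := by
  rw [Scheme.homOfLE_appTop]
  have h2 : O = O.ι ''ᵁ (P.homOfLE e ⁻¹ᵁ ⊤) := by
    rw [Scheme.ι_image_homOfLE_eq_ι_image_inf, V.ι_image_top, inf_eq_right.mpr e]
  exact bijective_res_congr (V.ι_image_top).symm h2 e _ h

/-- Local extension over an affine open `W` of the base. -/
theorem exists_local_extension {S G₁ G₂ : Scheme.{u}} [IsLocallyNoetherian S]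
    (f₁ : G₁ ⟶ S) (f₂ : G₂ ⟶ S) [IsAffineHom f₁] [Flat f₁] [IsAffineHom f₂] (U : S.Opens)
    (hU : ∀ s : S, s ∉ U → (2 : ℕ∞) ≤ LocCoh.depth (S.presheaf.stalk s) (S.presheaf.stalk s))
    (k : (f₁ ⁻¹ᵁ U).toScheme ⟶ G₂) (hk : k ≫ f₂ = (f₁ ⁻¹ᵁ U).ι ≫ f₁)
    (W : S.Opens) (hW : IsAffineOpen W) :
    ∃ g : (f₁ ⁻¹ᵁ W).toScheme ⟶ G₂, g ≫ f₂ = (f₁ ⁻¹ᵁ W).ι ≫ f₁ ∧
      ∀ (T : Scheme.{u}) (t₁ : T ⟶ (f₁ ⁻¹ᵁ W).toScheme) (t₂ : T ⟶ (f₁ ⁻¹ᵁ U).toScheme),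
        t₁ ≫ (f₁ ⁻¹ᵁ W).ι = t₂ ≫ (f₁ ⁻¹ᵁ U).ι → t₁ ≫ g = t₂ ≫ k := by
  set V₁ : G₁.Opens := f₁ ⁻¹ᵁ W with hV₁def
  set V₂ : G₂.Opens := f₂ ⁻¹ᵁ W with hV₂def
  set O : G₁.Opens := V₁ ⊓ f₁ ⁻¹ᵁ U with hOdef
  have hV₁ : IsAffineOpen V₁ := hW.preimage f₁
  have hV₂ : IsAffineOpen V₂ := hW.preimage f₂
  haveI : IsAffine V₂.toScheme := hV₂
  haveI : IsAffine W.toScheme := hW
  let ι' : O.toScheme ⟶ V₁.toScheme := G₁.homOfLE inf_le_left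
  have hι' : ι' ≫ V₁.ι = O.ι := G₁.homOfLE_ι _
  have hres : Function.Bijective (res (inf_le_left : V₁ ⊓ f₁ ⁻¹ᵁ U ≤ V₁)) :=
    res_bijective_of_isAffineOpen U hU f₁ W hW V₁ hV₁ le_rfl
  have hbij : Function.Bijective ι'.appTop.hom := appTop_homOfLE_bijective _ hres
  let ρ : O.toScheme ⟶ (f₁ ⁻¹ᵁ U).toScheme := G₁.homOfLE inf_le_right
  have hρ : ρ ≫ (f₁ ⁻¹ᵁ U).ι = O.ι := G₁.homOfLE_ι _
  have hrange : Set.range (ρ ≫ k) ⊆ Set.range V₂.ι := by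
    rintro _ ⟨y, rfl⟩
    rw [Scheme.Opens.range_ι]
    change f₂ ((ρ ≫ k) y) ∈ W
    rw [← Scheme.Hom.comp_apply, Category.assoc, hk, ← Category.assoc, hρ]
    exact y.2.1
  let k' : O.toScheme ⟶ V₂.toScheme := IsOpenImmersion.lift V₂.ι (ρ ≫ k) hrange
  have hk' : k' ≫ V₂.ι = ρ ≫ k := IsOpenImmersion.lift_fac _ _ _
  obtain ⟨h, hh, -⟩ := existsUnique_extension_of_appTop_bijective ι' hbij k'
  have hh : ι' ≫ h = k' := hh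
  refine ⟨h ≫ V₂.ι, ?_, ?_⟩
  · -- compatibility with the structure morphisms
    let a : V₁.toScheme ⟶ W.toScheme := f₁.resLE W V₁ le_rfl
    let b : V₁.toScheme ⟶ W.toScheme := h ≫ f₂.resLE W V₂ le_rfl
    have ha : a ≫ W.ι = V₁.ι ≫ f₁ := Scheme.Hom.resLE_comp_ι _ _
    have hb : b ≫ W.ι = (h ≫ V₂.ι) ≫ f₂ := by
      rw [Category.assoc, Category.assoc, Scheme.Hom.resLE_comp_ι]
    have hab : ι' ≫ b = ι' ≫ a := by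
      rw [← cancel_mono W.ι]
      have lhs : (ι' ≫ b) ≫ W.ι = O.ι ≫ f₁ := by
        calc (ι' ≫ b) ≫ W.ι = ι' ≫ (b ≫ W.ι) := Category.assoc _ _ _
          _ = ι' ≫ ((h ≫ V₂.ι) ≫ f₂) := by rw [hb]
          _ = ((ι' ≫ h) ≫ V₂.ι) ≫ f₂ := by simp only [Category.assoc]
          _ = (ρ ≫ k) ≫ f₂ := by rw [hh, hk']
          _ = ρ ≫ (f₁ ⁻¹ᵁ U).ι ≫ f₁ := by rw [Category.assoc, hk]
          _ = O.ι ≫ f₁ := by rw [← Category.assoc, hρ]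
      have rhs : (ι' ≫ a) ≫ W.ι = O.ι ≫ f₁ := by
        rw [Category.assoc, ha, ← Category.assoc, hι']
      rw [lhs, rhs]
    have huniq := existsUnique_extension_of_appTop_bijective ι' hbij (ι' ≫ a)
    have : b = a := huniq.unique hab rfl
    rw [← hb, this, ha]
  · intro T t₁ t₂ ht
    have hr : Set.range (t₁ ≫ V₁.ι) ⊆ Set.range O.ι := by
      rintro _ ⟨x, rfl⟩
      rw [Scheme.Opens.range_ι]
      refine ⟨?_, ?_⟩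
      · change ((t₁ ≫ V₁.ι) x) ∈ V₁
        rw [Scheme.Hom.comp_apply]
        exact (t₁ x).2
      · change ((t₁ ≫ V₁.ι) x) ∈ f₁ ⁻¹ᵁ U
        rw [ht, Scheme.Hom.comp_apply]
        exact (t₂ x).2
    let s : T ⟶ O.toScheme := IsOpenImmersion.lift O.ι (t₁ ≫ V₁.ι) hr
    have hs : s ≫ O.ι = t₁ ≫ V₁.ι := IsOpenImmersion.lift_fac _ _ _
    have hs1 : s ≫ ι' = t₁ := by
      rw [← cancel_mono V₁.ι, Category.assoc, hι', hs]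
    have hs2 : s ≫ ρ = t₂ := by
      rw [← cancel_mono (f₁ ⁻¹ᵁ U).ι, Category.assoc, hρ, hs, ht]
    rw [← hs1, Category.assoc, ← Category.assoc ι', hh, hk', ← Category.assoc, hs2]

/-- Global extension. -/
theorem exists_extension_of_depth {S G₁ G₂ : Scheme.{u}} [IsLocallyNoetherian S]
    (f₁ : G₁ ⟶ S) (f₂ : G₂ ⟶ S) [IsAffineHom f₁] [Flat f₁] [IsAffineHom f₂] (U : S.Opens)
    (hU : ∀ s : S, s ∉ U → (2 : ℕ∞) ≤ LocCoh.depth (S.presheaf.stalk s) (S.presheaf.stalk s))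
    (k : (f₁ ⁻¹ᵁ U).toScheme ⟶ G₂) (hk : k ≫ f₂ = (f₁ ⁻¹ᵁ U).ι ≫ f₁) :
    ∃ φ : G₁ ⟶ G₂, φ ≫ f₂ = f₁ ∧ (f₁ ⁻¹ᵁ U).ι ≫ φ = k := by
  have hdense : CInt.IsSchematicallyDense U := by
    apply isSchematicallyDense_of_depth
    intro s hs
    exact le_trans (by norm_num) (hU s hs)
  have hcov : IsOpenCover (fun W : S.affineOpens => f₁ ⁻¹ᵁ W.1) := by
    apply IsOpenCover.mk
    rw [eq_top_iff]
    intro x _
    obtain ⟨_, ⟨W, hW : IsAffineOpen W, rfl⟩, hxW, -⟩ :=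
      S.isBasis_affineOpens.exists_subset_of_mem_open (Set.mem_univ (f₁ x)) isOpen_univ
    exact Opens.mem_iSup.mpr ⟨⟨W, hW⟩, hxW⟩
  let 𝒰 : G₁.OpenCover := G₁.openCoverOfIsOpenCover _ hcov
  have key : ∀ i : 𝒰.I₀, ∃ g : 𝒰.X i ⟶ G₂, g ≫ f₂ = 𝒰.f i ≫ f₁ ∧
      ∀ (T : Scheme.{u}) (t₁ : T ⟶ 𝒰.X i) (t₂ : T ⟶ (f₁ ⁻¹ᵁ U).toScheme),
        t₁ ≫ 𝒰.f i = t₂ ≫ (f₁ ⁻¹ᵁ U).ι → t₁ ≫ g = t₂ ≫ k :=
    fun i => exists_local_extension f₁ f₂ U hU k hk i.1 i.2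
  choose g hg1 hg2 using key
  have hcompat : ∀ i i' : 𝒰.I₀, pullback.fst (𝒰.f i) (𝒰.f i') ≫ g i =
      pullback.snd (𝒰.f i) (𝒰.f i') ≫ g i' := by
    intro i i'
    obtain ⟨a, ha0⟩ : ∃ a : pullback (𝒰.f i) (𝒰.f i') ⟶ G₁,
      a = pullback.fst (𝒰.f i) (𝒰.f i') ≫ 𝒰.f i := ⟨_, rfl⟩
    have ha : a = pullback.snd (𝒰.f i) (𝒰.f i') ≫ 𝒰.f i' := ha0.trans pullback.condition
    haveI : Flat (a ≫ f₁) := by rw [ha0]; infer_instance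
    refine hom_ext_of_isSchematicallyDense (a ≫ f₁) f₂ U hdense _ _ ?_ ?_ ?_
    · rw [Category.assoc, hg1, ← Category.assoc, ← ha0]
    · rw [Category.assoc, hg1, ← Category.assoc, ← ha]
    · have hr : Set.range (((a ≫ f₁) ⁻¹ᵁ U).ι ≫ a) ⊆ Set.range (f₁ ⁻¹ᵁ U).ι := by
        rintro _ ⟨x, rfl⟩
        rw [Scheme.Opens.range_ι]
        change f₁ ((((a ≫ f₁) ⁻¹ᵁ U).ι ≫ a) x) ∈ U
        rw [← Scheme.Hom.comp_apply, Category.assoc, Scheme.Hom.comp_apply]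
        exact x.2
      let t₂ : ((a ≫ f₁) ⁻¹ᵁ U).toScheme ⟶ (f₁ ⁻¹ᵁ U).toScheme :=
        IsOpenImmersion.lift (f₁ ⁻¹ᵁ U).ι (((a ≫ f₁) ⁻¹ᵁ U).ι ≫ a) hr
      have ht₂ : t₂ ≫ (f₁ ⁻¹ᵁ U).ι = ((a ≫ f₁) ⁻¹ᵁ U).ι ≫ a := IsOpenImmersion.lift_fac _ _ _
      have e1 : (((a ≫ f₁) ⁻¹ᵁ U).ι ≫ pullback.fst (𝒰.f i) (𝒰.f i')) ≫ g i = t₂ ≫ k := by
        apply hg2
        rw [Category.assoc, ht₂, ← ha0]
      have e2 : (((a ≫ f₁) ⁻¹ᵁ U).ι ≫ pullback.snd (𝒰.f i) (𝒰.f i')) ≫ g i' = t₂ ≫ k := by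
        apply hg2
        rw [Category.assoc, ht₂, ← ha]
      rw [← Category.assoc, ← Category.assoc, e1, e2]
  let φ : G₁ ⟶ G₂ := 𝒰.glueMorphisms g hcompat
  have hφ : ∀ i, 𝒰.f i ≫ φ = g i := fun i => 𝒰.ι_glueMorphisms g hcompat i
  refine ⟨φ, ?_, ?_⟩
  · apply 𝒰.hom_ext
    intro i
    rw [← Category.assoc, hφ, hg1]
  · let 𝒱 : (f₁ ⁻¹ᵁ U).toScheme.OpenCover := 𝒰.pullback₁ (f₁ ⁻¹ᵁ U).ι
    apply 𝒱.hom_ext
    intro i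
    let i' : 𝒰.I₀ := i
    have e1 : pullback.snd (f₁ ⁻¹ᵁ U).ι (𝒰.f i') ≫ g i' =
        pullback.fst (f₁ ⁻¹ᵁ U).ι (𝒰.f i') ≫ k := by
      apply hg2
      exact pullback.condition.symm
    have e2 : pullback.fst (f₁ ⁻¹ᵁ U).ι (𝒰.f i') ≫ (f₁ ⁻¹ᵁ U).ι =
        pullback.snd (f₁ ⁻¹ᵁ U).ι (𝒰.f i') ≫ 𝒰.f i' := pullback.condition
    exact (Category.assoc _ _ _).symm.trans ((congrArg (fun t => t ≫ φ) e2).trans
      ((Category.assoc _ _ _).trans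
        ((congrArg (fun t => pullback.snd (f₁ ⁻¹ᵁ U).ι (𝒰.f i') ≫ t) (hφ i')).trans e1)))

end Groth.Agent.Lib.Helper80
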