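import Mathlib
import Groth.Prelude.Def_Coh
import Groth.Agent.Lib.Helper11.CounitEpi
import Groth.Agent.Lib.Helper16.FlatPull.Chart

/-!
# Quasi-coherent modules over the spectrum of a field are free; pullbacks of free modules are free
-/
set_option autoImplicit false
universe u
open CategoryTheory CategoryTheory.Limits AlgebraicGeometry TopologicalSpace Opposite

namespace Groth.Agent.Lib.Helper80.FreeOverField

/-- a quasi-coherent module on `Spec K`, `K` a field, is free. -/
theorem exists_iso_free_of_field (K : Type u) [Field K]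
    (C : (Spec (CommRingCat.of K)).Modules) [C.IsQuasicoherent] :
    ∃ I : Type u, Nonempty (C ≅ ∐ fun _ : I => Coh.structureModule (Spec (CommRingCat.of K))) := by
  let M : ModuleCat.{u} K :=
    (modulesSpecToSheaf (R := CommRingCat.of K).obj C).presheaf.obj (.op ⊤)
  have hiso : IsIso (Scheme.Modules.fromTildeΓ (R := CommRingCat.of K) C) :=
    Scheme.Modules.isIso_fromTildeΓ_of_isQuasicoherent (R := CommRingCat.of K) C
  have e1 : tilde (R := CommRingCat.of K) M ≅ C :=
    asIso (Scheme.Modules.fromTildeΓ (R := CommRingCat.of K) C)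
  let ι : Type u := Module.Free.ChooseBasisIndex K M
  let b : Module.Basis ι K M := Module.Free.chooseBasis K M
  let e2 : M ≅ ModuleCat.of K (ι →₀ K) := b.repr.toModuleIso
  let e3 : tilde (R := CommRingCat.of K) M ≅
      tilde (R := CommRingCat.of K) (ModuleCat.of K (ι →₀ K)) :=
    (tilde.functor (CommRingCat.of K)).mapIso e2
  let e4 : tilde (R := CommRingCat.of K) (ModuleCat.of K (ι →₀ K)) ≅ SheafOfModules.free.{u} ι :=
    tildeFinsupp (R := CommRingCat.of K) ι
  exact ⟨ι, ⟨e1.symm ≪≫ e3 ≪≫ e4⟩⟩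

/-- the pullback of a free module is free. -/
theorem nonempty_pullback_free_iso {X Y : Scheme.{u}} (f : X ⟶ Y) (I : Type u) :
    Nonempty ((Scheme.Modules.pullback f).obj (∐ fun _ : I => Coh.structureModule Y) ≅
      ∐ fun _ : I => Coh.structureModule X) := by
  have h1 : IsIso (sigmaComparison (Scheme.Modules.pullback f)
      (fun _ : I => Coh.structureModule Y)) := inferInstance
  exact ⟨(asIso (sigmaComparison (Scheme.Modules.pullback f)
      (fun _ : I => Coh.structureModule Y))).symm ≪≫
    Sigma.mapIso (fun _ : I => Groth.Agent.Lib.Helper11.CounitEpi.pullbackUnitIso f)⟩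

/-- a quasi-coherent module on a scheme isomorphic to `Spec K`, `K` a field, is free. -/
theorem exists_iso_free_of_iso_spec_field {S : Scheme.{u}} (K : Type u) [Field K]
    (φ : S ≅ Spec (CommRingCat.of K)) (C : S.Modules) [C.IsQuasicoherent] :
    ∃ I : Type u, Nonempty (C ≅ ∐ fun _ : I => Coh.structureModule S) := by
  have : ((Scheme.Modules.pullback φ.inv).obj C).IsQuasicoherent :=
    Groth.Agent.Lib.Helper16.FlatPull.isQuasicoherent_pullback φ.inv C
  obtain ⟨I, ⟨e⟩⟩ := exists_iso_free_of_field K ((Scheme.Modules.pullback φ.inv).obj C)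
  obtain ⟨e'⟩ := nonempty_pullback_free_iso φ.hom I
  refine ⟨I, ⟨?_⟩⟩
  let i1 : C ≅ (Scheme.Modules.pullback (𝟙 S)).obj C := ((Scheme.Modules.pullbackId S).app C).symm
  let i2 : (Scheme.Modules.pullback (𝟙 S)).obj C ≅
      (Scheme.Modules.pullback (φ.hom ≫ φ.inv)).obj C :=
    (Scheme.Modules.pullbackCongr φ.hom_inv_id.symm).app C
  let i3 : (Scheme.Modules.pullback (φ.hom ≫ φ.inv)).obj C ≅
      (Scheme.Modules.pullback φ.hom).obj ((Scheme.Modules.pullback φ.inv).obj C) :=
    ((Scheme.Modules.pullbackComp φ.hom φ.inv).app C).symm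
  exact i1 ≪≫ i2 ≪≫ i3 ≪≫ (Scheme.Modules.pullback φ.hom).mapIso e ≪≫ e'

end Groth.Agent.Lib.Helper80.FreeOverField
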