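import Mathlib

/-!
# The multiplication square of a group scheme is cartesian

For a group object `G` of `Over S` (schemes): `(μ, pr₁) : G ×_S G ⟶ G ×_S G` is an isomorphism,
i.e. the square `(μ.left, pr₁)` over `(G.hom, G.hom)` is cartesian.
-/
set_option autoImplicit false
universe u
open CategoryTheory CategoryTheory.Limits AlgebraicGeometry MonoidalCategory
  CartesianMonoidalCategory MonObj GrpObj

namespace Groth.Agent.Lib.Helper80.GroupShear

open scoped MonObj

section General

variable {C : Type*} [Category C] [CartesianMonoidalCategory C] (G : C) [GrpObj G]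

/-- `(g, h) ↦ (g h, g)`. -/
def shear : G ⊗ G ⟶ G ⊗ G := lift μ[G] (fst G G)

/-- `(a, b) ↦ (b, b⁻¹ a)`. -/
def shearInv : G ⊗ G ⟶ G ⊗ G := lift (snd G G) ((snd G G)⁻¹ * fst G G)

theorem shear_shearInv : shear G ≫ shearInv G = 𝟙 _ := by
  unfold shear shearInv
  rw [comp_lift, MonObj.comp_mul, GrpObj.comp_inv, lift_snd, lift_fst, MonObj.mul_eq_mul,
    inv_mul_cancel_left, lift_fst_snd]

theorem shearInv_shear : shearInv G ≫ shear G = 𝟙 _ := by
  unfold shear shearInv
  rw [comp_lift, lift_fst, MonObj.mul_eq_mul, MonObj.comp_mul, lift_fst, lift_snd,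
    mul_inv_cancel_left]
  exact lift_fst_snd

/-- the shear isomorphism. -/
def shearIso : G ⊗ G ≅ G ⊗ G where
  hom := shear G
  inv := shearInv G
  hom_inv_id := shear_shearInv G
  inv_hom_id := shearInv_shear G

end General

variable {S : Scheme.{u}} (G : Over S) [GrpObj G]

theorem unit_left_hom : η[G].left ≫ G.hom = 𝟙 S := Over.w η[G]

omit [GrpObj G] in
theorem isPullback_fst_snd : IsPullback (fst G G).left (snd G G).left G.hom G.hom :=
  IsPullback.of_hasPullback G.hom G.hom

/-- **the multiplication square is cartesian**. -/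
theorem isPullback_mul : IsPullback μ[G].left (fst G G).left G.hom G.hom := by
  have w : μ[G].left ≫ G.hom = (fst G G).left ≫ G.hom := by
    rw [Over.w μ[G], Over.w (fst G G)]
  refine IsPullback.of_iso_pullback ⟨w⟩ ((Over.forget S).mapIso (shearIso G)) ?_ ?_
  · change (shear G).left ≫ (fst G G).left = μ[G].left
    rw [← Over.comp_left]
    unfold shear
    rw [lift_fst]
  · change (shear G).left ≫ (snd G G).left = (fst G G).left
    rw [← Over.comp_left]
    unfold shear
    rw [lift_snd]

/-- the section `g ↦ (g, e)`. -/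
noncomputable def unitSection : G.left ⟶ (G ⊗ G).left := (lift (𝟙 G) (toUnit G ≫ η[G])).left

theorem unitSection_snd : unitSection G ≫ (snd G G).left = G.hom ≫ η[G].left := by
  unfold unitSection
  rw [← Over.comp_left, lift_snd]
  rfl

theorem unitSection_mul : unitSection G ≫ μ[G].left = 𝟙 G.left := by
  unfold unitSection
  rw [← Over.comp_left, lift_comp_one_right]
  rfl

end Groth.Agent.Lib.Helper80.GroupShear
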