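import Mathlib
import Groth.Prelude.Def_Grpd

/-!
# The composition square of a groupoid scheme is cartesian

For a groupoid scheme `(U, R, s, t, c, e, i)`: the square `(c, pr₁) : R ×_{s,U,t} R ⟶ R ×_{t,U,t} R`
is cartesian, i.e. `(α, β) ↦ (α ∘ β, α)` is an isomorphism onto `R ×_{t,U,t} R`.
-/
set_option autoImplicit false
universe u
open CategoryTheory CategoryTheory.Limits AlgebraicGeometry

namespace Groth.Agent.Lib.Helper80.GroupoidShear

variable {S : Scheme.{u}} (G : Grpd.GroupoidScheme S)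

/-- composition on `T`-points. -/
noncomputable def cmp {T : Scheme.{u}} (α β : T ⟶ G.R) (h : α ≫ G.s = β ≫ G.t) : T ⟶ G.R :=
  pullback.lift α β h ≫ G.c

theorem cmp_congr {T : Scheme.{u}} {α α' β β' : T ⟶ G.R} (hα : α = α') (hβ : β = β')
    (h : α ≫ G.s = β ≫ G.t) (h' : α' ≫ G.s = β' ≫ G.t) : cmp G α β h = cmp G α' β' h' := by
  subst hα hβ
  rfl

theorem cmp_s {T : Scheme.{u}} (α β : T ⟶ G.R) (h : α ≫ G.s = β ≫ G.t) :
    cmp G α β h ≫ G.s = β ≫ G.s := G.comp_s α β h

theorem cmp_t {T : Scheme.{u}} (α β : T ⟶ G.R) (h : α ≫ G.s = β ≫ G.t) :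
    cmp G α β h ≫ G.t = α ≫ G.t := G.comp_t α β h

theorem cmp_assoc {T : Scheme.{u}} (α β γ : T ⟶ G.R) (h₁ : α ≫ G.s = β ≫ G.t)
    (h₂ : β ≫ G.s = γ ≫ G.t) :
    cmp G (cmp G α β h₁) γ ((cmp_s G α β h₁).trans h₂) =
      cmp G α (cmp G β γ h₂) (h₁.trans (cmp_t G β γ h₂).symm) := G.assoc α β γ h₁ h₂

theorem cmp_fst_snd {T : Scheme.{u}} (m : T ⟶ pullback G.s G.t) :
    cmp G (m ≫ pullback.fst G.s G.t) (m ≫ pullback.snd G.s G.t)
      (by rw [Category.assoc, Category.assoc, pullback.condition]) = m ≫ G.c := by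
  unfold cmp
  congr 1
  apply pullback.hom_ext
  · rw [pullback.lift_fst]
  · rw [pullback.lift_snd]

/-- the lift `(b, b⁻¹ ∘ a)`. -/
noncomputable def shearLift {T : Scheme.{u}} (a b : T ⟶ G.R) (hab : a ≫ G.t = b ≫ G.t) :
    T ⟶ pullback G.s G.t :=
  pullback.lift b (cmp G (b ≫ G.i) a (by rw [Category.assoc, G.i_s, hab]))
    (by rw [cmp_t, Category.assoc, G.i_t])

theorem shearLift_fst {T : Scheme.{u}} (a b : T ⟶ G.R) (hab : a ≫ G.t = b ≫ G.t) :
    shearLift G a b hab ≫ pullback.fst G.s G.t = b := by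
  unfold shearLift
  rw [pullback.lift_fst]

theorem shearLift_c {T : Scheme.{u}} (a b : T ⟶ G.R) (hab : a ≫ G.t = b ≫ G.t) :
    shearLift G a b hab ≫ G.c = a := by
  have h1 : shearLift G a b hab ≫ G.c =
      cmp G b (cmp G (b ≫ G.i) a (by rw [Category.assoc, G.i_s, hab]))
        (by rw [cmp_t, Category.assoc, G.i_t]) := rfl
  rw [h1, ← cmp_assoc G b (b ≫ G.i) a (by rw [Category.assoc, G.i_t])
    (by rw [Category.assoc, G.i_s, hab])]
  have h2 : cmp G b (b ≫ G.i) (by rw [Category.assoc, G.i_t]) = a ≫ G.t ≫ G.e := by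
    have h := G.comp_i b
    have h' : b ≫ G.t ≫ G.e = a ≫ G.t ≫ G.e := by
      rw [← Category.assoc, ← hab, Category.assoc]
    exact h.trans h'
  have h3 : cmp G (a ≫ G.t ≫ G.e) a (by
      rw [Category.assoc, Category.assoc, G.e_s, Category.comp_id]) = a := G.e_comp a
  exact (cmp_congr G h2 rfl _ _).trans h3

theorem shearLift_unique {T : Scheme.{u}} (a b : T ⟶ G.R) (hab : a ≫ G.t = b ≫ G.t)
    (m : T ⟶ pullback G.s G.t) (hm1 : m ≫ G.c = a) (hm2 : m ≫ pullback.fst G.s G.t = b) :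
    m = shearLift G a b hab := by
  apply pullback.hom_ext
  · rw [hm2, shearLift_fst]
  · unfold shearLift
    rw [pullback.lift_snd]
    -- `β' = b⁻¹ ∘ (b ∘ β')`
    have hc : m ≫ pullback.fst G.s G.t ≫ G.s = (m ≫ pullback.snd G.s G.t) ≫ G.t := by
      rw [Category.assoc, pullback.condition]
    have hbβ : b ≫ G.s = (m ≫ pullback.snd G.s G.t) ≫ G.t := by
      rw [← hm2, Category.assoc]; exact hc
    have ha : a = cmp G b (m ≫ pullback.snd G.s G.t) hbβ := by
      rw [← hm1, ← cmp_fst_snd]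
      exact cmp_congr G hm2 rfl _ _
    have h1 : cmp G (b ≫ G.i) a (by rw [Category.assoc, G.i_s, hab]) =
        cmp G (b ≫ G.i) (cmp G b (m ≫ pullback.snd G.s G.t) hbβ)
          (by rw [cmp_t, Category.assoc, G.i_s]) := cmp_congr G rfl ha _ _
    rw [h1, ← cmp_assoc G (b ≫ G.i) b (m ≫ pullback.snd G.s G.t)
      (by rw [Category.assoc, G.i_s]) hbβ]
    have h2 : cmp G (b ≫ G.i) b (by rw [Category.assoc, G.i_s]) =
        (m ≫ pullback.snd G.s G.t) ≫ G.t ≫ G.e := by
      have h := G.i_comp b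
      have h' : b ≫ G.s ≫ G.e = (m ≫ pullback.snd G.s G.t) ≫ G.t ≫ G.e := by
        rw [← Category.assoc, hbβ, Category.assoc]
      exact h.trans h'
    have h3 : cmp G ((m ≫ pullback.snd G.s G.t) ≫ G.t ≫ G.e) (m ≫ pullback.snd G.s G.t) (by
        simp only [Category.assoc, G.e_s, Category.comp_id]) =
        m ≫ pullback.snd G.s G.t := G.e_comp (m ≫ pullback.snd G.s G.t)
    refine h3.symm.trans ?_
    exact cmp_congr G h2.symm rfl _ _

/-- **the composition square is cartesian**. -/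
theorem isPullback_c : IsPullback G.c (pullback.fst G.s G.t) G.t G.t := by
  have w : G.c ≫ G.t = pullback.fst G.s G.t ≫ G.t := by
    have h := G.comp_t (pullback.fst G.s G.t) (pullback.snd G.s G.t) pullback.condition
    have h1 : pullback.lift (pullback.fst G.s G.t) (pullback.snd G.s G.t) pullback.condition =
        𝟙 _ := by
      apply pullback.hom_ext
      · rw [pullback.lift_fst, Category.id_comp]
      · rw [pullback.lift_snd, Category.id_comp]
    rw [h1, Category.id_comp] at h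
    exact h
  refine IsPullback.mk ⟨w⟩ ⟨PullbackCone.IsLimit.mk _
    (fun s' => shearLift G s'.fst s'.snd s'.condition) ?_ ?_ ?_⟩
  · intro s'
    exact shearLift_c G _ _ _
  · intro s'
    exact shearLift_fst G _ _ _
  · intro s' m hm1 hm2
    exact shearLift_unique G _ _ _ m hm1 hm2

/-- the section `α ↦ (α, e(s α))`. -/
noncomputable def unitSection : G.R ⟶ pullback G.s G.t :=
  pullback.lift (𝟙 G.R) (G.s ≫ G.e) (by rw [Category.id_comp, Category.assoc, G.e_t,
    Category.comp_id])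

theorem unitSection_snd : unitSection G ≫ pullback.snd G.s G.t = G.s ≫ G.e := by
  unfold unitSection
  rw [pullback.lift_snd]

theorem unitSection_c : unitSection G ≫ G.c = 𝟙 G.R := by
  have h := G.comp_e (𝟙 G.R)
  refine Eq.trans ?_ h
  congr 1

end Groth.Agent.Lib.Helper80.GroupoidShear
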