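import Mathlib
import Groth.Prelude.Def_W4c2invhilbsl2HJ

/-!
# Hirzebruch–Jung continued fraction bookkeeping (helper80)

General facts about the sequences `hjP`, `hjQ` and the linear combination `tseq c b t i = t Pᵢ - b Qᵢ`,
plus the specialisation to `gcdK`, `bB`, `tT`, `nN`.
-/

set_option autoImplicit false

namespace Groth.Agent.Lib.Helper80.HJ

open W4c2invhilbsl2

/-- `tᵢ = t Pᵢ - b Qᵢ`. -/
def tseq (c : List ℤ) (b t : ℤ) (i : ℕ) : ℤ := t * hjP c i - b * hjQ c i

lemma hjP_zero (c : List ℤ) : hjP c 0 = 0 := by simp [hjP]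
lemma hjP_one (c : List ℤ) : hjP c 1 = 1 := by simp [hjP]
lemma hjP_add_two (c : List ℤ) (i : ℕ) : hjP c (i + 2) = c.getD i 0 * hjP c (i + 1) - hjP c i := by
  simp [hjP]
lemma hjQ_zero (c : List ℤ) : hjQ c 0 = -1 := by simp [hjQ]
lemma hjQ_one (c : List ℤ) : hjQ c 1 = 0 := by simp [hjQ]
lemma hjQ_add_two (c : List ℤ) (i : ℕ) : hjQ c (i + 2) = c.getD i 0 * hjQ c (i + 1) - hjQ c i := by
  simp [hjQ]

lemma tseq_zero (c : List ℤ) (b t : ℤ) : tseq c b t 0 = b := by
  simp [tseq, hjP_zero, hjQ_zero]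
lemma tseq_one (c : List ℤ) (b t : ℤ) : tseq c b t 1 = t := by
  simp [tseq, hjP_one, hjQ_one]
lemma tseq_add_two (c : List ℤ) (b t : ℤ) (i : ℕ) :
    tseq c b t (i + 2) = c.getD i 0 * tseq c b t (i + 1) - tseq c b t i := by
  simp only [tseq, hjP_add_two, hjQ_add_two]; ring

/-- determinant identity -/
lemma det_PQ (c : List ℤ) (i : ℕ) : hjP c (i + 1) * hjQ c i - hjP c i * hjQ c (i + 1) = -1 := by
  induction i with
  | zero => simp [hjP_zero, hjP_one, hjQ_zero, hjQ_one]
  | succ i ih =>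
    rw [hjP_add_two, hjQ_add_two]
    linear_combination ih

/-- `P` is increasing with positive steps while digits are `≥ 2`. -/
lemma hjP_step (c : List ℤ) (h2 : ∀ x ∈ c, (2 : ℤ) ≤ x) (i : ℕ) (hi : i ≤ c.length) :
    0 ≤ hjP c i ∧ 1 ≤ hjP c (i + 1) - hjP c i := by
  induction i with
  | zero => simp [hjP_zero, hjP_one]
  | succ i ih =>
    have hi' : i < c.length := hi
    obtain ⟨h0, h1⟩ := ih (le_of_lt hi')
    have hc : (2 : ℤ) ≤ c.getD i 0 := by
      rw [List.getD_eq_getElem _ _ hi']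
      exact h2 _ (List.getElem_mem hi')
    refine ⟨by linarith, ?_⟩
    rw [hjP_add_two]
    have : 0 ≤ hjP c (i + 1) := by linarith
    nlinarith

lemma hjP_lt_succ (c : List ℤ) (h2 : ∀ x ∈ c, (2 : ℤ) ≤ x) (i : ℕ) (hi : i ≤ c.length) :
    hjP c i < hjP c (i + 1) := by
  have := (hjP_step c h2 i hi).2; linarith

lemma hjP_nonneg (c : List ℤ) (h2 : ∀ x ∈ c, (2 : ℤ) ≤ x) (i : ℕ) (hi : i ≤ c.length) :
    0 ≤ hjP c i := (hjP_step c h2 i hi).1

lemma hjP_pos (c : List ℤ) (h2 : ∀ x ∈ c, (2 : ℤ) ≤ x) (i : ℕ) (hi : i ≤ c.length) :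
    0 < hjP c (i + 1) := by
  have := hjP_step c h2 i hi; linarith [this.1, this.2]

lemma hjVal_gt_one (l : List ℤ) (hl : l ≠ []) (h2 : ∀ x ∈ l, (2 : ℤ) ≤ x) :
    1 < HJFrac.hjVal l := by
  induction l with
  | nil => exact absurd rfl hl
  | cons a l ih =>
    have ha : (2 : ℚ) ≤ a := by exact_mod_cast h2 a (List.mem_cons_self)
    show 1 < (a : ℚ) - (HJFrac.hjVal l)⁻¹
    by_cases hl' : l = []
    · subst hl'
      simp only [HJFrac.hjVal, inv_zero, sub_zero]
      linarith
    · have := ih hl' (fun x hx => h2 x (List.mem_cons_of_mem _ hx))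
      have h3 : (HJFrac.hjVal l)⁻¹ < 1 := inv_lt_one_of_one_lt₀ this
      linarith

section ratio

variable (c : List ℤ) (h2 : ∀ x ∈ c, (2 : ℤ) ≤ x) (b t : ℤ) (hb : 0 < b)
  (hv : HJFrac.hjVal c = (b : ℚ) / (t : ℚ))

include h2 hb hv

lemma drop_gt_one (j : ℕ) (hj : j < c.length) : 1 < HJFrac.hjVal (c.drop j) := by
  apply hjVal_gt_one
  · intro h
    have := congrArg List.length h
    simp at this
    omega
  · intro x hx
    exact h2 x (List.mem_of_mem_drop hx)

lemma tseq_ratio (j : ℕ) (hj : j ≤ c.length) :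
    (tseq c b t (j + 1) : ℚ) = (tseq c b t j : ℚ) / HJFrac.hjVal (c.drop j) := by
  induction j with
  | zero =>
    rw [tseq_zero, tseq_one, List.drop_zero, hv]
    have hb' : (b : ℚ) ≠ 0 := by exact_mod_cast hb.ne'
    by_cases ht : (t : ℚ) = 0
    · simp [ht]
    · field_simp
  | succ j ih =>
    have hj' : j < c.length := hj
    have ih' := ih (le_of_lt hj')
    have hv1 := drop_gt_one c h2 b t hb hv j hj'
    have hdrop : c.drop j = c.getD j 0 :: c.drop (j + 1) := by
      rw [List.getD_eq_getElem _ _ hj']; exact List.drop_eq_getElem_cons hj'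
    have hval : HJFrac.hjVal (c.drop j)
        = ((c.getD j 0 : ℤ) : ℚ) - (HJFrac.hjVal (c.drop (j + 1)))⁻¹ := by
      rw [hdrop]; rfl
    have hne : HJFrac.hjVal (c.drop j) ≠ 0 := by linarith
    have h1 : (tseq c b t j : ℚ) = HJFrac.hjVal (c.drop j) * tseq c b t (j + 1) := by
      rw [ih']; field_simp
    rw [show j + 1 + 1 = j + 2 from rfl, tseq_add_two]
    push_cast
    rw [h1, div_eq_mul_inv]
    have : (HJFrac.hjVal (c.drop (j + 1)))⁻¹
        = ((c.getD j 0 : ℤ) : ℚ) - HJFrac.hjVal (c.drop j) := by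
      rw [hval]; ring
    rw [this]; ring

lemma tseq_pos (j : ℕ) (hj : j ≤ c.length) : 0 < tseq c b t j := by
  induction j with
  | zero => rw [tseq_zero]; exact hb
  | succ j ih =>
    have hj' : j < c.length := hj
    have ih' := ih (le_of_lt hj')
    have hv1 := drop_gt_one c h2 b t hb hv j hj'
    have hr := tseq_ratio c h2 b t hb hv j (le_of_lt hj')
    have : (0 : ℚ) < tseq c b t (j + 1) := by
      rw [hr]
      apply div_pos
      · exact_mod_cast ih'
      · linarith
    exact_mod_cast this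

lemma tseq_last : tseq c b t (c.length + 1) = 0 := by
  have hr := tseq_ratio c h2 b t hb hv c.length le_rfl
  rw [List.drop_length] at hr
  simp only [HJFrac.hjVal, div_zero] at hr
  exact_mod_cast hr

lemma tseq_lt (j : ℕ) (hj : j ≤ c.length) : tseq c b t (j + 1) < tseq c b t j := by
  rcases Nat.lt_or_ge j c.length with hj' | hj'
  · have hv1 := drop_gt_one c h2 b t hb hv j hj'
    have hr := tseq_ratio c h2 b t hb hv j hj
    have hp := tseq_pos c h2 b t hb hv j hj
    have hp' : (0 : ℚ) < tseq c b t j := by exact_mod_cast hp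
    have : (tseq c b t (j + 1) : ℚ) < tseq c b t j := by
      rw [hr]
      exact div_lt_self hp' hv1
    exact_mod_cast this
  · have : j = c.length := le_antisymm hj hj'
    subst this
    rw [tseq_last c h2 b t hb hv]
    exact tseq_pos c h2 b t hb hv _ le_rfl

omit h2 hb hv in
lemma tseq_isCoprime (hcop : IsCoprime b t) (j : ℕ) :
    IsCoprime (tseq c b t j) (tseq c b t (j + 1)) := by
  induction j with
  | zero => rw [tseq_zero, tseq_one]; exact hcop
  | succ j ih =>
    rw [show j + 1 + 1 = j + 2 from rfl, tseq_add_two]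
    have h1 : IsCoprime (tseq c b t (j + 1)) (-tseq c b t j) := ih.symm.neg_right
    have h3 := h1.add_mul_left_right (c.getD j 0)
    have : c.getD j 0 * tseq c b t (j + 1) - tseq c b t j
        = -tseq c b t j + tseq c b t (j + 1) * c.getD j 0 := by ring
    rw [this]; exact h3

lemma tseq_length (hcop : IsCoprime b t) : tseq c b t c.length = 1 := by
  have h1 := tseq_isCoprime c b t hcop c.length
  rw [tseq_last c h2 b t hb hv, isCoprime_zero_right, Int.isUnit_iff] at h1
  have hp := tseq_pos c h2 b t hb hv c.length le_rfl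
  rcases h1 with h1 | h1
  · exact h1
  · omega

end ratio

/-! ### specialisation to `p q m` -/

section pqm

variable (p q m : ℕ) (hp : 0 < p) (hpq : p < q) (hcop : Nat.Coprime p q) (hm : 0 < m)

include hpq in
lemma d_pos : 0 < q - p := Nat.sub_pos_of_lt hpq

include hpq in
lemma gcdK_pos : 0 < gcdK p q m := Nat.gcd_pos_of_pos_right _ (d_pos p q hpq)

lemma g_mul_b : gcdK p q m * bB p q m = q - p :=
  Nat.mul_div_cancel' (Nat.gcd_dvd_right m (q - p))

lemma g_mul_t : gcdK p q m * tT p q m = q - p - m * p % (q - p) := by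
  apply Nat.mul_div_cancel'
  have hgd : gcdK p q m ∣ q - p := Nat.gcd_dvd_right m (q - p)
  have hgm : gcdK p q m ∣ m * p := Dvd.dvd.mul_right (Nat.gcd_dvd_left m (q - p)) p
  exact Nat.dvd_sub hgd ((Nat.dvd_mod_iff hgd).2 hgm)

include hpq in
lemma bB_pos : 0 < bB p q m := by
  have h := g_mul_b p q m
  have hd := d_pos p q hpq
  rcases Nat.eq_zero_or_pos (bB p q m) with h0 | h0
  · rw [h0] at h; omega
  · exact h0

include hpq in
lemma tT_pos : 0 < tT p q m := by
  have h := g_mul_t p q m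
  have hd := d_pos p q hpq
  have : m * p % (q - p) < q - p := Nat.mod_lt _ hd
  rcases Nat.eq_zero_or_pos (tT p q m) with h0 | h0
  · rw [h0] at h; omega
  · exact h0

include hpq in
/-- `g t = (q-p)(α+1) - p m` in `ℤ`. -/
lemma g_mul_t_int : (gcdK p q m : ℤ) * (tT p q m : ℤ)
    = ((q : ℤ) - p) * ((alpha p q m : ℤ) + 1) - (p : ℤ) * m := by
  have h := g_mul_t p q m
  have hd := d_pos p q hpq
  have hmod : m * p % (q - p) < q - p := Nat.mod_lt _ hd
  have hdiv : (q - p) * alpha p q m + m * p % (q - p) = m * p := Nat.div_add_mod _ _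
  have h3 : ((q - p : ℕ) : ℤ) = (q : ℤ) - p := Nat.cast_sub (le_of_lt hpq)
  generalize m * p % (q - p) = β at h hmod hdiv
  generalize alpha p q m = α at hdiv ⊢
  have h1 : ((gcdK p q m * tT p q m : ℕ) : ℤ) = ((q - p : ℕ) : ℤ) - (β : ℤ) := by
    rw [h, Nat.cast_sub (le_of_lt hmod)]
  have h2 : (((q - p) * α + β : ℕ) : ℤ) = ((m * p : ℕ) : ℤ) := by
    rw [hdiv]
  rw [Nat.cast_mul] at h1
  rw [Nat.cast_add, Nat.cast_mul, Nat.cast_mul] at h2
  rw [h3] at h1 h2
  linear_combination h1 - h2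

include hpq in
lemma g_mul_b_int : (gcdK p q m : ℤ) * (bB p q m : ℤ) = (q : ℤ) - p := by
  have h := g_mul_b p q m
  have h3 : ((q - p : ℕ) : ℤ) = (q : ℤ) - p := Nat.cast_sub (le_of_lt hpq)
  rw [← h3, ← h]; push_cast; ring

include hpq in
/-- `nᵢ = g (t Pᵢ - b Qᵢ)` for every `i`. -/
lemma nN_eq (c : List ℤ) (i : ℕ) :
    nN p q m c i = (gcdK p q m : ℤ) * tseq c (bB p q m) (tT p q m) i := by
  have h1 := g_mul_t_int p q m hpq
  have h2 := g_mul_b_int p q m hpq
  unfold nN eE lL tseq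
  push_cast
  linear_combination (-hjP c i) * h1 + (hjQ c i) * h2

include hpq hcop in
lemma coprime_b_t : Nat.Coprime (bB p q m) (tT p q m) := by
  have hd := d_pos p q hpq
  have hg := gcdK_pos p q m hpq
  have hgb := g_mul_b p q m
  have hgt := g_mul_t p q m
  have hmod : m * p % (q - p) < q - p := Nat.mod_lt _ hd
  have hdiv : (q - p) * (m * p / (q - p)) + m * p % (q - p) = m * p := Nat.div_add_mod _ _
  set e := Nat.gcd (bB p q m) (tT p q m) with he
  have heb : e ∣ bB p q m := Nat.gcd_dvd_left _ _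
  have het : e ∣ tT p q m := Nat.gcd_dvd_right _ _
  have h1 : gcdK p q m * e ∣ q - p := by rw [← hgb]; exact Nat.mul_dvd_mul_left _ heb
  have h2 : gcdK p q m * e ∣ q - p - m * p % (q - p) := by
    rw [← hgt]; exact Nat.mul_dvd_mul_left _ het
  have h3 : gcdK p q m * e ∣ m * p % (q - p) := by
    have := Nat.dvd_sub h1 h2
    rwa [Nat.sub_sub_self (le_of_lt hmod)] at this
  have h4 : gcdK p q m * e ∣ m * p := by
    rw [← hdiv]
    exact Dvd.dvd.add (Dvd.dvd.mul_right h1 _) h3
  have hcop' : Nat.Coprime (q - p) p := by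
    have : Nat.Coprime q p := hcop.symm
    rwa [← Nat.coprime_sub_self_left (le_of_lt hpq)] at this
  have h5 : gcdK p q m * e ∣ m :=
    (Nat.Coprime.coprime_dvd_left h1 hcop').dvd_of_dvd_mul_right h4
  have h6 : gcdK p q m * e ∣ gcdK p q m := Nat.dvd_gcd h5 h1
  have h7 : gcdK p q m * e ∣ gcdK p q m * 1 := by rwa [mul_one]
  have h8 : e ∣ 1 := (Nat.mul_dvd_mul_iff_left hg).1 h7
  exact Nat.dvd_one.1 h8

end pqm

end Groth.Agent.Lib.Helper80.HJ
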