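import Mathlib
import Groth.Agent.Lib.Helper80.HJ

/-!
# Lattice-point property of Hirzebruch–Jung continued fractions (helper80)
-/

set_option autoImplicit false

namespace Groth.Agent.Lib.Helper80.HJ

open W4c2invhilbsl2

/-- elementary sign analysis in the lattice spanned by `(P,T)` and `(P',T')`. -/
lemma lattice_aux (P P' T T' u v : ℤ) (hP : 0 ≤ P) (hPP : P < P') (hT' : 0 ≤ T') (hTT : T' < T)
    (hx0 : 0 < u * P + v * P') (hx1 : u * P + v * P' < P') (hy0 : 0 ≤ u * T + v * T') :
    T ≤ u * T + v * T' := by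
  by_contra hlt
  push Not at hlt
  rcases le_or_gt v 0 with hv | hv
  · -- v ≤ 0
    have h0 : 0 ≤ (-v) * (P' - P) := mul_nonneg (by linarith) (by linarith)
    have h1 : 0 < (u + v) * P := by nlinarith
    have h2 : 1 ≤ u + v := by
      by_contra h
      have h' : u + v ≤ 0 := by omega
      have : (u + v) * P ≤ 0 := mul_nonpos_of_nonpos_of_nonneg h' hP
      linarith
    have h3 : 0 ≤ (-v) * (T - T') := mul_nonneg (by linarith) (by linarith)
    have h4 : 0 ≤ (u + v - 1) * T := mul_nonneg (by linarith) (by linarith)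
    nlinarith
  · -- v ≥ 1
    rcases le_or_gt 0 u with hu | hu
    · have h0 : 0 ≤ u * P := mul_nonneg hu hP
      have h1 : 0 ≤ (v - 1) * P' := mul_nonneg (by linarith) (by linarith)
      nlinarith
    · have h0 : 0 < (-u) * (T - T') := mul_pos (by linarith) (by linarith)
      have h1 : 0 < (u + v) * T' := by nlinarith
      have h2 : 1 ≤ u + v := by
        by_contra h
        have h' : u + v ≤ 0 := by omega
        have : (u + v) * T' ≤ 0 := mul_nonpos_of_nonpos_of_nonneg h' hT'
        linarith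
      have h3 : 0 ≤ (-u) * (P' - P) := mul_nonneg (by linarith) (by linarith)
      have h4 : 0 ≤ (u + v - 1) * P' := mul_nonneg (by linarith) (by linarith)
      nlinarith

section ratio

variable (c : List ℤ) (h2 : ∀ x ∈ c, (2 : ℤ) ≤ x) (b t : ℤ) (hb : 0 < b)
  (hv : HJFrac.hjVal c = (b : ℚ) / (t : ℚ))

include h2 hb hv

lemma tseq_nonneg (j : ℕ) (hj : j ≤ c.length + 1) : 0 ≤ tseq c b t j := by
  rcases Nat.lt_or_ge j (c.length + 1) with h | h
  · exact (tseq_pos c h2 b t hb hv j (by omega)).le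
  · have : j = c.length + 1 := le_antisymm hj h
    rw [this, tseq_last c h2 b t hb hv]

lemma tseq_lt_b (j : ℕ) (hj1 : 1 ≤ j) (hj : j ≤ c.length + 1) : tseq c b t j < b := by
  induction j with
  | zero => omega
  | succ j ih =>
    have h1 := tseq_lt c h2 b t hb hv j (by omega)
    rcases Nat.eq_zero_or_pos j with h0 | h0
    · subst h0; rwa [tseq_zero] at h1
    · have := ih h0 (by omega); linarith

/-- `t Pᵢ ≡ tᵢ` and `0 ≤ tᵢ < b` for `1 ≤ i ≤ r+1`. -/
lemma t_mul_P_emod (i : ℕ) (hi : 1 ≤ i) (hir : i ≤ c.length + 1) :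
    (t * hjP c i) % b = tseq c b t i := by
  have h0 := tseq_nonneg c h2 b t hb hv i hir
  have h1 := tseq_lt_b c h2 b t hb hv i hi hir
  have : t * hjP c i = tseq c b t i + b * hjQ c i := by unfold tseq; ring
  rw [this, Int.add_mul_emod_self_left, Int.emod_eq_of_lt h0 h1]

/-- lower bound: for `0 < x < P_{j+1}`, `j ≤ r`, the residue of `t x` mod `b` is at least `t_j`. -/
lemma emod_lower (j : ℕ) (hj : j ≤ c.length) (x : ℤ) (hx0 : 0 < x) (hx : x < hjP c (j + 1)) :
    tseq c b t j ≤ (t * x) % b := by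
  set y := (t * x) % b with hy
  set k := (t * x) / b with hk
  have hdiv : b * k + y = t * x := Int.mul_ediv_add_emod _ _
  have hy0 : 0 ≤ y := Int.emod_nonneg _ hb.ne'
  have hdet := det_PQ c j
  set u := x * hjQ c (j + 1) - k * hjP c (j + 1) with hu
  set v := -x * hjQ c j + k * hjP c j with hv'
  have hxe : u * hjP c j + v * hjP c (j + 1) = x := by
    rw [hu, hv']; linear_combination (-x) * hdet
  have hye : u * tseq c b t j + v * tseq c b t (j + 1) = y := by
    rw [hu, hv']; unfold tseq
    linear_combination (-(t * x) + b * k) * hdet - hdiv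
  have := lattice_aux (hjP c j) (hjP c (j + 1)) (tseq c b t j) (tseq c b t (j + 1)) u v
    (hjP_nonneg c h2 j hj) (hjP_lt_succ c h2 j hj)
    (tseq_nonneg c h2 b t hb hv (j + 1) (by omega)) (tseq_lt c h2 b t hb hv j hj)
    (by rw [hxe]; exact hx0) (by rw [hxe]; exact hx) (by rw [hye]; exact hy0)
  rwa [hye] at this

/-- both bounds. -/
lemma emod_bounds (j : ℕ) (hj : j ≤ c.length) (x : ℤ) (hx0 : 0 < x) (hx : x < hjP c (j + 1)) :
    tseq c b t j ≤ (t * x) % b ∧ (t * x) % b ≤ b + tseq c b t (j + 1) - tseq c b t j := by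
  have hlow := emod_lower c h2 b t hb hv j hj x hx0 hx
  refine ⟨hlow, ?_⟩
  have hlow' := emod_lower c h2 b t hb hv j hj (hjP c (j + 1) - x) (by linarith) (by linarith)
  set y := (t * x) % b with hy
  set k := (t * x) / b with hk
  have hdiv : b * k + y = t * x := Int.mul_ediv_add_emod _ _
  have hyb : y < b := Int.emod_lt_of_pos _ hb
  have hT1 := tseq_nonneg c h2 b t hb hv (j + 1) (by omega)
  have hTT := tseq_lt c h2 b t hb hv j hj
  have : t * (hjP c (j + 1) - x)
      = (tseq c b t (j + 1) - y + b) + b * (hjQ c (j + 1) - k - 1) := by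
    unfold tseq; linear_combination hdiv
  rw [this, Int.add_mul_emod_self_left, Int.emod_eq_of_lt (by linarith) (by linarith)] at hlow'
  linarith

end ratio

end Groth.Agent.Lib.Helper80.HJ
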