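import Mathlib
import Groth.Agent.Lib.Helper80.HJLattice

/-!
# The covering property behind the generation of the weight-`(nᵢ,0)` piece (helper80)
-/

set_option autoImplicit false

namespace Groth.Agent.Lib.Helper80.HJ

open W4c2invhilbsl2

/-- abstract core: `G,B,T,A` and sequences `P,Q` with `Tᵢ = T Pᵢ - B Qᵢ`. -/
lemma cover_abstract (G B T A mm : ℤ) (hG : 0 < G) (hB : 0 < B) (hT : 0 < T) (hTB : T ≤ B) (hA : 1 ≤ A)
    (hmm : 0 < mm)
    (Pi Qi Ti Tprev : ℤ) (hTi : Ti = T * Pi - B * Qi) (hTi0 : 0 ≤ Ti) (hTiprev : Ti < Tprev)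
    (hTprevB : Tprev ≤ B) (hPi : 0 < Pi)
    (hlow : ∀ x : ℤ, 0 < x → x < Pi → Tprev ≤ (T * x) % B)
    (d1 d2 s : ℤ) (hd1 : 0 ≤ d1) (hd2 : 0 ≤ d2) (hs : d1 = d2 + mm * s)
    (pp : ℤ) (hpp : 0 < pp) (hpm : pp * mm = G * B * A - G * T)
    (N : ℤ) (hN : N = G * B * d2 - pp * mm * s) (hN0 : 0 < N) (hNn : N ≤ G * Ti) :
    (A + mm) * Pi - Qi ≤ d1 ∧ A * Pi - Qi ≤ d2 := by
  have hTiB : Ti < B := by linarith
  -- N = G (T s - B w)
  have hN' : N = G * (T * s - B * (A * s - d2)) := by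
    rw [hN, hpm]; ring
  -- step 1 : s ≥ 1
  have hs1 : 1 ≤ s := by
    by_contra h
    have hs0 : s ≤ 0 := by omega
    have h1 : 0 ≤ pp * mm * (-s) := mul_nonneg (mul_nonneg hpp.le hmm.le) (by linarith)
    have h2 : G * Ti < G * B := mul_lt_mul_of_pos_left hTiB hG
    have h3 : G * B * d2 < G * B * 1 := by nlinarith
    have h4 : d2 < 1 := lt_of_mul_lt_mul_left h3 (mul_pos hG hB).le
    have h5 : d2 = 0 := by omega
    have h6 : 0 ≤ mm * (-s) := mul_nonneg hmm.le (by linarith)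
    have h7 : d1 = 0 := by rw [h5] at hs; nlinarith
    have h8 : mm * s = 0 := by rw [h5, h7] at hs; linarith
    rw [h5] at hN
    have : pp * mm * s = pp * (mm * s) := by ring
    rw [this, h8] at hN
    simp at hN; omega
  -- step 2 : s ≥ Pi
  have hs2 : Pi ≤ s := by
    by_contra h
    have hlt : s < Pi := by omega
    have hy := hlow s (by omega) hlt
    have hdiv : B * ((T * s) / B) + (T * s) % B = T * s := Int.mul_ediv_add_emod _ _
    have hyB : (T * s) % B < B := Int.emod_lt_of_pos _ hB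
    generalize (T * s) % B = y at hy hdiv hyB
    generalize (T * s) / B = k at hdiv
    -- N = G (B (k - w) + y)
    have hN'' : N = G * (B * (k - (A * s - d2)) + y) := by
      rw [hN', ← hdiv]; ring
    have h1 : 0 < B * (k - (A * s - d2)) + y := by
      rw [hN''] at hN0
      exact (pos_iff_pos_of_mul_pos hN0).1 hG
    have h2 : B * (k - (A * s - d2)) + y ≤ Ti := by
      rw [hN''] at hNn
      exact le_of_mul_le_mul_left hNn hG
    have h3 : B * (k - (A * s - d2)) < 0 := by linarith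
    have h4 : k - (A * s - d2) < 0 := by
      by_contra h'
      have : 0 ≤ B * (k - (A * s - d2)) := mul_nonneg hB.le (by linarith)
      linarith
    have h5 : B * (k - (A * s - d2)) ≤ B * (-1) := mul_le_mul_of_nonneg_left (by omega) hB.le
    linarith
  -- step 3
  set s' := s - Pi with hs'
  set w' := (A * s - d2) - Qi with hw'
  have hs'0 : 0 ≤ s' := by omega
  have h1 : G * (T * s' - B * w') = N - G * Ti := by
    rw [hN', hTi, hs', hw']; ring
  have h2 : G * (-B) < G * (T * s' - B * w') := by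
    rw [h1]
    have : G * Ti < G * B := mul_lt_mul_of_pos_left hTiB hG
    linarith
  have h3 : -B < T * s' - B * w' := lt_of_mul_lt_mul_left h2 hG.le
  have h4 : T * s' ≤ B * s' := mul_le_mul_of_nonneg_right hTB hs'0
  have h5 : B * w' < B * (s' + 1) := by linarith
  have h6 : w' < s' + 1 := lt_of_mul_lt_mul_left h5 hB.le
  have h7 : w' ≤ s' := by omega
  have h8 : s' ≤ A * s' := by nlinarith
  have hl : A * Pi - Qi ≤ d2 := by
    have : w' ≤ A * s' := le_trans h7 h8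
    rw [hw', hs'] at this
    linarith
  refine ⟨?_, hl⟩
  have h9 : mm * Pi ≤ mm * s := mul_le_mul_of_nonneg_left hs2 hmm.le
  rw [hs]; linarith


section pqm

variable (p q m : ℕ) (hp : 0 < p) (hpq : p < q) (hcop : Nat.Coprime p q) (hm : 0 < m)
  (c : List ℤ) (hc : IsHJDigits p q m c)

include hpq hc in
/-- `Qᵢ ≤ Pᵢ`, hence `lᵢ, eᵢ ≥ 0`, for `i ≤ r + 1`. -/
lemma hjQ_le_hjP (i : ℕ) (hir : i ≤ c.length + 1) (hr : 1 ≤ c.length) : hjQ c i ≤ hjP c i := by
  obtain ⟨h2, hv⟩ := hc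
  have hb : (0 : ℤ) < (bB p q m : ℤ) := by exact_mod_cast bB_pos p q m hpq
  have hv' : HJFrac.hjVal c = (((bB p q m : ℕ) : ℤ) : ℚ) / (((tT p q m : ℕ) : ℤ) : ℚ) := by
    rw [hv]; push_cast; rfl
  have hT := tseq_nonneg c h2 _ _ hb hv' i hir
  have htb : ((tT p q m : ℕ) : ℤ) < (bB p q m : ℤ) := by
    have := tseq_lt c h2 _ _ hb hv' 0 (by omega)
    rwa [tseq_zero, tseq_one] at this
  have hP : 0 ≤ hjP c i := by
    rcases Nat.eq_zero_or_pos i with h0 | h0
    · subst h0; rw [hjP_zero]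
    · obtain ⟨j, rfl⟩ : ∃ j, i = j + 1 := ⟨i - 1, by omega⟩
      exact (hjP_pos c h2 j (by omega)).le
  unfold tseq at hT
  by_contra h
  push Not at h
  have h1 : hjP c i + 1 ≤ hjQ c i := h
  have h2' : ((bB p q m : ℕ) : ℤ) * (hjP c i + 1) ≤ (bB p q m : ℤ) * hjQ c i :=
    mul_le_mul_of_nonneg_left h1 hb.le
  have h3 : ((tT p q m : ℕ) : ℤ) * hjP c i ≤ (bB p q m : ℤ) * hjP c i :=
    mul_le_mul_of_nonneg_right htb.le hP
  linarith

include hpq hc in
lemma lL_nonneg (i : ℕ) (hi : 1 ≤ i) (hir : i ≤ c.length) : 0 ≤ lL p q m c i := by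
  have h := hjQ_le_hjP p q m hpq c hc i (by omega) (by omega)
  have hP : 0 ≤ hjP c i := hjP_nonneg c hc.1 i hir
  unfold lL
  push_cast
  have : 0 ≤ (alpha p q m : ℤ) * hjP c i := mul_nonneg (Int.natCast_nonneg _) hP
  linarith

include hpq hc in
lemma eE_nonneg (i : ℕ) (hi : 1 ≤ i) (hir : i ≤ c.length) : 0 ≤ eE p q m c i := by
  have h := lL_nonneg p q m hpq c hc i hi hir
  have hP : 0 ≤ hjP c i := hjP_nonneg c hc.1 i hir
  unfold eE
  unfold lL at h
  push_cast at h ⊢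
  have : 0 ≤ (m : ℤ) * hjP c i := mul_nonneg (Int.natCast_nonneg _) hP
  linarith

include hpq hc in
lemma nN_nonneg (i : ℕ) (hir : i ≤ c.length + 1) : 0 ≤ nN p q m c i := by
  obtain ⟨h2, hv⟩ := hc
  have hb : (0 : ℤ) < (bB p q m : ℤ) := by exact_mod_cast bB_pos p q m hpq
  have hv' : HJFrac.hjVal c = (((bB p q m : ℕ) : ℤ) : ℚ) / (((tT p q m : ℕ) : ℤ) : ℚ) := by
    rw [hv]; push_cast; rfl
  rw [nN_eq p q m hpq]
  exact mul_nonneg (Int.natCast_nonneg _) (tseq_nonneg c h2 _ _ hb hv' i hir)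

include hp hpq hm hc in
/-- The covering property: an exponent `(d0,d1,d2)` of weight `(nᵢ,0)` dominates `(nᵢ,0,0)` or
`(0,eᵢ,lᵢ)`. -/
lemma cover_pqm (i : ℕ) (hi : 1 ≤ i) (hir : i ≤ c.length) (d0 d1 d2 : ℕ)
    (hw1 : (d0 : ℤ) - p * d1 + q * d2 = nN p q m c i) (hw2 : (d2 : ZMod m) - d1 = 0) :
    nN p q m c i ≤ d0 ∨ (eE p q m c i ≤ d1 ∧ lL p q m c i ≤ d2) := by
  by_cases h0 : nN p q m c i ≤ d0
  · exact Or.inl h0
  right
  push Not at h0
  have hc' := hc
  obtain ⟨h2, hv⟩ := hc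
  have hb : (0 : ℤ) < (bB p q m : ℤ) := by exact_mod_cast bB_pos p q m hpq
  have ht : (0 : ℤ) < (tT p q m : ℤ) := by exact_mod_cast tT_pos p q m hpq
  have hg : (0 : ℤ) < (gcdK p q m : ℤ) := by exact_mod_cast gcdK_pos p q m hpq
  have hv' : HJFrac.hjVal c = (((bB p q m : ℕ) : ℤ) : ℚ) / (((tT p q m : ℕ) : ℤ) : ℚ) := by
    rw [hv]; push_cast; rfl
  have htb : ((tT p q m : ℕ) : ℤ) < (bB p q m : ℤ) := by
    have := tseq_lt c h2 _ _ hb hv' 0 (by omega)
    rwa [tseq_zero, tseq_one] at this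
  obtain ⟨j, rfl⟩ : ∃ j, i = j + 1 := ⟨i - 1, by omega⟩
  -- d1 = d2 + m s
  have hdvd : (m : ℤ) ∣ (d1 : ℤ) - d2 := by
    rw [← ZMod.intCast_eq_intCast_iff_dvd_sub]
    push_cast
    exact sub_eq_zero.1 hw2
  obtain ⟨s, hs⟩ := hdvd
  have h1 := g_mul_t_int p q m hpq
  have h3 := g_mul_b_int p q m hpq
  have hn := nN_eq p q m hpq c (j + 1)
  have hTprevB : tseq c (bB p q m) (tT p q m) j ≤ (bB p q m : ℤ) := by
    rcases Nat.eq_zero_or_pos j with hj | hj
    · subst hj; rw [tseq_zero]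
    · exact (tseq_lt_b c h2 _ _ hb hv' j hj (by omega)).le
  have := cover_abstract (gcdK p q m) (bB p q m) (tT p q m) ((alpha p q m : ℤ) + 1) m hg hb ht htb.le
    (by have : (0 : ℤ) ≤ (alpha p q m : ℤ) := Int.natCast_nonneg _; linarith)
    (by exact_mod_cast hm)
    (hjP c (j + 1)) (hjQ c (j + 1)) (tseq c (bB p q m) (tT p q m) (j + 1))
    (tseq c (bB p q m) (tT p q m) j) rfl
    (tseq_nonneg c h2 _ _ hb hv' (j + 1) (by omega))
    (tseq_lt c h2 _ _ hb hv' j (by omega)) hTprevB (hjP_pos c h2 j (by omega))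
    (fun x hx0 hx => emod_lower c h2 _ _ hb hv' j (by omega) x hx0 hx)
    d1 d2 s (Int.natCast_nonneg _) (Int.natCast_nonneg _) (by linarith)
    p (by exact_mod_cast hp) (by linear_combination h1 - ((alpha p q m : ℤ) + 1) * h3)
    ((q : ℤ) * d2 - p * d1) (by linear_combination (-(d2 : ℤ)) * h3 - (p : ℤ) * hs)
    (by linarith) (by rw [← hn]; linarith [Int.natCast_nonneg d0])
  unfold eE lL
  push_cast
  constructor
  · linarith [this.1]
  · linarith [this.2]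

end pqm

end Groth.Agent.Lib.Helper80.HJ
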