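import Mathlib

set_option autoImplicit false

namespace Groth.Agent.Lib.Helper80

open MvPolynomial

/-- If every exponent of weight `ν` dominates one of finitely many exponents `γ i`, then every
weighted homogeneous polynomial of weight `ν` is a combination `∑ a i * X^(γ i)` with `a i`
weighted homogeneous of weight `ν - weight (γ i)`. -/
theorem exists_decomp_of_cover {σ : Type*} {k : Type*} [CommRing k] {M : Type*} [AddCommGroup M]
    (w : σ → M) (ν : M) (f : MvPolynomial σ k)
    (hf : f ∈ weightedHomogeneousSubmodule k w ν) {r : ℕ} (γ : Fin r → σ →₀ ℕ)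
    (hcover : ∀ d : σ →₀ ℕ, Finsupp.weight w d = ν → ∃ i, γ i ≤ d) :
    ∃ a : Fin r → MvPolynomial σ k,
      (∀ i, a i ∈ weightedHomogeneousSubmodule k w (ν - Finsupp.weight w (γ i))) ∧
      f = ∑ i, a i * monomial (γ i) 1 := by
  classical
  have hwt : ∀ d ∈ f.support, Finsupp.weight w d = ν := fun d hd => hf (mem_support_iff.1 hd)
  have hsup : ∀ d ∈ f.support, ∃ i, γ i ≤ d := fun d hd => hcover d (hwt d hd)
  rcases Nat.eq_zero_or_pos r with hr | hr
  · subst hr
    refine ⟨fun i => i.elim0, fun i => i.elim0, ?_⟩
    have : f.support = ∅ := by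
      apply Finset.eq_empty_of_forall_notMem
      intro d hd
      obtain ⟨i, _⟩ := hsup d hd
      exact i.elim0
    rw [support_eq_empty] at this
    simp [this]
  · let idx : (σ →₀ ℕ) → Fin r := fun d =>
      if h : ∃ i, γ i ≤ d then h.choose else ⟨0, hr⟩
    have hidx : ∀ d ∈ f.support, γ (idx d) ≤ d := by
      intro d hd
      have h := hsup d hd
      simp only [idx, dif_pos h]
      exact h.choose_spec
    refine ⟨fun i => ∑ d ∈ f.support.filter (fun d => idx d = i),
      monomial (d - γ i) (coeff d f), ?_, ?_⟩
    · intro i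
      apply Submodule.sum_mem
      intro d hd
      rw [Finset.mem_filter] at hd
      rw [mem_weightedHomogeneousSubmodule]
      apply isWeightedHomogeneous_monomial
      have hle : γ i ≤ d := hd.2 ▸ hidx d hd.1
      have h1 : Finsupp.weight w (d - γ i) + Finsupp.weight w (γ i) = Finsupp.weight w d := by
        rw [← map_add, tsub_add_cancel_of_le hle]
      rw [← hwt d hd.1, ← h1]; abel
    · have h1 : ∀ i, (∑ d ∈ f.support.filter (fun d => idx d = i),
          monomial (d - γ i) (coeff d f)) * monomial (γ i) 1 =
          ∑ d ∈ f.support.filter (fun d => idx d = i), monomial d (coeff d f) := by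
        intro i
        rw [Finset.sum_mul]
        apply Finset.sum_congr rfl
        intro d hd
        rw [Finset.mem_filter] at hd
        have hle : γ i ≤ d := hd.2 ▸ hidx d hd.1
        rw [monomial_mul, mul_one, tsub_add_cancel_of_le hle]
      simp only [h1]
      rw [Finset.sum_fiberwise f.support idx (fun d => monomial d (coeff d f))]
      exact (support_sum_monomial_coeff f).symm

/-- Version of `exists_decomp_of_cover` with an arbitrary finite index type. -/
theorem exists_decomp_of_cover' {σ : Type*} {k : Type*} [CommRing k] {M : Type*} [AddCommGroup M]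
    (w : σ → M) (ν : M) (f : MvPolynomial σ k)
    (hf : f ∈ weightedHomogeneousSubmodule k w ν) {ι : Type*} [Fintype ι] (γ : ι → σ →₀ ℕ)
    (hcover : ∀ d : σ →₀ ℕ, Finsupp.weight w d = ν → ∃ i, γ i ≤ d) :
    ∃ a : ι → MvPolynomial σ k,
      (∀ i, a i ∈ weightedHomogeneousSubmodule k w (ν - Finsupp.weight w (γ i))) ∧
      f = ∑ i, a i * monomial (γ i) 1 := by
  classical
  let e := Fintype.equivFin ι
  obtain ⟨a', ha', hfa'⟩ := exists_decomp_of_cover w ν f hf (fun j => γ (e.symm j)) (by
    intro d hd
    obtain ⟨i, hi⟩ := hcover d hd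
    exact ⟨e i, by simpa using hi⟩)
  refine ⟨fun i => a' (e i), fun i => ?_, ?_⟩
  · have := ha' (e i)
    simpa using this
  · rw [hfa']
    rw [← Equiv.sum_comp e]
    simp

end Groth.Agent.Lib.Helper80
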