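import Mathlib
import Groth.Agent.Lib.Helper80.HJCover2
import Groth.Agent.S15725
import Groth.Agent.S15727

/-!
# The weight pieces of `k[X₀,X₁,X₂]/L⁽ⁱ⁾_s` have dimension at most one (helper80)
-/

set_option autoImplicit false

namespace Groth.Agent.Lib.Helper80.HJ

open W4c2invhilbsl2 MvPolynomial

theorem monomial_eq3 {k : Type*} [CommRing k] (d : Fin 3 →₀ ℕ) :
    (monomial d (1 : k) : MvPolynomial (Fin 3) k) = X 0 ^ d 0 * X 1 ^ d 1 * X 2 ^ d 2 := by
  rw [monomial_eq, C_1, one_mul, Finsupp.prod_fintype _ _ (by simp), Fin.prod_univ_three]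

theorem mk_C_mul {k : Type*} [CommRing k] {σ : Type*} (I : Ideal (MvPolynomial σ k)) (c' : k)
    (f : MvPolynomial σ k) :
    Ideal.Quotient.mk I (C c' * f) = c' • Ideal.Quotient.mk I f := by
  rw [C_mul']; exact map_smul (Ideal.Quotient.mkₐ k I) c' f

section

variable (k : Type*) [Field k] (p q m : ℕ)

/-- weight-zero nonconstant monomials lie in `idealK`. -/
lemma mem_idealK (a u v : ℕ) (hne : a ≠ 0 ∨ u ≠ 0 ∨ v ≠ 0)
    (hw1 : (a : ℤ) - p * u + q * v = 0) (hw2 : (v : ZMod m) - u = 0) :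
    (X 0 ^ a * X 1 ^ u * X 2 ^ v : MvPolynomial (Fin 3) k) ∈ idealK k p q m := by
  apply Ideal.subset_span
  refine ⟨Finsupp.single 0 a + Finsupp.single 1 u + Finsupp.single 2 v, ?_, ?_, ?_⟩
  · intro h
    have h0 := DFunLike.congr_fun h 0
    have h1 := DFunLike.congr_fun h 1
    have h2 := DFunLike.congr_fun h 2
    simp at h0 h1 h2
    rcases hne with hh | hh | hh
    · exact hh h0
    · exact hh h1
    · exact hh h2
  · rw [Groth.Agent.S15725.weight_wt3]
    simp only [Finsupp.add_apply, Finsupp.single_apply]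
    simp
    exact ⟨hw1, hw2⟩
  · rw [monomial_eq3]
    simp

variable (hp : 0 < p) (hpq : p < q) (hm : 0 < m) (c : List ℤ) (hc : IsHJDigits p q m c)
  (i : ℕ) (hi : 1 ≤ i) (hir : i ≤ c.length) (s : k)

lemma X0_mem :
    (X 0 ^ (nN p q m c (i - 1)).toNat : MvPolynomial (Fin 3) k) ∈ idealL k p q m c i s := by
  apply Ideal.mem_sup_left
  apply Ideal.subset_span
  simp

lemma bin_mem :
    (C s * X 0 ^ (nN p q m c i).toNat - X 1 ^ (eE p q m c i).toNat * X 2 ^ (lL p q m c i).toNat :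
      MvPolynomial (Fin 3) k) ∈ idealL k p q m c i s := by
  apply Ideal.mem_sup_left
  apply Ideal.subset_span
  simp

lemma K_mem (a u v : ℕ) (hne : a ≠ 0 ∨ u ≠ 0 ∨ v ≠ 0)
    (hw1 : (a : ℤ) - p * u + q * v = 0) (hw2 : (v : ZMod m) - u = 0) :
    Ideal.Quotient.mk (idealL k p q m c i s) (X 0 ^ a * X 1 ^ u * X 2 ^ v) = 0 := by
  rw [Ideal.Quotient.eq_zero_iff_mem]
  exact Ideal.mem_sup_right (mem_idealK k p q m a u v hne hw1 hw2)

lemma X0_big (d0 d1 d2 : ℕ) (h : nN p q m c (i - 1) ≤ d0) :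
    Ideal.Quotient.mk (idealL k p q m c i s) (X 0 ^ d0 * X 1 ^ d1 * X 2 ^ d2) = 0 := by
  rw [Ideal.Quotient.eq_zero_iff_mem]
  have h' : (nN p q m c (i - 1)).toNat ≤ d0 := Int.toNat_le.2 h
  obtain ⟨r, hr⟩ := Nat.exists_eq_add_of_le h'
  have : (X 0 ^ d0 * X 1 ^ d1 * X 2 ^ d2 : MvPolynomial (Fin 3) k)
      = (X 0 ^ r * X 1 ^ d1 * X 2 ^ d2) * X 0 ^ (nN p q m c (i - 1)).toNat := by
    rw [hr, pow_add]; ring
  rw [this]
  exact Ideal.mul_mem_left _ _ (X0_mem k p q m c i s)

lemma bin_eq :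
    Ideal.Quotient.mk (idealL k p q m c i s)
        (X 1 ^ (eE p q m c i).toNat * X 2 ^ (lL p q m c i).toNat)
      = Ideal.Quotient.mk (idealL k p q m c i s) (C s * X 0 ^ (nN p q m c i).toNat) := by
  symm
  rw [Ideal.Quotient.eq]
  exact bin_mem k p q m c i s

include hp hpq hm hc hi hir in
/-- monomials in `X₁,X₂` of weight `(a,0)`, `a < n_{i-1}`, are proportional to `X₀^a` mod `L`. -/
lemma claimB (a : ℕ) : (a : ℤ) < nN p q m c (i - 1) → ∀ u v : ℕ, (q : ℤ) * v - p * u = a →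
    (v : ZMod m) - u = 0 →
    ∃ c' : k, Ideal.Quotient.mk (idealL k p q m c i s) (X 1 ^ u * X 2 ^ v)
      = Ideal.Quotient.mk (idealL k p q m c i s) (C c' * X 0 ^ a) := by
  induction a using Nat.strong_induction_on with
  | _ a ih =>
  intro ha u v hw1 hw2
  have hn0 := nN_nonneg p q m hpq c hc i (by omega)
  have he0 := eE_nonneg p q m hpq c hc i hi hir
  have hl0 := lL_nonneg p q m hpq c hc i hi hir
  have hnc : ((nN p q m c i).toNat : ℤ) = nN p q m c i := Int.toNat_of_nonneg hn0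
  have hec : ((eE p q m c i).toNat : ℤ) = eE p q m c i := Int.toNat_of_nonneg he0
  have hlc : ((lL p q m c i).toNat : ℤ) = lL p q m c i := Int.toNat_of_nonneg hl0
  rcases Nat.eq_zero_or_pos a with rfl | ha0
  · by_cases huv : u = 0 ∧ v = 0
    · obtain ⟨rfl, rfl⟩ := huv
      exact ⟨1, by simp⟩
    · refine ⟨0, ?_⟩
      have hne : (0 : ℕ) ≠ 0 ∨ u ≠ 0 ∨ v ≠ 0 := by
        by_cases hu : u = 0
        · exact Or.inr (Or.inr (fun hv => huv ⟨hu, hv⟩))
        · exact Or.inr (Or.inl hu)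
      have := K_mem k p q m c i s 0 u v hne (by push_cast at hw1 ⊢; linarith) hw2
      rw [pow_zero, one_mul] at this
      rw [this]; simp
  · obtain ⟨h1, h2⟩ := cover_pqm' p q m hp hpq hm c hc i hi hir u v
      (by rw [hw1]; exact_mod_cast ha0) (by rw [hw1]; exact ha) hw2
    have he : (eE p q m c i).toNat ≤ u := Int.toNat_le.2 h1
    have hl : (lL p q m c i).toNat ≤ v := Int.toNat_le.2 h2
    obtain ⟨u', hu'⟩ := Nat.exists_eq_add_of_le he
    obtain ⟨v', hv'⟩ := Nat.exists_eq_add_of_le hl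
    have hnN : nN p q m c i = -(p : ℤ) * eE p q m c i + (q : ℤ) * lL p q m c i := rfl
    have hw1' : (q : ℤ) * v' - p * u' = (a : ℤ) - nN p q m c i := by
      rw [hu', hv'] at hw1
      push_cast at hw1
      rw [hec, hlc] at hw1
      rw [hnN]; linarith
    have hel : (((lL p q m c i).toNat : ℕ) : ZMod m) - (((eE p q m c i).toNat : ℕ) : ZMod m) = 0 := by
      have h1 : (((lL p q m c i).toNat : ℕ) : ZMod m) = ((lL p q m c i : ℤ) : ZMod m) := by
        rw [← hlc]; simp
      have h2 : (((eE p q m c i).toNat : ℕ) : ZMod m) = ((eE p q m c i : ℤ) : ZMod m) := by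
        rw [← hec]; simp
      rw [h1, h2, ← Int.cast_sub, ZMod.intCast_zmod_eq_zero_iff_dvd]
      refine ⟨-hjP c i, ?_⟩
      unfold lL eE; push_cast; ring
    have hw2' : (v' : ZMod m) - u' = 0 := by
      rw [hu', hv'] at hw2
      push_cast at hw2
      linear_combination hw2 - hel
    have hsplit : (X 1 ^ u * X 2 ^ v : MvPolynomial (Fin 3) k)
        = (X 1 ^ (eE p q m c i).toNat * X 2 ^ (lL p q m c i).toNat) * (X 1 ^ u' * X 2 ^ v') := by
      rw [hu', hv', pow_add, pow_add]; ring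
    rcases le_or_gt (nN p q m c i).toNat a with hna | hna
    · obtain ⟨a', ha'⟩ := Nat.exists_eq_add_of_le hna
      have hnpos : 0 < nN p q m c i := by
        obtain ⟨h2', hv0⟩ := hc
        have hb : (0 : ℤ) < (bB p q m : ℤ) := by exact_mod_cast bB_pos p q m hpq
        have hg : (0 : ℤ) < (gcdK p q m : ℤ) := by exact_mod_cast gcdK_pos p q m hpq
        have hv'' : HJFrac.hjVal c = (((bB p q m : ℕ) : ℤ) : ℚ) / (((tT p q m : ℕ) : ℤ) : ℚ) := by
          rw [hv0]; push_cast; rfl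
        rw [nN_eq p q m hpq]
        exact mul_pos hg (tseq_pos c h2' _ _ hb hv'' i hir)
      have hnpos' : 0 < (nN p q m c i).toNat := by
        have : (0 : ℤ) < ((nN p q m c i).toNat : ℤ) := by rw [hnc]; exact hnpos
        exact_mod_cast this
      have hcast : (a : ℤ) = nN p q m c i + a' := by
        rw [ha']; push_cast; rw [hnc]
      obtain ⟨c'', hc''⟩ := ih a' (by omega) (by linarith) u' v'
        (by rw [hw1', hcast]; ring) hw2'
      refine ⟨s * c'', ?_⟩
      rw [hsplit, map_mul, bin_eq, hc'', ← map_mul, ha']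
      congr 1
      rw [pow_add, C_mul]; ring
    · refine ⟨0, ?_⟩
      obtain ⟨r, hr⟩ := Nat.exists_eq_add_of_le hna.le
      have hrpos : r ≠ 0 := by omega
      have hz := K_mem k p q m c i s r u' v' (Or.inl hrpos) (by
        have : ((nN p q m c i).toNat : ℤ) = (a : ℤ) + r := by rw [hr]; push_cast; ring
        rw [hnc] at this
        linarith) hw2'
      rw [hsplit, map_mul, bin_eq, ← map_mul]
      have : (C s * X 0 ^ (nN p q m c i).toNat * (X 1 ^ u' * X 2 ^ v') : MvPolynomial (Fin 3) k)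
          = (C s * X 0 ^ a) * (X 0 ^ r * X 1 ^ u' * X 2 ^ v') := by
        rw [hr, pow_add]; ring
      rw [this, map_mul, hz]; simp

include hp hpq hm hc hi hir in
lemma pair_aux (d e : Fin 3 →₀ ℕ) (h0 : e 0 ≤ d 0)
    (hw : Finsupp.weight (wt3 p q m) d = Finsupp.weight (wt3 p q m) e) :
    Ideal.Quotient.mk (idealL k p q m c i s) (monomial d 1) = 0 ∨
    ∃ c' : k, Ideal.Quotient.mk (idealL k p q m c i s) (monomial e 1)
      = c' • Ideal.Quotient.mk (idealL k p q m c i s) (monomial d 1) := by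
  rw [Groth.Agent.S15725.weight_wt3, Groth.Agent.S15725.weight_wt3, Prod.mk.injEq] at hw
  obtain ⟨hw1, hw2⟩ := hw
  rw [monomial_eq3, monomial_eq3]
  have hp' : (0 : ℤ) < p := by exact_mod_cast hp
  have hq' : (0 : ℤ) < q := by exact_mod_cast (lt_trans hp hpq)
  obtain ⟨a, ha⟩ := Nat.exists_eq_add_of_le h0
  rcases le_or_gt (d 1) (e 1) with h1 | h1
  · rcases le_or_gt (d 2) (e 2) with h2 | h2
    · -- Case I
      obtain ⟨u, hu⟩ := Nat.exists_eq_add_of_le h1
      obtain ⟨v, hv⟩ := Nat.exists_eq_add_of_le h2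
      have hwa : (q : ℤ) * v - p * u = a := by
        rw [ha, hu, hv] at hw1; push_cast at hw1; linarith
      have hwz : (v : ZMod m) - u = 0 := by
        rw [hu, hv] at hw2; push_cast at hw2; linear_combination -hw2
      by_cases hbig : nN p q m c (i - 1) ≤ a
      · left
        apply X0_big
        rw [ha]; push_cast; linarith [Int.natCast_nonneg (e 0)]
      · right
        push Not at hbig
        obtain ⟨c', hc'⟩ := claimB k p q m hp hpq hm c hc i hi hir s a hbig u v hwa hwz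
        refine ⟨c', ?_⟩
        rw [← mk_C_mul]
        have e1 : (X 0 ^ e 0 * X 1 ^ e 1 * X 2 ^ e 2 : MvPolynomial (Fin 3) k)
            = (X 0 ^ e 0 * X 1 ^ d 1 * X 2 ^ d 2) * (X 1 ^ u * X 2 ^ v) := by
          rw [hu, hv, pow_add, pow_add]; ring
        have e2 : (C c' * (X 0 ^ d 0 * X 1 ^ d 1 * X 2 ^ d 2) : MvPolynomial (Fin 3) k)
            = (X 0 ^ e 0 * X 1 ^ d 1 * X 2 ^ d 2) * (C c' * X 0 ^ a) := by
          rw [ha, pow_add]; ring
        rw [e1, e2, map_mul, hc', ← map_mul]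
    · -- Case III : impossible
      exfalso
      have h2' : (e 2 : ℤ) + 1 ≤ d 2 := by exact_mod_cast h2
      have h1' : (d 1 : ℤ) ≤ e 1 := by exact_mod_cast h1
      have h0' : (e 0 : ℤ) ≤ d 0 := by exact_mod_cast h0
      have := mul_le_mul_of_nonneg_left h2' hq'.le
      have := mul_le_mul_of_nonneg_left h1' hp'.le
      linarith
  · obtain ⟨u, hu⟩ := Nat.exists_eq_add_of_le h1.le
    have hupos : u ≠ 0 := by omega
    rcases le_or_gt (e 2) (d 2) with h2 | h2
    · -- II.a
      left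
      obtain ⟨v, hv⟩ := Nat.exists_eq_add_of_le h2
      have e1 : (X 0 ^ d 0 * X 1 ^ d 1 * X 2 ^ d 2 : MvPolynomial (Fin 3) k)
          = (X 0 ^ e 0 * X 1 ^ e 1 * X 2 ^ e 2) * (X 0 ^ a * X 1 ^ u * X 2 ^ v) := by
        rw [ha, hu, hv, pow_add, pow_add, pow_add]; ring
      rw [e1, map_mul, K_mem k p q m c i s a u v (Or.inr (Or.inl hupos)) (by
        rw [ha, hu, hv] at hw1; push_cast at hw1; linarith) (by
        rw [hu, hv] at hw2; push_cast at hw2; linear_combination hw2), mul_zero]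
    · -- II.b
      left
      apply X0_big
      obtain ⟨v, hv⟩ := Nat.exists_eq_add_of_le h2.le
      have hvpos : 1 ≤ v := by omega
      have hupos' : 1 ≤ u := by omega
      have hle := nN_le p q m hpq c hc (i - 1) (by omega)
      have hv' : (1 : ℤ) ≤ v := by exact_mod_cast hvpos
      have hu' : (1 : ℤ) ≤ u := by exact_mod_cast hupos'
      have h3 := mul_le_mul_of_nonneg_left hv' hq'.le
      have h4 := mul_le_mul_of_nonneg_left hu' hp'.le
      rw [ha, hu, hv] at hw1
      push_cast at hw1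
      rw [ha]; push_cast
      linarith [Int.natCast_nonneg (e 0)]

include hp hpq hm hc hi hir in
theorem rank_piece_le_one (ν : ℤ × ZMod m) :
    Module.rank k (piece k (wt3 p q m) (idealL k p q m c i s) ν) ≤ 1 := by
  classical
  set I := idealL k p q m c i s with hI
  set S : Set (MvPolynomial (Fin 3) k ⧸ I) :=
    {v | ∃ d : Fin 3 →₀ ℕ, Finsupp.weight (wt3 p q m) d = ν ∧
      v = Ideal.Quotient.mk I (monomial d 1)} with hS
  have hpiece : piece k (wt3 p q m) I ν ≤ Submodule.span k S := by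
    rintro _ ⟨f, hf, rfl⟩
    have hfsum := (support_sum_monomial_coeff f).symm
    rw [hfsum, map_sum]
    apply Submodule.sum_mem
    intro d hd
    have h1 : monomial d (coeff d f) = coeff d f • (monomial d 1 : MvPolynomial (Fin 3) k) := by
      rw [smul_monomial, smul_eq_mul, mul_one]
    rw [h1, map_smul]
    apply Submodule.smul_mem
    apply Submodule.subset_span
    exact ⟨d, hf (mem_support_iff.1 hd), rfl⟩
  obtain ⟨v₀, hv₀⟩ := Groth.Agent.S15727.span_le_of_pairwise (k := k) S (by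
    rintro v ⟨d, hd, rfl⟩ w ⟨e, he, rfl⟩
    rcases le_total (e 0) (d 0) with h | h
    · rcases pair_aux k p q m hp hpq hm c hc i hi hir s d e h (hd.trans he.symm) with h' | ⟨c', h'⟩
      · exact ⟨0, Or.inl (by rw [h', zero_smul])⟩
      · exact ⟨c', Or.inr h'⟩
    · rcases pair_aux k p q m hp hpq hm c hc i hi hir s e d h (he.trans hd.symm) with h' | ⟨c', h'⟩
      · exact ⟨0, Or.inr (by rw [h', zero_smul])⟩
      · exact ⟨c', Or.inl h'⟩)
  rw [rank_submodule_le_one_iff']
  exact ⟨v₀, hpiece.trans hv₀⟩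

end

end Groth.Agent.Lib.Helper80.HJ
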