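import Mathlib

/-!
# Transport of a presentation of Kähler differentials along ring isomorphisms (helper80)
-/

set_option autoImplicit false
set_option linter.style.haveILetI false
universe u

namespace Groth.Agent.Lib.Helper80.KaehlerTransport

variable {A B A' B' : Type u} [CommRing A] [CommRing B] [CommRing A'] [CommRing B']
  [Algebra A B] [Algebra A' B']

/-- If `τ : Ω[B'⁄A'] → N'` is bijective and `B ≅ B'` compatibly with the base rings, then a
semilinear map `T : Ω[B⁄A] → N'` with `T (D b) = τ (D (θ b))` is bijective. -/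
theorem bijective_of_ringEquiv (σ : B' →+* B) (θ : B →+* B')
    (hσθ : ∀ b, σ (θ b) = b) (hθσ : ∀ s, θ (σ s) = s)
    (hbase : ∀ a' : A', ∃ a : A, σ (algebraMap A' B' a') = algebraMap A B a)
    {N' : Type u} [AddCommGroup N'] [Module B' N']
    (τ : Ω[B'⁄A'] →ₗ[B'] N') (hτ : Function.Bijective τ)
    (T : Ω[B⁄A] →+ N') (hTsmul : ∀ (b : B) (x : Ω[B⁄A]), T (b • x) = θ b • T x)
    (hTD : ∀ b : B, T (KaehlerDifferential.D A B b) = τ (KaehlerDifferential.D A' B' (θ b))) :
    Function.Bijective T := by
  letI modB' : Module B' Ω[B⁄A] := Module.compHom _ σ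
  letI modA' : Module A' Ω[B⁄A] := Module.compHom _ (σ.comp (algebraMap A' B'))
  haveI : IsScalarTower A' B' Ω[B⁄A] := IsScalarTower.of_algebraMap_smul fun _ _ => rfl
  have hsmulB' : ∀ (s : B') (x : Ω[B⁄A]), s • x = σ s • x := fun _ _ => rfl
  -- the derivation `B' → Ω[B⁄A]`
  let Dlin : B' →ₗ[A'] Ω[B⁄A] :=
    { toFun := fun s => KaehlerDifferential.D A B (σ s)
      map_add' := fun s t => by rw [map_add, map_add]
      map_smul' := fun a' s => by
        obtain ⟨a, ha⟩ := hbase a'
        change KaehlerDifferential.D A B (σ (a' • s)) =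
          σ (algebraMap A' B' a') • KaehlerDifferential.D A B (σ s)
        rw [Algebra.smul_def, map_mul, Derivation.leibniz, ha, Derivation.map_algebraMap,
          smul_zero, add_zero] }
  let Dder : Derivation A' B' Ω[B⁄A] := Derivation.mk' Dlin (fun s t => by
    change KaehlerDifferential.D A B (σ (s * t)) =
      σ s • KaehlerDifferential.D A B (σ t) + σ t • KaehlerDifferential.D A B (σ s)
    rw [map_mul, Derivation.leibniz])
  let μ : Ω[B'⁄A'] →ₗ[B'] Ω[B⁄A] := Dder.liftKaehlerDifferential
  have hμ : ∀ s : B', μ (KaehlerDifferential.D A' B' s) = KaehlerDifferential.D A B (σ s) :=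
    fun s => Dder.liftKaehlerDifferential_comp_D s
  let τe : Ω[B'⁄A'] ≃ₗ[B'] N' := LinearEquiv.ofBijective τ hτ
  constructor
  · -- injective: `μ ∘ τ⁻¹ ∘ T = id`
    let R : Ω[B⁄A] →ₗ[B] Ω[B⁄A] :=
      { toFun := fun x => μ (τe.symm (T x))
        map_add' := fun x y => by rw [map_add, map_add, map_add]
        map_smul' := fun b x => by
          rw [hTsmul, map_smul, map_smul, hsmulB', hσθ]
          rfl }
    have hR : R = LinearMap.id := by
      apply Derivation.liftKaehlerDifferential_unique
      ext b
      change μ (τe.symm (T (KaehlerDifferential.D A B b))) = KaehlerDifferential.D A B b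
      rw [hTD]
      have : τe.symm (τ (KaehlerDifferential.D A' B' (θ b))) =
          KaehlerDifferential.D A' B' (θ b) := τe.symm_apply_apply _
      rw [this, hμ, hσθ]
    intro x y hxy
    have h1 : R x = R y := by
      change μ (τe.symm (T x)) = μ (τe.symm (T y))
      rw [hxy]
    rwa [hR] at h1
  · -- surjective
    intro n
    obtain ⟨η, rfl⟩ := hτ.2 n
    have hη : η ∈ Submodule.span B' (Set.range (KaehlerDifferential.D A' B')) := by
      rw [KaehlerDifferential.span_range_derivation]; trivial
    induction hη using Submodule.span_induction with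
    | mem y hy =>
      obtain ⟨s, rfl⟩ := hy
      exact ⟨KaehlerDifferential.D A B (σ s), by rw [hTD, hθσ]⟩
    | zero => exact ⟨0, by rw [map_zero, map_zero]⟩
    | add y z _ _ hy hz =>
      obtain ⟨y', hy'⟩ := hy
      obtain ⟨z', hz'⟩ := hz
      exact ⟨y' + z', by rw [map_add, map_add, hy', hz']⟩
    | smul s y _ hy =>
      obtain ⟨y', hy'⟩ := hy
      exact ⟨σ s • y', by rw [hTsmul, hθσ, map_smul, hy']⟩

end Groth.Agent.Lib.Helper80.KaehlerTransport
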