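import Mathlib
import Groth.Agent.Lib.Helper80.ModHartogsConv

/-!
# Dividing a section by an almost regular element away from a closed subset (helper80)

`W` affine, `I` the ideal of `W ∖ U`, `a g ∈ Γ(X, W)` such that `g` kills the `a`-torsion of
`Γ(F, W)`, and `e ∈ Γ(F, W)` with `I • e ⊆ a • Γ(F, W)`.  Then there is a section `t` of `F` over
`W ⊓ U` with `a • t = (g • e)|_{W ⊓ U}`.
-/

set_option autoImplicit false
universe u

open AlgebraicGeometry CategoryTheory Opposite TopologicalSpace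

namespace Groth.Agent.Lib.Helper80

open Groth.Agent.Lib.Helper45 Groth.Agent.Lib.Helper2

variable {X : Scheme.{u}} (F : X.Modules)

section

variable {W : X.Opens} (hW : IsAffineOpen W) [F.IsQuasicoherent]

include hW in
/-- if `g` kills the `a`-torsion of `Γ(F, W)` then it kills the `a`-torsion over every basic open -/
lemma kills_torsion_basicOpen (a g : Γ(X, W)) (hg : ∀ m : Γ(F, W), a • m = 0 → g • m = 0)
    (f : Γ(X, W)) (u : Γ(F, X.basicOpen f)) (hu : res (X.basicOpen_le f) a • u = 0) :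
    res (X.basicOpen_le f) g • u = 0 := by
  obtain ⟨k, v, hv⟩ := exists_ρ_eq_pow_smul F hW f u
  have h1 : ρ F (X.basicOpen_le f) (a • v) = 0 := by
    rw [ρ_smul, hv, smul_comm, hu, smul_zero]
  obtain ⟨n, hn⟩ := exists_pow_smul_eq_zero F hW f (a • v) h1
  have h2 : g • (f ^ n • v) = 0 := by
    apply hg
    rw [smul_comm, hn]
  have h3 : res (X.basicOpen_le f) f ^ (n + k) • (res (X.basicOpen_le f) g • u) = 0 := by
    have := congrArg (ρ F (X.basicOpen_le f)) h2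
    rw [map_zero, ρ_smul, ρ_smul, hv, map_pow] at this
    rw [smul_comm, pow_add, mul_smul]
    exact this
  exact smul_injective_of_isUnit F ((isUnit_res_basicOpen f).pow (n + k)) h3

include hW in
lemma kills_torsion_of_eq_basicOpen (a g : Γ(X, W)) (hg : ∀ m : Γ(F, W), a • m = 0 → g • m = 0)
    (O : X.Opens) (f : Γ(X, W)) (hO : O = X.basicOpen f) (hOW : O ≤ W) (u : Γ(F, O))
    (hu : res hOW a • u = 0) : res hOW g • u = 0 := by
  subst hO
  exact kills_torsion_basicOpen F hW a g hg f u hu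

variable (U : X.Opens) (I : Ideal Γ(X, W))
  (hI : ∀ y : W, (y : X) ∈ U ↔ ¬ I ≤ (hW.primeIdealOf y).asIdeal)

include hI in
theorem exists_div_section (a g : Γ(X, W)) (hg : ∀ m : Γ(F, W), a • m = 0 → g • m = 0)
    (e : Γ(F, W)) (he : ∀ c ∈ I, ∃ n : Γ(F, W), c • e = a • n) :
    ∃ t : Γ(F, W ⊓ U), res (inf_le_left : W ⊓ U ≤ W) a • t =
      ρ F (inf_le_left : W ⊓ U ≤ W) (g • e) := by
  have hex : ∀ c : {c : Γ(X, W) // c ∈ I}, ∃ nc : Γ(F, W), a • nc = c.1 • e := by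
    intro c
    obtain ⟨n, hn⟩ := he c.1 c.2
    exact ⟨n, hn.symm⟩
  choose nc hnc using hex
  let Fs : TopCat.Sheaf Ab X := ⟨F.presheaf, F.isSheaf⟩
  let Uc : {c : Γ(X, W) // c ∈ I} → X.Opens := fun c => X.basicOpen c.1
  have hle : ∀ c : {c : Γ(X, W) // c ∈ I}, Uc c ≤ W ⊓ U :=
    fun c => basicOpen_le_of_mem hW U I hI c.2
  have hu : ∀ c : {c : Γ(X, W) // c ∈ I}, IsUnit (res (X.basicOpen_le c.1) c.1) :=
    fun c => isUnit_res_basicOpen c.1
  -- the local quotients `e / a` on `D(c)`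
  let st : ∀ c : {c : Γ(X, W) // c ∈ I}, Γ(F, Uc c) :=
    fun c => (↑(hu c).unit⁻¹ : Γ(X, X.basicOpen c.1)) • ρ F (X.basicOpen_le c.1) (nc c)
  have hst : ∀ c : {c : Γ(X, W) // c ∈ I},
      res (X.basicOpen_le c.1) a • st c = ρ F (X.basicOpen_le c.1) e := by
    intro c
    change res (X.basicOpen_le c.1) a •
      ((↑(hu c).unit⁻¹ : Γ(X, X.basicOpen c.1)) • ρ F (X.basicOpen_le c.1) (nc c)) = _
    rw [smul_comm, ← ρ_smul, hnc, ρ_smul, smul_smul]
    have : (↑(hu c).unit⁻¹ : Γ(X, X.basicOpen c.1)) * res (X.basicOpen_le c.1) c.1 = 1 :=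
      (hu c).val_inv_mul
    rw [this, one_smul]
  let sf : ∀ c : {c : Γ(X, W) // c ∈ I}, Γ(F, Uc c) :=
    fun c => res (X.basicOpen_le c.1) g • st c
  have hsf : ∀ c : {c : Γ(X, W) // c ∈ I},
      res (X.basicOpen_le c.1) a • sf c = ρ F (X.basicOpen_le c.1) (g • e) := by
    intro c
    change res (X.basicOpen_le c.1) a • (res (X.basicOpen_le c.1) g • st c) = _
    rw [smul_comm, hst c, ← ρ_smul]
  have hcompat : TopCat.Presheaf.IsCompatible Fs.1 Uc sf := by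
    intro i j
    change ρ F (inf_le_left : Uc i ⊓ Uc j ≤ Uc i) (sf i) =
      ρ F (inf_le_right : Uc i ⊓ Uc j ≤ Uc j) (sf j)
    have hO : Uc i ⊓ Uc j = X.basicOpen (i.1 * j.1) := (Scheme.basicOpen_mul _ _ _).symm
    have hOW : Uc i ⊓ Uc j ≤ W := inf_le_left.trans (X.basicOpen_le i.1)
    have e1 : ∀ r : Γ(X, W), res hOW r =
        res (inf_le_left : Uc i ⊓ Uc j ≤ Uc i) (res (X.basicOpen_le i.1) r) :=
      fun r => (res_res _ _ _).symm
    have e2 : ∀ r : Γ(X, W), res hOW r =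
        res (inf_le_right : Uc i ⊓ Uc j ≤ Uc j) (res (X.basicOpen_le j.1) r) :=
      fun r => (res_res _ _ _).symm
    -- the difference of the local quotients is killed by `a`, hence by `g`
    have hd : res hOW a • (ρ F (inf_le_left : Uc i ⊓ Uc j ≤ Uc i) (st i) -
        ρ F (inf_le_right : Uc i ⊓ Uc j ≤ Uc j) (st j)) = 0 := by
      rw [smul_sub]
      nth_rewrite 1 [e1 a]
      rw [e2 a, ← ρ_smul, ← ρ_smul, hst i, hst j, ρ_ρ, ρ_ρ, sub_self]
    have hd' := kills_torsion_of_eq_basicOpen F hW a g hg (Uc i ⊓ Uc j) (i.1 * j.1) hO hOW _ hd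
    rw [smul_sub, sub_eq_zero] at hd'
    have g1 : ρ F (inf_le_left : Uc i ⊓ Uc j ≤ Uc i) (sf i) =
        res hOW g • ρ F (inf_le_left : Uc i ⊓ Uc j ≤ Uc i) (st i) :=
      (ρ_smul F _ _ _).trans (by rw [← e1 g])
    have g2 : ρ F (inf_le_right : Uc i ⊓ Uc j ≤ Uc j) (sf j) =
        res hOW g • ρ F (inf_le_right : Uc i ⊓ Uc j ≤ Uc j) (st j) :=
      (ρ_smul F _ _ _).trans (by rw [← e2 g])
    rw [g1, g2]
    exact hd'
  have hcover : W ⊓ U ≤ iSup Uc := by
    intro x hx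
    obtain ⟨c, hcI, hxc⟩ := exists_mem_basicOpen hW U I hI hx
    exact Opens.mem_iSup.mpr ⟨⟨c, hcI⟩, hxc⟩
  obtain ⟨t, ht, -⟩ := TopCat.Sheaf.existsUnique_gluing' Fs Uc (W ⊓ U)
    (fun c => homOfLE (hle c)) hcover sf hcompat
  have ht' : ∀ c : {c : Γ(X, W) // c ∈ I}, ρ F (hle c) t = sf c := ht
  refine ⟨t, ?_⟩
  rw [← sub_eq_zero]
  apply eq_zero_of_forall_basicOpen F hW U I hI
  intro c hc
  have := ht' ⟨c, hc⟩
  rw [map_sub, ρ_smul, res_res, this, hsf ⟨c, hc⟩, ρ_ρ, sub_self]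

end

end Groth.Agent.Lib.Helper80
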