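import Mathlib
import Groth.Agent.Lib.Helper80.ModHartogsLocal
import Groth.Agent.Lib.Helper93.DepthHom
import Groth.Agent.Lib.Helper73.RegularNormal
import Groth.Agent.Lib.Helper49.StalkExact
import Groth.Agent.Lib.Helper12.QuasiFlat

/-! "Normal" coherent sheaves: restriction bijective across closed sets where depth ≥ 2. -/

set_option autoImplicit false
universe u
open CategoryTheory CategoryTheory.Limits AlgebraicGeometry TopologicalSpace

namespace Groth.Agent.Lib.Helper80.NormalSheaf

open Groth.Agent.Lib.Helper80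

variable {X : Scheme.{u}} (F : X.Modules)

/-- Restriction `F(U) → F(V)` is bijective if `depth F_x ≥ 2` at all points of `U ∖ V`. -/
theorem res_bijective_of_depth [IsLocallyNoetherian X] (hF : Coh.IsCoh F) (U V : X.Opens)
    (hVU : V ≤ U)
    (hdepth : ∀ x : X, x ∈ U → x ∉ V →
      (2 : ℕ∞) ≤ LocCoh.depth (X.presheaf.stalk x) (F.presheaf.stalk x)) :
    Function.Bijective (F.presheaf.map (homOfLE hVU).op) := by
  have key := mod_res_bijective_of_depth_on F hF V U hdepth U le_rfl
  have h1 : V ≤ U ⊓ V := le_inf hVU le_rfl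
  have h2 : U ⊓ V ≤ V := inf_le_right
  have hb : Function.Bijective (ρ F h1) := by
    refine Function.bijective_iff_has_inverse.mpr ⟨ρ F h2, fun s => ?_, fun s => ?_⟩
    · rw [ρ_ρ]
      change (F.presheaf.map (homOfLE (le_refl (U ⊓ V))).op).hom s = s
      have : (homOfLE (le_refl (U ⊓ V))).op = 𝟙 _ := rfl
      rw [this, CategoryTheory.Functor.map_id]; rfl
    · rw [ρ_ρ]
      change (F.presheaf.map (homOfLE (le_refl V)).op).hom s = s
      have : (homOfLE (le_refl V)).op = 𝟙 _ := rfl
      rw [this, CategoryTheory.Functor.map_id]; rfl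
  have hcomp : (ρ F hVU : Γ(F, U) → Γ(F, V)) = ρ F h1 ∘ ρ F (inf_le_left : U ⊓ V ≤ U) := by
    funext s
    exact (ρ_ρ F _ _ s).symm
  change Function.Bijective (ρ F hVU)
  rw [hcomp]
  exact hb.comp key

/-- Injectivity version with `depth ≥ 1`. -/
theorem res_injective_of_depth [IsLocallyNoetherian X] (hF : Coh.IsCoh F) (U V : X.Opens)
    (hVU : V ≤ U)
    (hdepth : ∀ x : X, x ∈ U → x ∉ V →
      (1 : ℕ∞) ≤ LocCoh.depth (X.presheaf.stalk x) (F.presheaf.stalk x)) :
    Function.Injective (F.presheaf.map (homOfLE hVU).op) := by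
  have key := mod_res_injective_of_depth_on F hF V U hdepth U le_rfl
  have h1 : V ≤ U ⊓ V := le_inf hVU le_rfl
  have h2 : U ⊓ V ≤ V := inf_le_right
  have hb : Function.Injective (ρ F h1) := by
    refine Function.LeftInverse.injective (g := ρ F h2) fun s => ?_
    rw [ρ_ρ]
    change (F.presheaf.map (homOfLE (le_refl (U ⊓ V))).op).hom s = s
    have : (homOfLE (le_refl (U ⊓ V))).op = 𝟙 _ := rfl
    rw [this, CategoryTheory.Functor.map_id]; rfl
  have hcomp : (ρ F hVU : Γ(F, U) → Γ(F, V)) = ρ F h1 ∘ ρ F (inf_le_left : U ⊓ V ≤ U) := by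
    funext s
    exact (ρ_ρ F _ _ s).symm
  change Function.Injective (ρ F hVU)
  rw [hcomp]
  exact hb.comp key

/-- depth of a regular local ring of dimension ≥ 2 is ≥ 2. -/
theorem two_le_depth_self_of_regular (R : Type u) [CommRing R] [IsRegularLocalRing R]
    (h : (2 : WithBot ℕ∞) ≤ ringKrullDim R) : (2 : ℕ∞) ≤ LocCoh.depth R R := by
  rw [← Groth.Agent.Lib.Helper73.RegularNormal.depth_self_of_isRegularLocalRing R] at h
  exact WithBot.coe_le_coe.mp h

/-- A torsion-free module over a local domain which is not a field has depth ≥ 1. -/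
theorem one_le_depth_of_isTorsionFree (R : Type u) [CommRing R] [IsLocalRing R] [IsDomain R]
    (hR : (1 : WithBot ℕ∞) ≤ ringKrullDim R) (M : Type u) [AddCommGroup M] [Module R M]
    [Module.IsTorsionFree R M] : (1 : ℕ∞) ≤ LocCoh.depth R M := by
  unfold LocCoh.depth
  rw [Groth.Agent.Lib.Helper93.Depth.one_le_idealDepth_iff]
  right
  have hne : IsLocalRing.maximalIdeal R ≠ ⊥ := by
    intro hbot
    have hf : IsField R := IsLocalRing.isField_iff_maximalIdeal_eq.mpr hbot
    rw [ringKrullDim_eq_zero_of_isField hf] at hR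
    exact absurd hR (by decide)
  obtain ⟨a, ha, ha0⟩ := Submodule.exists_mem_ne_zero_of_ne_bot hne
  exact ⟨a, ha, Module.IsTorsionFree.isSMulRegular (isRegular_of_ne_zero ha0)⟩

end Groth.Agent.Lib.Helper80.NormalSheaf
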