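import Mathlib
import Groth.Agent.Lib.Helper80.ConormalDiffMk
import Groth.Agent.Lib.Helper80.OmegaUniversal
import Groth.Agent.Lib.Helper51.OmegaUniv.ConormalSection
import Groth.Agent.S9384
import Groth.Agent.S9386
import Groth.Agent.S9370

/-!
# `Ω_{R/U} ≅ s^* C_e` for a "translation structure"

* `nonempty_conormal_iso_pullback_of_section`: for a section `e` of a quasi-separated `t`,
  `C_e ≅ e^* Ω_t`.
* `nonempty_omega_iso_pullback_conormal`: the general lemma used for group schemes and groupoids.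
-/
set_option autoImplicit false
universe u
open CategoryTheory CategoryTheory.Limits AlgebraicGeometry TopologicalSpace Opposite OmegaSh

namespace Groth.Agent.Lib.Helper80.OmegaGroup

open Groth.Agent.Lib.Helper51.OmegaUniv Groth.Agent.Lib.Helper13.OmegaShYoneda

/-- A derivation relative to a morphism equal to the identity vanishes. -/
theorem der_app_eq_zero_of_eq_id {U : Scheme.{u}} {g : U ⟶ U} (hg : g = 𝟙 U) {F : U.Modules}
    (D : Der g F) (W : U.Opens) (x : Γ(U, W)) : D.app W x = 0 := by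
  have hW : W ≤ g ⁻¹ᵁ W := by
    subst hg
    exact le_rfl
  have h := der_app_appLE D W W hW x
  have h2 : g.appLE W W hW x = x := by
    have e3 := appLE_congr_hom' hg W W hW (le_refl W)
    rw [e3]
    exact id_appLE_apply W _ x
  rwa [h2] at h

/-- the receptacle of a universal derivation relative to (a morphism equal to) the identity is
zero. -/
theorem isZero_of_isUniversal_of_eq_id {U : Scheme.{u}} {g : U ⟶ U} (hg : g = 𝟙 U)
    {Ω : U.Modules} {d : Der g Ω} (hd : IsUniversal d) : IsZero Ω := by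
  rw [IsZero.iff_id_eq_zero]
  apply hom_ext_of_isUniversal hd
  intro W s
  rw [der_app_eq_zero_of_eq_id hg d W s, map_zero, map_zero]

/-- For a section `e` of a quasi-separated morphism `t`, `C_e ≅ e^* Ω_t`. -/
theorem nonempty_conormal_iso_pullback_of_section {R U : Scheme.{u}} (t : R ⟶ U)
    [QuasiSeparated t] (e : U ⟶ R) (he : e ≫ t = 𝟙 U) {Ω : R.Modules} (d : Der t Ω)
    (hd : IsUniversal d) :
    Nonempty (Omega.conormal e ≅ (Scheme.Modules.pullback e).obj Ω) := by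
  have : IsImmersion (e ≫ t) := by rw [he]; infer_instance
  have : IsImmersion e := IsImmersion.of_comp e t
  have : QuasiCompact (e ≫ t) := by rw [he]; infer_instance
  have : QuasiCompact e := QuasiCompact.of_comp e t
  have : QuasiSeparated (e ≫ t) := by rw [he]; infer_instance
  have hZ : IsUniversal (dOmega (e ≫ t)) :=
    Groth.Agent.Lib.Helper80.OmegaUniversal.isUniversal_dOmega (e ≫ t)
  obtain ⟨c, hc, -⟩ := Groth.Agent.S9370.result t (e ≫ t) e (𝟙 U) (Category.comp_id _) Ω d hd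
    (Omega.sheaf (e ≫ t)) (dOmega (e ≫ t)) hZ
  have hgS : t ≫ e ≫ t = t := by rw [he, Category.comp_id]
  obtain ⟨w, hex, ⟨r, hr⟩, -⟩ := Groth.Agent.S9384.result t e t he hgS Ω d hd
    (Omega.sheaf (e ≫ t)) (dOmega (e ≫ t)) hZ
    (Groth.Agent.Lib.Helper80.ConormalDiffMk.conormalDiff e d)
    (Groth.Agent.Lib.Helper80.ConormalDiffMk.isConormalDiff e d) c hc
  have hzero : IsZero (Omega.sheaf (e ≫ t)) := isZero_of_isUniversal_of_eq_id he hZ
  have hc0 : c = 0 := hzero.eq_of_tgt _ _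
  have : Epi (Groth.Agent.Lib.Helper80.ConormalDiffMk.conormalDiff e d) := hex.epi_f hc0
  have : Mono (Groth.Agent.Lib.Helper80.ConormalDiffMk.conormalDiff e d) :=
    mono_of_mono_fac hr
  have : IsIso (Groth.Agent.Lib.Helper80.ConormalDiffMk.conormalDiff e d) :=
    isIso_of_mono_of_epi _
  exact ⟨asIso (Groth.Agent.Lib.Helper80.ConormalDiffMk.conormalDiff e d)⟩

/-- **General lemma.** `t : R ⟶ U` quasi-separated with section `e`; `s : R ⟶ U`; `P = R ×_{s,U,t} R`
with projections `p1, p2`; `θ : P ⟶ R` ("composition") such that `(θ, p1)` makes `P` a fibre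
product `R ×_{t,U,t} R`; `σ0 : R ⟶ P` a section of `p1` with `σ0 ≫ p2 = s ≫ e` and
`σ0 ≫ θ = 𝟙`. Then `Ω_{R/U} ≅ s^* C_e`. -/
theorem nonempty_omega_iso_pullback_conormal {R U P : Scheme.{u}} (t : R ⟶ U) [QuasiSeparated t]
    (e : U ⟶ R) (he : e ≫ t = 𝟙 U) (s : R ⟶ U) (p1 p2 : P ⟶ R) (hP : IsPullback p1 p2 s t)
    (θ : P ⟶ R) (hθ : IsPullback θ p1 t t) (σ0 : R ⟶ P)
    (h2 : σ0 ≫ p2 = s ≫ e) (h3 : σ0 ≫ θ = 𝟙 R) :
    Nonempty (Omega.sheaf t ≅ (Scheme.Modules.pullback s).obj (Omega.conormal e)) := by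
  have hd : IsUniversal (dOmega t) :=
    Groth.Agent.Lib.Helper80.OmegaUniversal.isUniversal_dOmega t
  have : QuasiSeparated p1 :=
    MorphismProperty.of_isPullback (P := @QuasiSeparated) hP.flip inferInstance
  have hdP : IsUniversal (dOmega p1) :=
    Groth.Agent.Lib.Helper80.OmegaUniversal.isUniversal_dOmega p1
  -- `θ^* Ω ≅ Ω_P`
  obtain ⟨c1, hc1, -⟩ := Groth.Agent.S9370.result t p1 θ t hθ.w.symm (Omega.sheaf t) (dOmega t) hd
    (Omega.sheaf p1) (dOmega p1) hdP
  have : IsIso c1 := Groth.Agent.S9386.result t t θ p1 hθ (Omega.sheaf t) (dOmega t) hd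
    (Omega.sheaf p1) (dOmega p1) hdP c1 hc1
  -- `p2^* Ω ≅ Ω_P`
  obtain ⟨c2, hc2, -⟩ := Groth.Agent.S9370.result t p1 p2 s hP.w (Omega.sheaf t) (dOmega t) hd
    (Omega.sheaf p1) (dOmega p1) hdP
  have : IsIso c2 := Groth.Agent.S9386.result t s p2 p1 hP.flip (Omega.sheaf t) (dOmega t) hd
    (Omega.sheaf p1) (dOmega p1) hdP c2 hc2
  obtain ⟨κ⟩ := nonempty_conormal_iso_pullback_of_section t e he (dOmega t) hd
  -- assemble
  let i1 : Omega.sheaf t ≅ (Scheme.Modules.pullback (𝟙 R)).obj (Omega.sheaf t) :=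
    ((Scheme.Modules.pullbackId R).app (Omega.sheaf t)).symm
  let i2 : (Scheme.Modules.pullback (𝟙 R)).obj (Omega.sheaf t) ≅
      (Scheme.Modules.pullback (σ0 ≫ θ)).obj (Omega.sheaf t) :=
    (Scheme.Modules.pullbackCongr h3.symm).app (Omega.sheaf t)
  let i3 : (Scheme.Modules.pullback (σ0 ≫ θ)).obj (Omega.sheaf t) ≅
      (Scheme.Modules.pullback σ0).obj ((Scheme.Modules.pullback θ).obj (Omega.sheaf t)) :=
    ((Scheme.Modules.pullbackComp σ0 θ).app (Omega.sheaf t)).symm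
  let i4 : (Scheme.Modules.pullback σ0).obj ((Scheme.Modules.pullback θ).obj (Omega.sheaf t)) ≅
      (Scheme.Modules.pullback σ0).obj ((Scheme.Modules.pullback p2).obj (Omega.sheaf t)) :=
    (Scheme.Modules.pullback σ0).mapIso (asIso c1 ≪≫ (asIso c2).symm)
  let i5 : (Scheme.Modules.pullback σ0).obj ((Scheme.Modules.pullback p2).obj (Omega.sheaf t)) ≅
      (Scheme.Modules.pullback (σ0 ≫ p2)).obj (Omega.sheaf t) :=
    (Scheme.Modules.pullbackComp σ0 p2).app (Omega.sheaf t)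
  let i6 : (Scheme.Modules.pullback (σ0 ≫ p2)).obj (Omega.sheaf t) ≅
      (Scheme.Modules.pullback (s ≫ e)).obj (Omega.sheaf t) :=
    (Scheme.Modules.pullbackCongr h2).app (Omega.sheaf t)
  let i7 : (Scheme.Modules.pullback (s ≫ e)).obj (Omega.sheaf t) ≅
      (Scheme.Modules.pullback s).obj ((Scheme.Modules.pullback e).obj (Omega.sheaf t)) :=
    ((Scheme.Modules.pullbackComp s e).app (Omega.sheaf t)).symm
  let i8 : (Scheme.Modules.pullback s).obj ((Scheme.Modules.pullback e).obj (Omega.sheaf t)) ≅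
      (Scheme.Modules.pullback s).obj (Omega.conormal e) :=
    (Scheme.Modules.pullback s).mapIso κ.symm
  exact ⟨i1 ≪≫ i2 ≪≫ i3 ≪≫ i4 ≪≫ i5 ≪≫ i6 ≪≫ i7 ≪≫ i8⟩

end Groth.Agent.Lib.Helper80.OmegaGroup
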