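/-
helper80: a reduced Noetherian local ring of positive dimension has depth ≥ 1; torsion-free modules
over it have depth ≥ 1.
-/
import Mathlib
import Groth.Prelude.Def_CAlg
import Groth.Agent.Lib.Helper29.Depth
import Groth.Agent.Lib.Helper93.Depth

set_option autoImplicit false
universe u

namespace Groth.Agent.Lib.Helper80.ReducedDepth

open IsLocalRing

/-- In a reduced Noetherian ring, associated primes of the ring are minimal primes. -/
theorem mem_minimalPrimes_of_isAssociatedPrime {R : Type u} [CommRing R] [IsNoetherianRing R]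
    [IsReduced R] {p : Ideal R} (hp : IsAssociatedPrime p R) : p ∈ minimalPrimes R := by
  obtain ⟨hprime, a, ha⟩ := (isAssociatedPrime_iff (M := R)).mp hp
  have hmem : ∀ t : R, t ∈ p ↔ t * a = 0 := by
    intro t
    rw [ha, Submodule.mem_colon_singleton, Submodule.mem_bot, smul_eq_mul]
  have hap : a ∉ p := by
    intro h
    have h2 : a * a = 0 := (hmem a).mp h
    have h0 : a = 0 := IsReduced.eq_zero a ⟨2, by rw [pow_two]; exact h2⟩
    apply hprime.ne_top
    rw [Ideal.eq_top_iff_one, hmem, h0, mul_zero]
  refine ⟨⟨hprime, bot_le⟩, ?_⟩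
  intro q hq hqp t ht
  have hq' : q.IsPrime := hq.1
  have hta : t * a ∈ q := by rw [(hmem t).mp ht]; exact q.zero_mem
  rcases hq'.mem_or_mem hta with h | h
  · exact h
  · exact absurd (hqp h) hap

/-- A reduced Noetherian local ring of dimension ≥ 1 contains a regular element in its maximal
ideal. -/
theorem exists_isRegular_mem_maximalIdeal (R : Type u) [CommRing R] [IsLocalRing R]
    [IsNoetherianRing R] [IsReduced R] (hdim : (1 : WithBot ℕ∞) ≤ ringKrullDim R) :
    ∃ a ∈ maximalIdeal R, IsRegular a := by
  have hd : LocCoh.depth R R ≠ 0 := by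
    intro h0
    rw [Groth.Agent.Lib.Helper29.depth_eq_zero_iff] at h0
    have hmin := mem_minimalPrimes_of_isAssociatedPrime h0
    have hh : (maximalIdeal R).height = 0 := Ideal.height_eq_zero_iff.mpr hmin
    have := IsLocalRing.maximalIdeal_height_eq_ringKrullDim (R := R)
    rw [hh] at this
    rw [← this] at hdim
    exact absurd hdim (by decide)
  have h1 : (1 : ℕ∞) ≤ LocCoh.depth R R := Order.one_le_iff_pos.mpr (pos_iff_ne_zero.mpr hd)
  unfold LocCoh.depth at h1
  rw [Groth.Agent.Lib.Helper93.Depth.one_le_idealDepth_iff] at h1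
  rcases h1 with h | ⟨r, hr, hreg⟩
  · exfalso
    rw [smul_eq_mul, Ideal.mul_top] at h
    exact (IsLocalRing.maximalIdeal.isMaximal R).ne_top h
  · refine ⟨r, hr, ?_⟩
    have hl : IsLeftRegular r := isLeftRegular_iff.mpr hreg
    exact isLeftRegular_iff_isRegular.mp hl

/-- A torsion-free module over a reduced Noetherian local ring of dimension ≥ 1 has depth ≥ 1. -/
theorem one_le_depth_of_isTorsionFree (R : Type u) [CommRing R] [IsLocalRing R]
    [IsNoetherianRing R] [IsReduced R] (hdim : (1 : WithBot ℕ∞) ≤ ringKrullDim R)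
    (M : Type u) [AddCommGroup M] [Module R M] [Module.IsTorsionFree R M] :
    (1 : ℕ∞) ≤ LocCoh.depth R M := by
  unfold LocCoh.depth
  rw [Groth.Agent.Lib.Helper93.Depth.one_le_idealDepth_iff]
  right
  obtain ⟨a, ha, hreg⟩ := exists_isRegular_mem_maximalIdeal R hdim
  exact ⟨a, ha, Module.IsTorsionFree.isSMulRegular hreg⟩

end Groth.Agent.Lib.Helper80.ReducedDepth
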