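import Mathlib
import Groth.Agent.Lib.Helper93.DepthHom
import Groth.Agent.Lib.Helper73.MCM
import Groth.Agent.Lib.Helper73.RegularNormal

/-! Reflexive finite modules over regular local rings of dimension ≤ 2 are free. -/

universe u

namespace Groth.Agent.Lib.Helper80.ReflexiveFree

open IsLocalRing

/-- Over a regular local ring of dimension `≤ 2`, a finite reflexive module is free. -/
theorem free_of_isReflexive_of_dim_le_two (R : Type u) [CommRing R] [IsRegularLocalRing R]
    (hdim : ringKrullDim R ≤ 2) (M : Type u) [AddCommGroup M] [Module R M] [Module.Finite R M]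
    [Module.IsReflexive R M] : Module.Free R M := by
  apply Groth.Agent.Lib.Helper73.MCM.free_of_le_depth
  have hd := Groth.Agent.Lib.Helper73.RegularNormal.depth_self_of_isRegularLocalRing R
  have hs : ((maximalIdeal R).spanFinrank : WithBot ℕ∞) = ringKrullDim R :=
    IsRegularLocalRing.spanFinrank_maximalIdeal
  have hdR : LocCoh.depth R R = ((maximalIdeal R).spanFinrank : ℕ∞) := by
    apply WithBot.coe_injective
    rw [hd, ← hs]; rfl
  have hle : (maximalIdeal R).spanFinrank ≤ 2 := by
    rw [← hs] at hdim
    have : (((maximalIdeal R).spanFinrank : ℕ∞) : WithBot ℕ∞) ≤ ((2 : ℕ∞) : WithBot ℕ∞) := hdim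
    have := WithBot.coe_le_coe.mp this
    exact_mod_cast this
  generalize (maximalIdeal R).spanFinrank = d at *
  have hdR' : LocCoh.idealDepth (maximalIdeal R) R = (d : ℕ∞) := hdR
  change (d : ℕ∞) ≤ LocCoh.idealDepth (maximalIdeal R) M
  interval_cases d
  · exact bot_le
  · exact Groth.Agent.Lib.Helper93.Depth.one_le_idealDepth_of_isReflexive _ M (by rw [hdR']; rfl)
  · exact Groth.Agent.Lib.Helper93.Depth.two_le_idealDepth_of_isReflexive _ M (by rw [hdR']; rfl)

end Groth.Agent.Lib.Helper80.ReflexiveFree
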