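import Mathlib

/-!
# Relations among a weakly regular sequence (helper80)

* `coeff_mem_of_sum_eq_zero`: if `f₁, …, fₙ` is a weakly regular sequence of a commutative ring `A`
  and `∑ cₖ fₖ = 0` then every `cₖ` lies in `I = (f₁, …, fₙ)`.
* `coeff_mem_of_sum_mem_sq`: if `∑ aₖ fₖ ∈ I * I` then every `aₖ ∈ I` (the classes of the `fₖ` are
  a basis of `I / I²` over `A / I`).
* `mem_smul_top_of_isBaseChange_eq_zero`: kernel of `N → B ⊗_A N` for `A → B` surjective.
* `bijective_of_isBaseChange`: base change to `A / I` of a surjection `Aⁿ → I` given by a weakly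
  regular sequence is bijective.
-/

set_option autoImplicit false
universe u v

open RingTheory.Sequence TensorProduct

namespace Groth.Agent.Lib.Helper80.RegSeqRel

variable {A : Type u} [CommRing A]

theorem coeff_mem_of_sum_eq_zero : ∀ (n : ℕ) (f : Fin n → A),
    IsWeaklyRegular A (List.ofFn f) → ∀ c : Fin n → A, ∑ k, c k * f k = 0 →
      ∀ k, c k ∈ Ideal.span (Set.range f) := by
  intro n
  induction n with
  | zero => intro f _ c _ k; exact k.elim0
  | succ n ih =>
    intro f hf c hc
    set f' : Fin n → A := fun k => f k.castSucc with hf'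
    have hlist : List.ofFn f = List.ofFn f' ++ [f (Fin.last n)] := by
      rw [List.ofFn_succ', List.concat_eq_append]
    rw [hlist, isWeaklyRegular_append_iff, isWeaklyRegular_singleton_iff] at hf
    obtain ⟨hf1, hf2⟩ := hf
    have hofList : Ideal.ofList (List.ofFn f') = Ideal.span (Set.range f') := by
      unfold Ideal.ofList
      congr 1
      ext a
      simp [List.mem_ofFn]
    have hle : Ideal.span (Set.range f') ≤ Ideal.span (Set.range f) := by
      apply Ideal.span_mono
      rintro _ ⟨k, rfl⟩
      exact ⟨k.castSucc, rfl⟩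
    have hlast : f (Fin.last n) ∈ Ideal.span (Set.range f) := Ideal.subset_span ⟨_, rfl⟩
    rw [Fin.sum_univ_castSucc] at hc
    -- `c_last * f_last ∈ I'`
    have h1 : f (Fin.last n) * c (Fin.last n) ∈ Ideal.span (Set.range f') := by
      have : f (Fin.last n) * c (Fin.last n) = -∑ k : Fin n, c k.castSucc * f' k := by
        rw [mul_comm]; linear_combination hc
      rw [this]
      exact neg_mem (Ideal.sum_mem _ fun k _ => Ideal.mul_mem_left _ _ (Ideal.subset_span ⟨k, rfl⟩))
    have h2 : c (Fin.last n) ∈ Ideal.span (Set.range f') := by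
      have hz : f (Fin.last n) • (Submodule.Quotient.mk (c (Fin.last n)) :
          A ⧸ (Ideal.ofList (List.ofFn f') • ⊤ : Submodule A A)) = 0 := by
        rw [← Submodule.Quotient.mk_smul, Submodule.Quotient.mk_eq_zero, hofList, smul_eq_mul,
          Ideal.mul_top]
        exact h1
      have hz' := hf2 (by rw [hz, smul_zero] : f (Fin.last n) • (Submodule.Quotient.mk
        (c (Fin.last n)) : A ⧸ (Ideal.ofList (List.ofFn f') • ⊤ : Submodule A A)) =
          f (Fin.last n) • 0)
      rw [Submodule.Quotient.mk_eq_zero, hofList, smul_eq_mul, Ideal.mul_top] at hz'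
      exact hz'
    obtain ⟨d, hd⟩ := (Ideal.mem_span_range_iff_exists_fun).mp h2
    have h3 : ∑ k : Fin n, (c k.castSucc + d k * f (Fin.last n)) * f' k = 0 := by
      have : ∑ k : Fin n, (c k.castSucc + d k * f (Fin.last n)) * f' k =
          ∑ k : Fin n, c k.castSucc * f' k + f (Fin.last n) * ∑ k : Fin n, d k * f' k := by
        rw [Finset.mul_sum, ← Finset.sum_add_distrib]
        exact Finset.sum_congr rfl fun k _ => by ring
      rw [this, hd]
      linear_combination hc
    have h4 := ih f' hf1 _ h3
    intro k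
    refine Fin.lastCases ?_ (fun k => ?_) k
    · exact hle h2
    · have := hle (h4 k)
      have h5 : c k.castSucc = (c k.castSucc + d k * f (Fin.last n)) - d k * f (Fin.last n) := by
        ring
      rw [h5]
      exact Ideal.sub_mem _ this (Ideal.mul_mem_left _ _ hlast)

theorem coeff_mem_of_sum_mem_sq {n : ℕ} (f : Fin n → A)
    (hf : IsWeaklyRegular A (List.ofFn f)) (a : Fin n → A)
    (h : ∑ k, a k * f k ∈ Ideal.span (Set.range f) * Ideal.span (Set.range f)) :
    ∀ k, a k ∈ Ideal.span (Set.range f) := by
  have h' : ∑ k, a k * f k ∈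
      Ideal.span (Set.range f) • (Submodule.span A (Set.range f) : Submodule A A) := by
    rw [smul_eq_mul]
    exact h
  obtain ⟨g, hg, hsum⟩ := (Submodule.mem_ideal_smul_span_iff_exists_sum _ f _).mp h'
  have hsum' : ∑ k, g k * f k = ∑ k, a k * f k := by
    rw [← hsum, Finsupp.sum_fintype _ _ (fun i => by simp)]
    rfl
  have h0 : ∑ k, (a k - g k) * f k = 0 := by
    simp only [sub_mul, Finset.sum_sub_distrib, hsum', sub_self]
  have h1 := coeff_mem_of_sum_eq_zero n f hf _ h0
  intro k
  have h2 : a k = (a k - g k) + g k := by ring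
  rw [h2]
  exact Ideal.add_mem _ (h1 k) (hg k)

end Groth.Agent.Lib.Helper80.RegSeqRel
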