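import Mathlib
import Groth.Agent.Lib.Helper80.RegSeqRel
import Groth.Agent.Lib.Helper11.PullbackChart

/-!
# Base change to `A / I` of `Aⁿ → I` for a weakly regular sequence (helper80)
-/

set_option autoImplicit false
universe u v

open RingTheory.Sequence TensorProduct

namespace Groth.Agent.Lib.Helper80.RegSeqRel

variable {A : Type u} [CommRing A] {B : Type u} [CommRing B] [Algebra A B]

/-- A base change map along a surjective ring map is surjective. -/
theorem surjective_of_isBaseChange (hs : Function.Surjective (algebraMap A B))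
    {M M' : Type*} [AddCommGroup M] [Module A M] [AddCommGroup M'] [Module A M'] [Module B M']
    [IsScalarTower A B M'] (g : M →ₗ[A] M') (hg : IsBaseChange B g) : Function.Surjective g := by
  intro x
  refine hg.inductionOn x (fun x => ∃ m, g m = x) ⟨0, map_zero _⟩ (fun m => ⟨m, rfl⟩) ?_ ?_
  · rintro s _ ⟨m, rfl⟩
    obtain ⟨a, rfl⟩ := hs s
    exact ⟨a • m, by rw [map_smul, algebraMap_smul]⟩
  · rintro _ _ ⟨m, rfl⟩ ⟨m', rfl⟩
    exact ⟨m + m', map_add _ _ _⟩

/-- kernel of a base change map along a surjective ring map. -/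
theorem mem_smul_top_of_isBaseChange_eq_zero (hs : Function.Surjective (algebraMap A B))
    {N N' : Type*} [AddCommGroup N] [Module A N] [AddCommGroup N'] [Module A N'] [Module B N']
    [IsScalarTower A B N'] (g : N →ₗ[A] N') (hg : IsBaseChange B g) (n : N) (hn : g n = 0) :
    n ∈ RingHom.ker (algebraMap A B) • (⊤ : Submodule A N) := by
  apply Groth.Agent.Lib.Helper11.PullbackChart.mem_ker_smul_top_of_one_tmul_eq_zero hs
  rw [← hg.equiv_symm_apply, hn, map_zero]

theorem bijective_of_isBaseChange (hs : Function.Surjective (algebraMap A B))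
    {M N M' N' : Type u} [AddCommGroup M] [Module A M] [AddCommGroup N] [Module A N]
    [AddCommGroup M'] [Module A M'] [Module B M'] [IsScalarTower A B M']
    [AddCommGroup N'] [Module A N'] [Module B N'] [IsScalarTower A B N']
    {n : ℕ} (b : Module.Basis (Fin n) A M) (τ : M →ₗ[A] N) (hτ : Function.Surjective τ)
    (ι : N →ₗ[A] A)
    (hI : ∀ a : A, a ∈ LinearMap.range ι ↔ algebraMap A B a = 0)
    (hreg : IsWeaklyRegular A (List.ofFn fun k => ι (τ (b k))))
    (gM : M →ₗ[A] M') (hM : IsBaseChange B gM) (gN : N →ₗ[A] N') (hN : IsBaseChange B gN)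
    (τ' : M' → N') (hadd : ∀ x y, τ' (x + y) = τ' x + τ' y)
    (hcomm : ∀ m, τ' (gM m) = gN (τ m)) :
    Function.Bijective τ' := by
  have hgM := surjective_of_isBaseChange hs gM hM
  have hgN := surjective_of_isBaseChange hs gN hN
  set f : Fin n → A := fun k => ι (τ (b k)) with hf
  set I : Ideal A := Ideal.span (Set.range f) with hIdef
  -- range of ι is I
  have hrange : LinearMap.range ι = I := by
    have h1 : LinearMap.range ι = Submodule.map ι (Submodule.map τ ⊤) := by
      rw [Submodule.map_top τ, LinearMap.range_eq_top.mpr hτ, Submodule.map_top]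
    rw [h1, ← b.span_eq, Submodule.map_span, Submodule.map_span, ← Set.range_comp,
      ← Set.range_comp]
    rfl
  have hker : ∀ a : A, a ∈ I ↔ algebraMap A B a = 0 := fun a => by rw [← hrange]; exact hI a
  have hτ'0 : τ' 0 = 0 := by
    have := hadd 0 0
    rw [add_zero] at this
    exact left_eq_add.mp this
  constructor
  · -- injective
    intro x y hxy
    obtain ⟨mx, rfl⟩ := hgM x
    obtain ⟨my, rfl⟩ := hgM y
    rw [hcomm, hcomm] at hxy
    have h0 : gN (τ (mx - my)) = 0 := by rw [map_sub, map_sub, hxy, sub_self]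
    have h1 := mem_smul_top_of_isBaseChange_eq_zero hs gN hN _ h0
    -- apply ι
    have h2 : ι (τ (mx - my)) ∈ I * I := by
      have h3 : ι (τ (mx - my)) ∈ Submodule.map ι
          (RingHom.ker (algebraMap A B) • (⊤ : Submodule A N)) := ⟨_, h1, rfl⟩
      rw [Submodule.map_smul'', Submodule.map_top, hrange] at h3
      have h4 : RingHom.ker (algebraMap A B) = I := by
        ext a
        rw [RingHom.mem_ker, hker]
      rw [h4] at h3
      exact h3
    have h5 : ι (τ (mx - my)) = ∑ k, b.repr (mx - my) k * f k := by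
      conv_lhs => rw [← b.sum_repr (mx - my)]
      rw [map_sum, map_sum]
      refine Finset.sum_congr rfl fun k _ => ?_
      rw [map_smul, map_smul, smul_eq_mul]
    rw [h5] at h2
    have h6 := coeff_mem_of_sum_mem_sq f hreg _ h2
    have h7 : gM (mx - my) = 0 := by
      conv_lhs => rw [← b.sum_repr (mx - my)]
      rw [map_sum]
      refine Finset.sum_eq_zero fun k _ => ?_
      rw [map_smul, ← algebraMap_smul B, (hker _).mp (h6 k), zero_smul]
    rw [map_sub, sub_eq_zero] at h7
    exact h7
  · intro y
    obtain ⟨n', rfl⟩ := hgN y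
    obtain ⟨m, rfl⟩ := hτ n'
    exact ⟨gM m, hcomm m⟩

end Groth.Agent.Lib.Helper80.RegSeqRel
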