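import Mathlib
import Groth.Agent.Lib.Helper80.StalkGeneric
import Groth.Agent.Lib.Helper80.ModHartogsLocal

/-!
# The locus where a map of coherent modules is bijective on stalks is open (helper80)
-/

set_option autoImplicit false
universe u

open AlgebraicGeometry CategoryTheory Opposite TopologicalSpace

namespace Groth.Agent.Lib.Helper80

section Submonoid

variable {A : Type u} [CommRing A] {M N : Type u} [AddCommGroup M] [Module A M]
  [AddCommGroup N] [Module A N] (f : M →ₗ[A] N)

theorem localizedModule_map_injective_of_submonoid_le {S S' : Submonoid A} (hle : S ≤ S')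
    (h : Function.Injective (LocalizedModule.map S f)) :
    Function.Injective (LocalizedModule.map S' f) := by
  rw [injective_iff_map_eq_zero]
  intro z hz
  induction z using LocalizedModule.induction_on with
  | h m s =>
    rw [LocalizedModule.map_mk, ← LocalizedModule.zero_mk s, LocalizedModule.mk_eq] at hz
    obtain ⟨t, ht⟩ := hz
    simp only [smul_zero, Submonoid.smul_def] at ht
    have h1 : LocalizedModule.map S f
        (LocalizedModule.mk ((t : A) • (s : A) • m) (1 : S)) = 0 := by
      rw [LocalizedModule.map_mk, map_smul, map_smul, ht, LocalizedModule.zero_mk]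
    have h2 := (injective_iff_map_eq_zero _).mp h _ h1
    rw [← LocalizedModule.zero_mk (1 : S), LocalizedModule.mk_eq] at h2
    obtain ⟨u, hu⟩ := h2
    simp only [smul_zero, Submonoid.smul_def, one_smul] at hu
    rw [← LocalizedModule.zero_mk s, LocalizedModule.mk_eq]
    refine ⟨⟨(u : A) * (t : A) * (s : A), S'.mul_mem
      (S'.mul_mem (hle u.2) t.2) s.2⟩, ?_⟩
    simp only [smul_zero, Submonoid.smul_def]
    calc ((u : A) * (t : A) * (s : A)) • (s : A) • m
        = (s : A) • ((u : A) • (t : A) • (s : A) • m) := by
          simp only [← mul_smul]; congr 1; ring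
      _ = 0 := by rw [hu, smul_zero]

theorem localizedModule_map_surjective_of_submonoid_le {S S' : Submonoid A} (hle : S ≤ S')
    (h : Function.Surjective (LocalizedModule.map S f)) :
    Function.Surjective (LocalizedModule.map S' f) := by
  intro z
  induction z using LocalizedModule.induction_on with
  | h n s =>
    obtain ⟨w, hw⟩ := h (LocalizedModule.mk n (1 : S))
    induction w using LocalizedModule.induction_on with
    | h m u =>
      rw [LocalizedModule.map_mk, LocalizedModule.mk_eq] at hw
      obtain ⟨v, hv⟩ := hw
      simp only [Submonoid.smul_def, one_smul] at hv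
      refine ⟨LocalizedModule.mk ((v : A) • m) ⟨(v : A) * (u : A) * (s : A), S'.mul_mem
        (S'.mul_mem (hle v.2) (hle u.2)) s.2⟩, ?_⟩
      rw [LocalizedModule.map_mk, LocalizedModule.mk_eq]
      refine ⟨1, ?_⟩
      simp only [Submonoid.smul_def, one_smul, map_smul]
      rw [hv]
      simp only [mul_smul]
      rw [smul_comm (s : A)]
      congr 1
      rw [smul_comm (s : A)]

/-- a map of finite modules over a Noetherian ring which is bijective after localizing at a prime
`p` is bijective after localizing at all primes not containing some `r ∉ p` -/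
theorem exists_forall_localizedModule_map_bijective [IsNoetherianRing A] [Module.Finite A M]
    [Module.Finite A N] (p : Ideal A) [p.IsPrime]
    (h : Function.Bijective (LocalizedModule.map p.primeCompl f)) :
    ∃ r : A, r ∉ p ∧ ∀ (q : Ideal A) [q.IsPrime], r ∉ q →
      Function.Bijective (LocalizedModule.map q.primeCompl f) := by
  haveI : Module.FinitePresentation A N := Module.finitePresentation_of_finite A N
  have h' : Function.Bijective (IsLocalizedModule.map p.primeCompl
      (LocalizedModule.mkLinearMap p.primeCompl M) (LocalizedModule.mkLinearMap p.primeCompl N) f) :=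
    h
  obtain ⟨r, hr, hr'⟩ := _root_.exists_bijective_map_powers p.primeCompl
    (LocalizedModule.mkLinearMap p.primeCompl M) (LocalizedModule.mkLinearMap p.primeCompl N) f h'
  refine ⟨r, hr, fun q _ hq => ?_⟩
  have hle : Submonoid.powers r ≤ q.primeCompl := by
    rintro _ ⟨n, rfl⟩
    exact fun hmem => hq (Ideal.IsPrime.mem_of_pow_mem inferInstance n hmem)
  have hb := hr' r dvd_rfl
  exact ⟨localizedModule_map_injective_of_submonoid_le f hle hb.1,
    localizedModule_map_surjective_of_submonoid_le f hle hb.2⟩

end Submonoid

open Groth.Agent.Lib.Helper45 Groth.Agent.Lib.Helper49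

variable {X : Scheme.{u}}

/-- the locus where a map of coherent modules on a locally Noetherian scheme is bijective on stalks
is open -/
theorem isOpen_setOf_stalkMap_bijective [IsLocallyNoetherian X] {F G : X.Modules}
    (hF : Coh.IsCoh F) (hG : Coh.IsCoh G) (φ : F ⟶ G) :
    IsOpen {x : X | Function.Bijective (stalkMap φ x).hom} := by
  rw [isOpen_iff_forall_mem_open]
  intro x hx
  obtain ⟨_, ⟨W, hW : IsAffineOpen W, rfl⟩, hxW, -⟩ :=
    X.isBasis_affineOpens.exists_subset_of_mem_open (Set.mem_univ x) isOpen_univ
  have hqF : SheafOfModules.IsQuasicoherent.{u, u, u} F := hF.1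
  have hqG : SheafOfModules.IsQuasicoherent.{u, u, u} G := hG.1
  have : IsNoetherianRing Γ(X, W) := IsLocallyNoetherian.component_noetherian ⟨W, hW⟩
  have : Module.Finite Γ(X, W) Γ(F, W) := finite_sections_of_isCoh hW F hF
  have : Module.Finite Γ(X, W) Γ(G, W) := finite_sections_of_isCoh hW G hG
  obtain ⟨y, rfl⟩ : ∃ y : W, (y : X) = x := ⟨⟨x, hxW⟩, rfl⟩
  have hx' : Function.Bijective (LocalizedModule.map (hW.primeIdealOf y).asIdeal.primeCompl
      (appₗ φ W)) :=
    ⟨(stalkMap_injective_iff_localized φ hW y).mp hx.1,
      (stalkMap_surjective_iff_localized φ hW y).mp hx.2⟩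
  obtain ⟨r, hr, hr'⟩ := exists_forall_localizedModule_map_bijective (appₗ φ W)
    (hW.primeIdealOf y).asIdeal hx'
  refine ⟨X.basicOpen r, ?_, (X.basicOpen r).2,
    (mem_basicOpen_iff_not_mem_primeIdealOf hW y r).mpr hr⟩
  intro z hz
  have hzW : z ∈ W := X.basicOpen_le r hz
  obtain ⟨z, rfl⟩ : ∃ z' : W, (z' : X) = z := ⟨⟨z, hzW⟩, rfl⟩
  have hrz := (mem_basicOpen_iff_not_mem_primeIdealOf hW z r).mp hz
  have hb := hr' (hW.primeIdealOf z).asIdeal hrz
  exact ⟨(stalkMap_injective_iff_localized φ hW z).mpr hb.1,
    (stalkMap_surjective_iff_localized φ hW z).mpr hb.2⟩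

end Groth.Agent.Lib.Helper80
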