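import Mathlib
import Groth.Prelude.Def_Coh
import Groth.Prelude.Def_MeroDiv
import Groth.Agent.Lib.Helper45.ModulesExact
import Groth.Agent.Lib.Helper45.InvOrd
import Groth.Agent.Lib.Helper49.QcqsModules
import Groth.Agent.Lib.Helper11.GenLocus

/-!
# Sub-`O_X`-modules of `O_X` on a Noetherian scheme are generated, stalkwise, by finitely many
local sections (helper80)

`exists_list_germSpan_eq_top`: for `ι : G ⟶ O_X` a monomorphism on a Noetherian scheme (`G` not
assumed quasi-coherent), there is a finite list of local sections of `G` whose germs generate every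
stalk.
-/

set_option autoImplicit false
set_option linter.style.haveILetI false
universe u
open CategoryTheory CategoryTheory.Limits AlgebraicGeometry TopologicalSpace Opposite

namespace Groth.Agent.Lib.Helper80.SubIdealGen

open Groth.Agent.Lib.Helper45 Groth.Agent.Lib.Helper49 Groth.Agent.Lib.Helper45.InvOrd

variable {X : Scheme.{u}} (G : X.Modules)

/-- the span, in the stalk at `x`, of the germs of those sections of a list defined at `x`. -/
noncomputable def germSpan (L : List (Σ U : X.Opens, Γ(G, U))) (x : X) :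
    Submodule (X.presheaf.stalk x) (G.presheaf.stalk x) :=
  Submodule.span _ {g | ∃ e ∈ L, ∃ h : x ∈ e.1, g = G.presheaf.germ e.1 x h e.2}

theorem germSpan_mono {L L' : List (Σ U : X.Opens, Γ(G, U))} (h : ∀ e ∈ L, e ∈ L') (x : X) :
    germSpan G L x ≤ germSpan G L' x := by
  apply Submodule.span_mono
  rintro g ⟨e, he, hx, rfl⟩
  exact ⟨e, h e he, hx, rfl⟩

variable {G} (ι : G ⟶ Coh.structureModule X)

/-- the map on sections, with values viewed as functions. -/
noncomputable def fn (V : X.Opens) (s : Γ(G, V)) : Γ(X, V) := ι.app V s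

theorem fn_mres {V W : X.Opens} (h : V ≤ W) (s : Γ(G, W)) :
    fn ι V (mres G h s) = fres h (fn ι W s) :=
  (Groth.Agent.Lib.Helper11.GenLocus.app_res ι h s).symm

theorem fn_smul {V : X.Opens} (r : Γ(X, V)) (s : Γ(G, V)) :
    fn ι V (r • s) = r * fn ι V s :=
  Scheme.Modules.Hom.app_smul ι r s

theorem fn_add {V : X.Opens} (s t : Γ(G, V)) : fn ι V (s + t) = fn ι V s + fn ι V t :=
  map_add (ι.app V).hom s t

theorem fn_zero {V : X.Opens} : fn ι V (0 : Γ(G, V)) = 0 :=
  map_zero (ι.app V).hom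

theorem fn_sum {V : X.Opens} {α : Type*} (S : Finset α) (f : α → Γ(G, V)) :
    fn ι V (∑ a ∈ S, f a) = ∑ a ∈ S, fn ι V (f a) :=
  map_sum (ι.app V).hom f S

theorem fn_injective [Mono ι] (V : X.Opens) : Function.Injective (fn ι V) :=
  Groth.Agent.Lib.Helper45.app_injective_of_mono ι V


/-- the ideal of functions on the affine open `U` which, near `ξ`, come from `G`. -/
noncomputable def nearIdeal {U : X.Opens} (ξ : X) (hξU : ξ ∈ U) : Ideal Γ(X, U) where
  carrier := {a | ∃ h : Γ(X, U), ξ ∈ X.basicOpen h ∧ ∃ τ : Γ(G, X.basicOpen h),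
    fn ι (X.basicOpen h) τ = fres (X.basicOpen_le h) a}
  zero_mem' := by
    refine ⟨1, ?_, 0, ?_⟩
    · rw [Scheme.basicOpen_of_isUnit X isUnit_one]; exact hξU
    · rw [fn_zero, map_zero]
  add_mem' := by
    rintro a a' ⟨h, hξ, τ, hτ⟩ ⟨h', hξ', τ', hτ'⟩
    have e : X.basicOpen (h * h') = X.basicOpen h ⊓ X.basicOpen h' := X.basicOpen_mul h h'
    have le1 : X.basicOpen (h * h') ≤ X.basicOpen h := e ▸ inf_le_left
    have le2 : X.basicOpen (h * h') ≤ X.basicOpen h' := e ▸ inf_le_right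
    refine ⟨h * h', e ▸ ⟨hξ, hξ'⟩, mres G le1 τ + mres G le2 τ', ?_⟩
    rw [fn_add, fn_mres, fn_mres, hτ, hτ', fres_fres, fres_fres, map_add]
  smul_mem' := by
    rintro c a ⟨h, hξ, τ, hτ⟩
    refine ⟨h, hξ, fres (X.basicOpen_le h) c • τ, ?_⟩
    rw [fn_smul, hτ, smul_eq_mul, map_mul]


theorem mem_nearIdeal {U : X.Opens} (ξ : X) (hξU : ξ ∈ U) (a : Γ(X, U)) :
    a ∈ nearIdeal ι ξ hξU ↔ ∃ h : Γ(X, U), ξ ∈ X.basicOpen h ∧ ∃ τ : Γ(G, X.basicOpen h),
      fn ι (X.basicOpen h) τ = fres (X.basicOpen_le h) a := Iff.rfl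

/-- **Local step.** Near a point `ξ`, finitely many sections of `G` generate the stalks of `G` at
all specializations of `ξ`. -/
theorem local_step [IsNoetherian X] [Mono ι] (ξ : X) :
    ∃ (W : X.Opens) (L : List (Σ U : X.Opens, Γ(G, U))), ξ ∈ W ∧
      ∀ y ∈ W, ξ ⤳ y → germSpan G L y = ⊤ := by
  classical
  obtain ⟨U, hU, hξU, -⟩ := exists_isAffineOpen_mem_and_subset (x := ξ) (U := ⊤) trivial
  haveI : IsNoetherianRing Γ(X, U) := IsLocallyNoetherian.component_noetherian ⟨U, hU⟩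
  obtain ⟨S, hS⟩ := (isNoetherianRing_iff_ideal_fg Γ(X, U)).mp inferInstance (nearIdeal ι ξ hξU)
  have hmem : ∀ b : S, b.1 ∈ nearIdeal ι ξ hξU := fun b => hS ▸ Ideal.subset_span b.2
  choose h hξh τ hτ using hmem
  let W : X.Opens := U ⊓ ⨅ b : S, X.basicOpen (h b)
  have hWb : ∀ b : S, W ≤ X.basicOpen (h b) := fun b => inf_le_right.trans (iInf_le _ b)
  have hξW : ξ ∈ W := by
    refine ⟨hξU, ?_⟩
    have : ξ ∈ ((⨅ b : S, X.basicOpen (h b) : X.Opens) : Set X) := by
      rw [TopologicalSpace.Opens.coe_iInf]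
      exact Set.mem_iInter.mpr fun b => hξh b
    exact this
  let s : S → Γ(G, W) := fun b => mres G (hWb b) (τ b)
  refine ⟨W, (Finset.univ : Finset S).toList.map (fun b => ⟨W, s b⟩), hξW, ?_⟩
  intro y hyW hspec
  rw [eq_top_iff]
  intro σ _
  obtain ⟨V', hyV', τ', rfl⟩ := TopCat.Presheaf.exists_germ_eq G.presheaf σ
  have hyU : y ∈ U := hyW.1
  obtain ⟨g, hgle, hyg⟩ := hU.exists_basicOpen_le (V := V' ⊓ W) ⟨y, ⟨hyV', hyW⟩⟩ hyU
  have hVV' : X.basicOpen g ≤ V' := hgle.trans inf_le_left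
  have hVW : X.basicOpen g ≤ W := hgle.trans inf_le_right
  have hξV : ξ ∈ X.basicOpen g := hspec.mem_open (X.basicOpen g).isOpen hyg
  have hgerm : G.presheaf.germ (X.basicOpen g) y hyg (mres G hVV' τ') =
      G.presheaf.germ V' y hyV' τ' := germ_mres hVV' y hyg τ'
  haveI := hU.isLocalization_basicOpen g
  obtain ⟨⟨a, ⟨_, N, rfl⟩⟩, hz⟩ := IsLocalization.surj (Submonoid.powers g)
    (fn ι (X.basicOpen g) (mres G hVV' τ'))
  have hz' : fn ι (X.basicOpen g) (mres G hVV' τ') * fres (X.basicOpen_le g) (g ^ N) =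
      fres (X.basicOpen_le g) a := hz
  have ha : a ∈ nearIdeal ι ξ hξU := by
    refine ⟨g, hξV, fres (X.basicOpen_le g) (g ^ N) • mres G hVV' τ', ?_⟩
    rw [fn_smul, mul_comm]; exact hz'
  rw [← hS] at ha
  obtain ⟨c, hc⟩ := Submodule.mem_span_finset'.mp ha
  have hkey : fres (X.basicOpen_le g) (g ^ N) • mres G hVV' τ' =
      ∑ b : S, fres (X.basicOpen_le g) (c b) • mres G hVW (s b) := by
    apply fn_injective ι (X.basicOpen g)
    rw [fn_smul, fn_sum, mul_comm, hz', ← hc, map_sum]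
    refine Finset.sum_congr rfl fun b _ => ?_
    rw [fn_smul, fn_mres, fn_mres, hτ b, fres_fres, fres_fres, smul_eq_mul, map_mul]
  have hg := congrArg (G.presheaf.germ (X.basicOpen g) y hyg) hkey
  rw [Mero.germ_smul, map_sum, hgerm] at hg
  have hunit : IsUnit (X.presheaf.germ (X.basicOpen g) y hyg (fres (X.basicOpen_le g) (g ^ N))) := by
    rw [germ_fres, map_pow]
    exact ((X.mem_basicOpen g y hyU).mp hyg).pow N
  rw [← Submodule.smul_mem_iff_of_isUnit _ hunit, hg]
  refine Submodule.sum_mem _ fun b _ => ?_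
  rw [Mero.germ_smul, germ_mres]
  refine Submodule.smul_mem _ _ (Submodule.subset_span ?_)
  refine ⟨⟨W, s b⟩, ?_, hyW, rfl⟩
  exact List.mem_map.mpr ⟨b, Finset.mem_toList.mpr (Finset.mem_univ b), rfl⟩


theorem germSpan_append_left (L L' : List (Σ U : X.Opens, Γ(G, U))) (x : X) :
    germSpan G L x ≤ germSpan G (L ++ L') x :=
  germSpan_mono G (fun _ he => List.mem_append_left _ he) x

theorem germSpan_append_right (L L' : List (Σ U : X.Opens, Γ(G, U))) (x : X) :
    germSpan G L' x ≤ germSpan G (L ++ L') x :=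
  germSpan_mono G (fun _ he => List.mem_append_right _ he) x

/-- **Finitely many local sections generate all stalks** of a sub-`O_X`-module of `O_X` on a
Noetherian scheme. -/
theorem exists_list_germSpan_eq_top [IsNoetherian X] [Mono ι] :
    ∃ L : List (Σ U : X.Opens, Γ(G, U)), ∀ x : X, germSpan G L x = ⊤ := by
  haveI : NoetherianSpace X := inferInstance
  have key : ∀ Z : Closeds X, ∃ L : List (Σ U : X.Opens, Γ(G, U)),
      ∀ x ∈ (Z : Set X), germSpan G L x = ⊤ := by
    intro Z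
    induction Z using WellFoundedLT.induction with
    | _ Z ih =>
    by_cases hne : (Z : Set X).Nonempty
    swap
    · exact ⟨[], fun x hx => absurd ⟨x, hx⟩ hne⟩
    by_cases hirr : IsPreirreducible (Z : Set X)
    · -- irreducible: use the generic point
      have hZirr : IsIrreducible (Z : Set X) := ⟨hne, hirr⟩
      obtain ⟨ξ, hξ⟩ := QuasiSober.sober hZirr Z.isClosed
      obtain ⟨W, L, hξW, hL⟩ := local_step ι ξ
      have hξZ : ξ ∈ (Z : Set X) := hξ.mem
      let Z' : Closeds X := ⟨(Z : Set X) ∩ (W : Set X)ᶜ, Z.isClosed.inter W.isOpen.isClosed_compl⟩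
      have hlt : Z' < Z := by
        refine lt_of_le_of_ne (fun x hx => hx.1) ?_
        intro h
        have : ξ ∈ (Z' : Set X) := h ▸ hξZ
        exact this.2 hξW
      obtain ⟨L', hL'⟩ := ih Z' hlt
      refine ⟨L ++ L', fun y hy => ?_⟩
      by_cases hyW : y ∈ W
      · have hspec : ξ ⤳ y := by
          rw [specializes_iff_mem_closure, hξ.def]; exact hy
        exact top_le_iff.mp ((hL y hyW hspec).ge.trans (germSpan_append_left L L' y))
      · exact top_le_iff.mp ((hL' y ⟨hy, hyW⟩).ge.trans (germSpan_append_right L L' y))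
    · -- reducible: split
      rw [isPreirreducible_iff_isClosed_union_isClosed] at hirr
      push Not at hirr
      obtain ⟨z₁, z₂, hz₁, hz₂, hsub, hn₁, hn₂⟩ := hirr
      let Z₁ : Closeds X := ⟨(Z : Set X) ∩ z₁, Z.isClosed.inter hz₁⟩
      let Z₂ : Closeds X := ⟨(Z : Set X) ∩ z₂, Z.isClosed.inter hz₂⟩
      have hlt₁ : Z₁ < Z := by
        refine lt_of_le_of_ne (fun x hx => hx.1) ?_
        intro h
        exact hn₁ (fun x hx => ((h ▸ hx : x ∈ (Z₁ : Set X))).2)
      have hlt₂ : Z₂ < Z := by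
        refine lt_of_le_of_ne (fun x hx => hx.1) ?_
        intro h
        exact hn₂ (fun x hx => ((h ▸ hx : x ∈ (Z₂ : Set X))).2)
      obtain ⟨L₁, hL₁⟩ := ih Z₁ hlt₁
      obtain ⟨L₂, hL₂⟩ := ih Z₂ hlt₂
      refine ⟨L₁ ++ L₂, fun y hy => ?_⟩
      rcases hsub hy with h | h
      · exact top_le_iff.mp ((hL₁ y ⟨hy, h⟩).ge.trans (germSpan_append_left L₁ L₂ y))
      · exact top_le_iff.mp ((hL₂ y ⟨hy, h⟩).ge.trans (germSpan_append_right L₁ L₂ y))
  obtain ⟨L, hL⟩ := key ⊤
  exact ⟨L, fun x => hL x trivial⟩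

end Groth.Agent.Lib.Helper80.SubIdealGen
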