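import Mathlib
import Groth.Agent.Lib.Helper80.ModHartogsLocal
import Groth.Agent.Lib.Helper29.LocTransfer
import Groth.Agent.Lib.Helper29.ClosedAlong

/-!
# Dimension of the stalks of a coherent module with full support (helper80)
-/

set_option autoImplicit false
universe u

open AlgebraicGeometry CategoryTheory Opposite TopologicalSpace

namespace Groth.Agent.Lib.Helper80

open Groth.Agent.Lib.Helper45

attribute [local instance] stalkModuleSections

variable {X : Scheme.{u}}

/-- if all stalks of the coherent module `F` are non-zero, `dim F_x = dim O_{X,x}` -/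
theorem supportDim_stalk_eq_ringKrullDim [IsLocallyNoetherian X] (F : X.Modules)
    (hF : Coh.IsCoh F) (hsupp : ∀ x : X, Nontrivial (F.presheaf.stalk x)) (x : X) :
    Module.supportDim (X.presheaf.stalk x) (F.presheaf.stalk x) =
      ringKrullDim (X.presheaf.stalk x) := by
  obtain ⟨_, ⟨W, hW : IsAffineOpen W, rfl⟩, hxW, -⟩ :=
    X.isBasis_affineOpens.exists_subset_of_mem_open (Set.mem_univ x) isOpen_univ
  have hq : SheafOfModules.IsQuasicoherent.{u, u, u} F := hF.1
  have : IsNoetherianRing Γ(X, W) := IsLocallyNoetherian.component_noetherian ⟨W, hW⟩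
  have : Module.Finite Γ(X, W) Γ(F, W) := finite_sections_of_isCoh hW F hF
  obtain ⟨y, rfl⟩ : ∃ y : W, (y : X) = x := ⟨⟨x, hxW⟩, rfl⟩
  have hsuppA : Module.support Γ(X, W) Γ(F, W) = Set.univ := by
    rw [Set.eq_univ_iff_forall]
    intro q
    obtain ⟨z, rfl⟩ := exists_primeIdealOf_eq hW q
    rw [Module.mem_support_iff]
    have := isLocalizedModule_germₗ hW F z
    have hnt := hsupp (z : X)
    exact (IsLocalizedModule.iso (hW.primeIdealOf z).asIdeal.primeCompl
      (germₗ F z)).surjective.nontrivial
  have l1 := hW.isLocalization_stalk y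
  have l2 := isLocalizedModule_germₗ hW F y
  rw [(Groth.Agent.Lib.Helper29.depth_and_supportDim_eq_of_isLocalizedModule
    (hW.primeIdealOf y).asIdeal (X.presheaf.stalk (y : X)) (germₗ F y)).2,
    IsLocalization.AtPrime.ringKrullDim_eq_height (hW.primeIdealOf y).asIdeal
      (X.presheaf.stalk (y : X)),
    Module.supportDim, Groth.Agent.Lib.Helper29.support_localizedModule_atPrime_eq_univ _ _ hsuppA
      (hW.primeIdealOf y).asIdeal,
    ← IsLocalization.AtPrime.ringKrullDim_eq_height (hW.primeIdealOf y).asIdeal
      (Localization.AtPrime (hW.primeIdealOf y).asIdeal)]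
  exact Order.krullDim_eq_of_orderIso OrderIso.Set.univ

end Groth.Agent.Lib.Helper80
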