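import Mathlib
import Groth.Agent.Lib.Helper49.ZClosure3
import Groth.Agent.Lib.Helper80.DepthNhd

/-!
# Z-purity and Z-closedness at a point in terms of depth (helper80)
-/

set_option autoImplicit false
universe u

open AlgebraicGeometry CategoryTheory CategoryTheory.Limits Opposite TopologicalSpace

namespace Groth.Agent.Lib.Helper80.ZClosPoint

open ZClos Groth.Agent.Lib.Helper45 Groth.Agent.Lib.Helper49 Groth.Agent.Lib.Helper49.ZClosure
  Groth.Agent.Lib.Helper80

variable {X : Scheme.{u}} (Z : Set X) (F : X.Modules)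

/-- compatibility of `F ⟶ j_*(F|_{X∖T})` with restriction of sections -/
theorem toDiagram_res (T : Cl Z) {V V' : X.Opens} (h : V' ≤ V) (s : Γ(F, V)) :
    (((diagram Z).obj F).obj T).presheaf.map (homOfLE h).op ((toDiagram Z F T).app V s) =
      (toDiagram Z F T).app V' (F.presheaf.map (homOfLE h).op s) :=
  (ConcreteCategory.congr_hom ((toDiagram Z F T).mapPresheaf.naturality (homOfLE h).op) s).symm

/-- if `Γ(V, F) → Γ(V ∩ (X∖T), F)` is injective for all small opens `V` around `x`, the stalk map of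
`F ⟶ j_*(F|_{X∖T})` at `x` is injective -/
theorem stalkMap_toDiagram_injective_of_local (T : Cl Z) (x : X) (W : X.Opens) (hxW : x ∈ W)
    (h : ∀ V : X.Opens, V ≤ W → Function.Injective (ρ F (inf_le_left : V ⊓ T.U ≤ V))) :
    Function.Injective (stalkMap (toDiagram Z F T) x).hom := by
  rw [injective_iff_map_eq_zero]
  intro a ha
  obtain ⟨V, hxV, s, rfl⟩ := TopCat.Presheaf.exists_germ_eq _ a
  rw [stalkMap_germ] at ha
  have h0 : (((diagram Z).obj F).obj T).presheaf.germ V x hxV ((toDiagram Z F T).app V s) =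
      (((diagram Z).obj F).obj T).presheaf.germ V x hxV 0 := by rw [ha, map_zero]
  obtain ⟨V', hxV', iU, iV, e⟩ := TopCat.Presheaf.germ_eq _ x hxV hxV _ _ h0
  rw [map_zero] at e
  have hV'V : V' ≤ V := iU.le
  have hV'' : V' ⊓ W ≤ V := inf_le_left.trans hV'V
  -- restrict further to `V' ⊓ W`
  have e' : (toDiagram Z F T).app (V' ⊓ W) (F.presheaf.map (homOfLE hV'').op s) = 0 := by
    rw [← toDiagram_res Z F T hV'' s]
    have h1 : (homOfLE hV'' : V' ⊓ W ⟶ V) = homOfLE (inf_le_left : V' ⊓ W ≤ V') ≫ iU :=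
      Subsingleton.elim _ _
    rw [h1, op_comp, Functor.map_comp, ConcreteCategory.comp_apply, e, map_zero]
  have hinj := h (V' ⊓ W) inf_le_right
  have hinj' : Function.Injective
      (F.presheaf.map (homOfLE (T.U.ι.image_preimage_le (V' ⊓ W))).op) :=
    (map_injective_iff_of_eq F inf_le_left (T.U.ι.image_preimage_le (V' ⊓ W))
      (inf_U_eq Z T (V' ⊓ W))).mp hinj
  have hs0 : F.presheaf.map (homOfLE hV'').op s = 0 := by
    apply hinj'
    rw [map_zero]
    exact e'
  rw [← TopCat.Presheaf.germ_res_apply F.presheaf (homOfLE hV'') x ⟨hxV', hxW⟩ s, hs0, map_zero]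

/-- if `Γ(V, F) → Γ(V ∩ (X∖T), F)` is bijective for all small opens `V` around `x`, the stalk map of
`F ⟶ j_*(F|_{X∖T})` at `x` is bijective -/
theorem stalkMap_toDiagram_bijective_of_local (T : Cl Z) (x : X) (W : X.Opens) (hxW : x ∈ W)
    (h : ∀ V : X.Opens, V ≤ W → Function.Bijective (ρ F (inf_le_left : V ⊓ T.U ≤ V))) :
    Function.Bijective (stalkMap (toDiagram Z F T) x).hom := by
  refine ⟨stalkMap_toDiagram_injective_of_local Z F T x W hxW (fun V hV => (h V hV).1), fun c => ?_⟩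
  obtain ⟨V, hxV, t, rfl⟩ := TopCat.Presheaf.exists_germ_eq _ c
  have hVW : V ⊓ W ≤ V := inf_le_left
  have hbij := h (V ⊓ W) inf_le_right
  have hbij' : Function.Bijective
      (F.presheaf.map (homOfLE (T.U.ι.image_preimage_le (V ⊓ W))).op) :=
    (map_bijective_iff_of_eq F inf_le_left (T.U.ι.image_preimage_le (V ⊓ W))
      (inf_U_eq Z T (V ⊓ W))).mp hbij
  obtain ⟨s, hs⟩ := hbij'.2 ((((diagram Z).obj F).obj T).presheaf.map (homOfLE hVW).op t)
  have hs' : (toDiagram Z F T).app (V ⊓ W) s =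
      (((diagram Z).obj F).obj T).presheaf.map (homOfLE hVW).op t := hs
  refine ⟨F.presheaf.germ (V ⊓ W) x ⟨hxV, hxW⟩ s, ?_⟩
  rw [stalkMap_germ, hs', TopCat.Presheaf.germ_res_apply]

/-- `ρ_x` is injective as soon as all `F_x → j_*(F|_{X∖T})_x` are -/
theorem rhoStalk_injective_of_forall (x : X)
    (h : ∀ T : Cl Z, Function.Injective (stalkMap (toDiagram Z F T) x).hom) :
    IsZPureAt Z F x := by
  change Function.Injective (stalkMap (rhoApp Z F) x).hom
  rw [injective_iff_map_eq_zero]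
  intro a ha
  obtain ⟨T, hT⟩ := exists_toDiagram_eq_zero Z F x a ha
  exact (injective_iff_map_eq_zero _).mp (h T) a hT

/-- `ρ_x` is bijective as soon as all `F_x → j_*(F|_{X∖T})_x` are -/
theorem rhoStalk_bijective_of_forall (x : X)
    (h : ∀ T : Cl Z, Function.Bijective (stalkMap (toDiagram Z F T) x).hom) :
    IsZClosedAt Z F x := by
  refine ⟨rhoStalk_injective_of_forall Z F x (fun T => (h T).1), fun b => ?_⟩
  obtain ⟨T, c, rfl⟩ := exists_rep Z F x b
  obtain ⟨a, rfl⟩ := (h T).2 c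
  refine ⟨a, ?_⟩
  change (stalkMap (rhoApp Z F) x).hom a = _
  rw [rhoApp_eq' Z F T, stalkMap_comp_apply]

theorem mem_of_not_mem_U {T : Cl Z} {y : X} (hy : y ∉ T.U) : y ∈ Z := by
  apply T.2
  by_contra hcon
  exact hy hcon

/-- depth `≥ 1` at the generizations of `x` in `Z` implies `Z`-purity at `x` -/
theorem isZPureAt_of_depth [IsLocallyNoetherian X] (hF : Coh.IsCoh F) (x : X)
    (h : ∀ x' : X, x' ⤳ x → x' ∈ Z →
      (1 : ℕ∞) ≤ LocCoh.depth (X.presheaf.stalk x') (F.presheaf.stalk x')) :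
    IsZPureAt Z F x := by
  refine rhoStalk_injective_of_forall Z F x fun T => ?_
  obtain ⟨V₀, hxV₀, hV₀⟩ := exists_nhd_one_le_depth F hF T.U x
    (fun y hyU hyx => h y hyx (mem_of_not_mem_U Z hyU))
  exact stalkMap_toDiagram_injective_of_local Z F T x V₀ hxV₀
    (fun V hV => mod_res_injective_of_depth_on F hF T.U V₀ hV₀ V hV)

/-- depth `≥ 2` at the generizations of `x` in `Z` implies `Z`-closedness at `x` -/
theorem isZClosedAt_of_depth [IsLocallyNoetherian X] (hF : Coh.IsCoh F) (x : X)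
    (h : ∀ x' : X, x' ⤳ x → x' ∈ Z →
      (2 : ℕ∞) ≤ LocCoh.depth (X.presheaf.stalk x') (F.presheaf.stalk x')) :
    IsZClosedAt Z F x := by
  refine rhoStalk_bijective_of_forall Z F x fun T => ?_
  obtain ⟨V₀, hxV₀, hV₀⟩ := exists_nhd_two_le_depth F hF T.U x
    (fun y hyU hyx => h y hyx (mem_of_not_mem_U Z hyU))
  exact stalkMap_toDiagram_bijective_of_local Z F T x V₀ hxV₀
    (fun V hV => mod_res_bijective_of_depth_on F hF T.U V₀ hV₀ V hV)

end Groth.Agent.Lib.Helper80.ZClosPoint
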