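import Mathlib
import Groth.Agent.Lib.Helper80.ZClosPoint
import Groth.Agent.Lib.Helper80.StalkGeneric
import Groth.Agent.Lib.Helper49.ZClosure9

/-!
# Z-purity at a point implies depth `≥ 1` at its generizations in `Z` (helper80)
-/

set_option autoImplicit false
universe u

open AlgebraicGeometry CategoryTheory CategoryTheory.Limits Opposite TopologicalSpace

namespace Groth.Agent.Lib.Helper80.ZClosPoint

open ZClos Groth.Agent.Lib.Helper45 Groth.Agent.Lib.Helper49 Groth.Agent.Lib.Helper49.ZClosure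
  Groth.Agent.Lib.Helper80 Groth.Agent.Lib.Helper2

variable {X : Scheme.{u}} (Z : Set X) (F : X.Modules)

/-- the closure of a point of a specialization-stable set, as an index of the system -/
def clPt (hZ : StableUnderSpecialization Z) (x : X) (hx : x ∈ Z) : Cl Z :=
  ⟨⟨closure {x}, isClosed_closure⟩, fun _ hy => hZ (specializes_iff_mem_closure.mpr hy) hx⟩

theorem mem_clPt_U_iff (hZ : StableUnderSpecialization Z) (x : X) (hx : x ∈ Z) (y : X) :
    y ∈ (clPt Z hZ x hx).U ↔ ¬ x ⤳ y := by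
  rw [specializes_iff_mem_closure]
  rfl

theorem stalkMap_toDiagram_injective_of_isZPureAt (T : Cl Z) (x : X) (h : IsZPureAt Z F x) :
    Function.Injective (stalkMap (toDiagram Z F T) x).hom := by
  rw [injective_iff_map_eq_zero]
  intro a ha
  apply (injective_iff_map_eq_zero _).mp h
  change (stalkMap (rhoApp Z F) x).hom a = 0
  rw [rhoApp_eq' Z F T, stalkMap_comp_apply, ha, map_zero]

theorem map_eq_zero_iff_of_eq (F : X.Modules) {V W₁ W₂ : X.Opens} (h₁ : W₁ ≤ V) (h₂ : W₂ ≤ V)
    (e : W₁ = W₂) (s : Γ(F, V)) : F.presheaf.map (homOfLE h₁).op s = 0 ↔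
      F.presheaf.map (homOfLE h₂).op s = 0 := by
  subst e; rfl

attribute [local instance] stalkModuleSections

/-- the ideal of the complement of `(clPt x).U` in an affine open containing `x` is the prime of `x` -/
theorem clPt_hI (hZ : StableUnderSpecialization Z) {W : X.Opens} (hW : IsAffineOpen W) (x : W)
    (hx : (x : X) ∈ Z) (y : W) :
    (y : X) ∈ (clPt Z hZ (x : X) hx).U ↔
      ¬ (hW.primeIdealOf x).asIdeal ≤ (hW.primeIdealOf y).asIdeal := by
  rw [mem_clPt_U_iff, primeIdealOf_le_iff hW y x]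

/-- a section over an affine `W` killed by the prime of `x` vanishes on `W ∖ closure {x}` -/
theorem ρ_eq_zero_of_forall_smul [F.IsQuasicoherent] (hZ : StableUnderSpecialization Z)
    {W : X.Opens} (hW : IsAffineOpen W) (x : W) (hx : (x : X) ∈ Z) (m : Γ(F, W))
    (hm : ∀ c ∈ (hW.primeIdealOf x).asIdeal, c • m = 0) :
    ρ F (inf_le_left : W ⊓ (clPt Z hZ (x : X) hx).U ≤ W) m = 0 := by
  apply eq_zero_of_forall_basicOpen F hW (clPt Z hZ (x : X) hx).U (hW.primeIdealOf x).asIdeal
    (clPt_hI Z hZ hW x hx)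
  intro c hc
  rw [ρ_ρ]
  have h1 : res (X.basicOpen_le c) c • ρ F (X.basicOpen_le c) m = 0 := by
    rw [← ρ_smul, hm c hc, map_zero]
  exact smul_injective_of_isUnit F (isUnit_res_basicOpen c) h1

/-- injectivity of `F_x → j_*(F|_{X ∖ closure {x}})_x` forces `depth F_x ≥ 1` -/
theorem one_le_depth_of_stalkMap_toDiagram_injective [IsLocallyNoetherian X] (hF : Coh.IsCoh F)
    (hZ : StableUnderSpecialization Z) (x : X) (hx : x ∈ Z)
    (hinj : Function.Injective (stalkMap (toDiagram Z F (clPt Z hZ x hx)) x).hom) :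
    (1 : ℕ∞) ≤ LocCoh.depth (X.presheaf.stalk x) (F.presheaf.stalk x) := by
  obtain ⟨_, ⟨W, hW : IsAffineOpen W, rfl⟩, hxW, -⟩ :=
    X.isBasis_affineOpens.exists_subset_of_mem_open (Set.mem_univ x) isOpen_univ
  haveI hq : SheafOfModules.IsQuasicoherent.{u, u, u} F := hF.1
  haveI : IsNoetherianRing Γ(X, W) := IsLocallyNoetherian.component_noetherian ⟨W, hW⟩
  haveI : Module.Finite Γ(X, W) Γ(F, W) := finite_sections_of_isCoh hW F hF
  obtain ⟨y, rfl⟩ : ∃ y : W, (y : X) = x := ⟨⟨x, hxW⟩, rfl⟩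
  rw [depth_stalk_eq F hF hW y, one_le_dq_iff]
  intro hass
  obtain ⟨hprime, m, hm⟩ := isAssociatedPrime_iff.mp hass
  have hmem : ∀ c : Γ(X, W), c ∈ (hW.primeIdealOf y).asIdeal ↔ c • m = 0 := by
    intro c
    rw [hm, Submodule.mem_colon_singleton, Submodule.mem_bot]
  have h0 := ρ_eq_zero_of_forall_smul Z F hZ hW y hx m (fun c hc => (hmem c).mp hc)
  have h0' : (toDiagram Z F (clPt Z hZ (y : X) hx)).app W m = 0 :=
    (map_eq_zero_iff_of_eq F inf_le_left ((clPt Z hZ (y : X) hx).U.ι.image_preimage_le W)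
      (inf_U_eq Z (clPt Z hZ (y : X) hx) W) m).mp h0
  have hgerm : F.presheaf.germ W (y : X) y.2 m = 0 := by
    apply (injective_iff_map_eq_zero _).mp hinj
    rw [stalkMap_germ, h0', map_zero]
  have hloc := isLocalizedModule_germₗ hW F y
  obtain ⟨c, hc⟩ := (IsLocalizedModule.eq_zero_iff (hW.primeIdealOf y).asIdeal.primeCompl
    (germₗ F y)).mp hgerm
  exact c.2 ((hmem c).mpr hc)

/-- **Z-purity at `x` implies depth `≥ 1` at all generizations of `x` in `Z`.** -/
theorem one_le_depth_of_isZPureAt [IsLocallyNoetherian X] (hF : Coh.IsCoh F)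
    (hZ : StableUnderSpecialization Z) (x : X) (h : IsZPureAt Z F x) (x' : X) (hx' : x' ⤳ x)
    (hx'Z : x' ∈ Z) :
    (1 : ℕ∞) ≤ LocCoh.depth (X.presheaf.stalk x') (F.presheaf.stalk x') := by
  haveI hq : SheafOfModules.IsQuasicoherent.{u, u, u} F := hF.1
  haveI : ((H0 Z).obj F).IsQuasicoherent := isQuasicoherent_H0 Z F
  have h' : IsZPureAt Z F x' := stalkMap_injective_of_specializes (rhoApp Z F) hx' h
  exact one_le_depth_of_stalkMap_toDiagram_injective Z F hF hZ x' hx'Z
    (stalkMap_toDiagram_injective_of_isZPureAt Z F _ x' h')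

end Groth.Agent.Lib.Helper80.ZClosPoint
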