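import Mathlib
import Groth.Agent.Lib.Helper80.ZClosPoint2
import Groth.Agent.Lib.Helper80.ModGlueDiv

/-!
# Z-closedness at a point implies depth `≥ 2` at its generizations in `Z` (helper80)
-/

set_option autoImplicit false
universe u

open AlgebraicGeometry CategoryTheory CategoryTheory.Limits Opposite TopologicalSpace

namespace Groth.Agent.Lib.Helper80.ZClosPoint

open ZClos Groth.Agent.Lib.Helper45 Groth.Agent.Lib.Helper49 Groth.Agent.Lib.Helper49.ZClosure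
  Groth.Agent.Lib.Helper80 Groth.Agent.Lib.Helper2

variable {X : Scheme.{u}} (Z : Set X) (F : X.Modules)

theorem map_eq_ρ {V V' : X.Opens} (i : V' ⟶ V) (s : Γ(F, V)) :
    F.presheaf.map i.op s = ρ F i.le s := rfl

attribute [local instance] stalkModuleSections

/-- bijectivity of `F_x → j_*(F|_{X ∖ closure {x}})_x` forces `depth F_x ≥ 2` -/
theorem two_le_depth_of_stalkMap_toDiagram_bijective [IsLocallyNoetherian X] (hF : Coh.IsCoh F)
    (hZ : StableUnderSpecialization Z) (x : X) (hx : x ∈ Z)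
    (hbij : Function.Bijective (stalkMap (toDiagram Z F (clPt Z hZ x hx)) x).hom) :
    (2 : ℕ∞) ≤ LocCoh.depth (X.presheaf.stalk x) (F.presheaf.stalk x) := by
  have h1' := one_le_depth_of_stalkMap_toDiagram_injective Z F hF hZ x hx hbij.1
  obtain ⟨_, ⟨W, hW : IsAffineOpen W, rfl⟩, hxW, -⟩ :=
    X.isBasis_affineOpens.exists_subset_of_mem_open (Set.mem_univ x) isOpen_univ
  haveI hq : SheafOfModules.IsQuasicoherent.{u, u, u} F := hF.1
  haveI : IsNoetherianRing Γ(X, W) := IsLocallyNoetherian.component_noetherian ⟨W, hW⟩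
  haveI : Module.Finite Γ(X, W) Γ(F, W) := finite_sections_of_isCoh hW F hF
  obtain ⟨y, rfl⟩ : ∃ y : W, (y : X) = x := ⟨⟨x, hxW⟩, rfl⟩
  rw [depth_stalk_eq F hF hW y] at h1' ⊢
  by_contra h2
  obtain ⟨a, hap, hreg⟩ := exists_mem_isSMulRegular_of_one_le_dq Γ(F, W) _ h1'
  obtain ⟨e, he1, he2⟩ := exists_socle_mod Γ(F, W) _ a hap hreg h2
  obtain ⟨g, hgp, hg⟩ := exists_kills_torsion Γ(F, W) _ a hreg
  obtain ⟨T, hT⟩ : ∃ T : Cl Z, T = clPt Z hZ (y : X) hx := ⟨_, rfl⟩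
  rw [← hT] at hbij
  have hI : ∀ y' : W, (y' : X) ∈ T.U ↔
      ¬ (hW.primeIdealOf y).asIdeal ≤ (hW.primeIdealOf y').asIdeal := by
    rw [hT]; exact clPt_hI Z hZ hW y hx
  obtain ⟨t, ht⟩ := exists_div_section F hW T.U _ hI a g hg e he1
  -- the germ of `t` in the stalk of `j_*(F|_{X∖T})`
  have hWU : T.U.ι ''ᵁ T.U.ι ⁻¹ᵁ W ≤ W ⊓ T.U := (inf_U_eq Z T W).symm.le
  obtain ⟨α, hα⟩ := hbij.2 ((((diagram Z).obj F).obj T).presheaf.germ W (y : X) y.2 (ρ F hWU t))
  obtain ⟨V, hyV, s, rfl⟩ := TopCat.Presheaf.exists_germ_eq _ α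
  rw [stalkMap_germ] at hα
  obtain ⟨V', hyV', iV, iW, e'⟩ := TopCat.Presheaf.germ_eq _ (y : X) hyV y.2 _ _ hα
  have hV'V : V' ≤ V := iV.le
  have hV'W : V' ≤ W := iW.le
  have hP : T.U.ι ''ᵁ T.U.ι ⁻¹ᵁ V' ≤ V' := T.U.ι.image_preimage_le V'
  have hPW : T.U.ι ''ᵁ T.U.ι ⁻¹ᵁ V' ≤ W ⊓ T.U :=
    (inf_U_eq Z T V').symm.le.trans (inf_le_inf_right _ hV'W)
  -- `s` and `t` agree over `V' ∩ (X ∖ T)`
  have e'' : ρ F (hP.trans hV'V) s = ρ F hPW t := by
    have h3 : (((diagram Z).obj F).obj T).presheaf.map iV.op ((toDiagram Z F T).app V s) =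
        ρ F (hP.trans hV'V) s := by
      have : iV = homOfLE hV'V := Subsingleton.elim _ _
      rw [this, toDiagram_res Z F T hV'V s]
      exact ρ_ρ F hV'V hP s
    have h4 : (((diagram Z).obj F).obj T).presheaf.map iW.op (ρ F hWU t) = ρ F hPW t := by
      exact ρ_ρ F hWU _ t
    rw [← h3, ← h4]
    exact e'
  -- the section `a • s - g • e` over `V'` dies over `V' ∩ (X ∖ T)`, hence its germ vanishes
  let z : Γ(F, V') := res hV'W a • ρ F hV'V s - ρ F hV'W (g • e)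
  have hz0 : (toDiagram Z F T).app V' z = 0 := by
    change ρ F hP z = 0
    change ρ F hP (res hV'W a • ρ F hV'V s - ρ F hV'W (g • e)) = 0
    rw [map_sub, ρ_smul, ρ_ρ, ρ_ρ, Helper2.res_res, e'']
    have h5 : ρ F (hP.trans hV'W) (g • e) =
        ρ F hPW (ρ F (inf_le_left : W ⊓ T.U ≤ W) (g • e)) := (ρ_ρ F _ _ _).symm
    have h6 : res (hP.trans hV'W) a = res hPW (res (inf_le_left : W ⊓ T.U ≤ W) a) :=
      (Helper2.res_res _ _ _).symm
    rw [h5, ← ht, h6, ← ρ_smul, sub_self]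
  have hgz : F.presheaf.germ V' (y : X) hyV' z = 0 := by
    apply (injective_iff_map_eq_zero _).mp hbij.1
    rw [stalkMap_germ, hz0, map_zero]
  -- translate to the stalk as a module over `Γ(X, W)`
  have hgz' : a • F.presheaf.germ V (y : X) hyV s = germₗ F y (g • e) := by
    have h7 : F.presheaf.germ V' (y : X) hyV' z =
        X.presheaf.germ V' (y : X) hyV' (res hV'W a) • F.presheaf.germ V' (y : X) hyV' (ρ F hV'V s) -
          F.presheaf.germ V' (y : X) hyV' (ρ F hV'W (g • e)) := by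
      change F.presheaf.germ V' (y : X) hyV' (res hV'W a • ρ F hV'V s - ρ F hV'W (g • e)) = _
      rw [map_sub, germ_smul]
    rw [h7, sub_eq_zero] at hgz
    have h8 : X.presheaf.germ V' (y : X) hyV' (res hV'W a) = X.presheaf.germ W (y : X) y.2 a :=
      TopCat.Presheaf.germ_res_apply X.presheaf (homOfLE hV'W) (y : X) hyV' a
    have h9 : F.presheaf.germ V' (y : X) hyV' (ρ F hV'V s) = F.presheaf.germ V (y : X) hyV s :=
      TopCat.Presheaf.germ_res_apply F.presheaf (homOfLE hV'V) (y : X) hyV' s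
    have h10 : F.presheaf.germ V' (y : X) hyV' (ρ F hV'W (g • e)) =
        F.presheaf.germ W (y : X) y.2 (g • e) :=
      TopCat.Presheaf.germ_res_apply F.presheaf (homOfLE hV'W) (y : X) hyV' (g • e)
    rw [h8, h9, h10] at hgz
    exact hgz
  have hloc := isLocalizedModule_germₗ hW F y
  obtain ⟨⟨m, τ⟩, hmτ⟩ := IsLocalizedModule.surj (hW.primeIdealOf y).asIdeal.primeCompl
    (germₗ F y) (F.presheaf.germ V (y : X) hyV s)
  have h11 : germₗ F y ((τ : Γ(X, W)) • g • e) = germₗ F y (a • m) := by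
    rw [map_smul, ← hgz', map_smul, ← hmτ, smul_comm]
    rfl
  obtain ⟨τ', hτ'⟩ := (IsLocalizedModule.eq_iff_exists (hW.primeIdealOf y).asIdeal.primeCompl
    (germₗ F y)).mp h11
  apply he2 ((τ' : Γ(X, W)) * (τ : Γ(X, W)) * g)
    (fun hmem => ((hW.primeIdealOf y).asIdeal.primeCompl.mul_mem
      ((hW.primeIdealOf y).asIdeal.primeCompl.mul_mem τ'.2 τ.2) hgp) hmem) ((τ' : Γ(X, W)) • m)
  rw [mul_smul, mul_smul, smul_comm a]
  exact hτ'

end Groth.Agent.Lib.Helper80.ZClosPoint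

namespace Groth.Agent.Lib.Helper80.ZClosPoint

open ZClos Groth.Agent.Lib.Helper45 Groth.Agent.Lib.Helper49 Groth.Agent.Lib.Helper49.ZClosure
  Groth.Agent.Lib.Helper80 Groth.Agent.Lib.Helper2

variable {X : Scheme.{u}} (Z : Set X) (F : X.Modules)

/-- the transition maps of the system on sections, as restriction maps of `F` -/
theorem transition_app {T T' : Cl Z} (f : T ⟶ T') (V : X.Opens)
    (t : Γ(F, T.U.ι ''ᵁ T.U.ι ⁻¹ᵁ V)) :
    (((diagram Z).obj F).map f).app V t = ρ F (resPush_le (Cl.U_anti f.le) V) t := by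
  change (resPushMapApp (Cl.U_anti f.le) F).app V t = _
  rw [resPushMapApp_app]
  rfl

/-- restriction maps of `j_*(F|_{X∖T})`, as restriction maps of `F` -/
theorem diagram_res (T : Cl Z) {V V' : X.Opens} (h : V' ≤ V)
    (t : Γ(F, T.U.ι ''ᵁ T.U.ι ⁻¹ᵁ V)) :
    (((diagram Z).obj F).obj T).presheaf.map (homOfLE h).op t =
      ρ F (show T.U.ι ''ᵁ T.U.ι ⁻¹ᵁ V' ≤ T.U.ι ''ᵁ T.U.ι ⁻¹ᵁ V by
        rw [ι_image_preimage, ι_image_preimage]; exact inf_le_inf_left _ h) t := rfl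

/-- at a point where `F` is `Z`-pure, the transition maps of the system defining `H⁰_{X/Z}(F)` are
injective on stalks -/
theorem stalkMap_transition_injective [IsLocallyNoetherian X] (hF : Coh.IsCoh F)
    (hZ : StableUnderSpecialization Z) (x : X) (hpure : IsZPureAt Z F x) {T T' : Cl Z}
    (f : T ⟶ T') : Function.Injective (stalkMap (((diagram Z).obj F).map f) x).hom := by
  rw [injective_iff_map_eq_zero]
  intro d hd
  obtain ⟨V, hxV, t, rfl⟩ := TopCat.Presheaf.exists_germ_eq _ d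
  rw [stalkMap_germ] at hd
  have h0 : (((diagram Z).obj F).obj T').presheaf.germ V x hxV
      ((((diagram Z).obj F).map f).app V t) =
      (((diagram Z).obj F).obj T').presheaf.germ V x hxV 0 := by rw [hd, map_zero]
  obtain ⟨V', hxV', iU, iV, e⟩ := TopCat.Presheaf.germ_eq _ x hxV hxV _ _ h0
  rw [map_zero] at e
  have hV'V : V' ≤ V := iU.le
  have hiU : iU = homOfLE hV'V := Subsingleton.elim _ _
  rw [hiU] at e
  -- `t` as a section of `F`
  obtain ⟨t', ht'⟩ : ∃ t' : Γ(F, T.U.ι ''ᵁ T.U.ι ⁻¹ᵁ V), t' = t := ⟨t, rfl⟩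
  -- a neighbourhood on which `F` has depth `≥ 1` along `T'`
  obtain ⟨V₀, hxV₀, hV₀⟩ := exists_nhd_one_le_depth F hF T'.U x
    (fun y hyU hyx => one_le_depth_of_isZPureAt Z F hF hZ x hpure y hyx (mem_of_not_mem_U Z hyU))
  have hTT' : T'.U ≤ T.U := Cl.U_anti f.le
  -- the opens involved
  have hO₀ : T.U.ι ''ᵁ T.U.ι ⁻¹ᵁ (V' ⊓ V₀) ≤ V₀ :=
    (T.U.ι.image_preimage_le (V' ⊓ V₀)).trans inf_le_right
  have hV'' : V' ⊓ V₀ ≤ V := inf_le_left.trans hV'V
  have hOV : T.U.ι ''ᵁ T.U.ι ⁻¹ᵁ (V' ⊓ V₀) ≤ T.U.ι ''ᵁ T.U.ι ⁻¹ᵁ V := by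
    rw [ι_image_preimage, ι_image_preimage]
    exact inf_le_inf_left _ hV''
  have hO' : T.U.ι ''ᵁ T.U.ι ⁻¹ᵁ (V' ⊓ V₀) ⊓ T'.U ≤ T'.U.ι ''ᵁ T'.U.ι ⁻¹ᵁ V' := by
    rw [ι_image_preimage, ι_image_preimage]
    exact le_inf inf_le_right (inf_le_left.trans (inf_le_right.trans inf_le_left))
  have hP'V : T'.U.ι ''ᵁ T'.U.ι ⁻¹ᵁ V' ≤ T.U.ι ''ᵁ T.U.ι ⁻¹ᵁ V := by
    rw [ι_image_preimage, ι_image_preimage]
    exact inf_le_inf hTT' hV'V
  have e1 : ρ F hP'V t' = 0 := by
    have h3 : (((diagram Z).obj F).obj T').presheaf.map (homOfLE hV'V).op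
        ((((diagram Z).obj F).map f).app V t) = ρ F hP'V t' := by
      rw [← ht', transition_app Z F f V t', diagram_res Z F T' hV'V]
      exact ρ_ρ F _ _ t'
    rw [← h3]
    exact e
  have hinj := mod_res_injective_of_depth_on F hF T'.U V₀ hV₀ _ hO₀
  have e2 : ρ F hOV t' = 0 := by
    apply hinj
    rw [map_zero, ρ_ρ]
    have h4 : ρ F ((inf_le_left : T.U.ι ''ᵁ T.U.ι ⁻¹ᵁ (V' ⊓ V₀) ⊓ T'.U ≤ _).trans hOV) t' =
        ρ F hO' (ρ F hP'V t') := (ρ_ρ F _ _ t').symm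
    rw [h4, e1, map_zero]
  rw [← TopCat.Presheaf.germ_res_apply (((diagram Z).obj F).obj T).presheaf (homOfLE hV'') x
    ⟨hxV', hxV₀⟩ t]
  have h5 : (((diagram Z).obj F).obj T).presheaf.map (homOfLE hV'').op t = ρ F hOV t' := by
    rw [← ht']
    exact diagram_res Z F T hV'' t'
  rw [h5, e2]
  exact map_zero _

/-- at a point `x ∈ Z` where `F` is `Z`-closed, `F_x → j_*(F|_{X∖T})_x` is bijective for all `T` -/
theorem stalkMap_toDiagram_bijective_of_isZClosedAt [IsLocallyNoetherian X] (hF : Coh.IsCoh F)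
    (hZ : StableUnderSpecialization Z) (x : X) (h : IsZClosedAt Z F x) (T : Cl Z) :
    Function.Bijective (stalkMap (toDiagram Z F T) x).hom := by
  have hpure : IsZPureAt Z F x := h.1
  refine ⟨stalkMap_toDiagram_injective_of_isZPureAt Z F T x hpure, fun c => ?_⟩
  obtain ⟨a, ha⟩ := h.2 ((stalkMap (inj Z F T) x).hom c)
  have ha' : (stalkMap (inj Z F T) x).hom ((stalkMap (toDiagram Z F T) x).hom a) =
      (stalkMap (inj Z F T) x).hom c := by
    rw [← stalkMap_comp_apply, ← rhoApp_eq' Z F T]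
    exact ha
  have hd : (stalkMap (inj Z F T) x).hom ((stalkMap (toDiagram Z F T) x).hom a - c) = 0 := by
    rw [map_sub, ha', sub_self]
  obtain ⟨T', f, hf⟩ := exists_map_eq_zero Z F x T _ hd
  have := (injective_iff_map_eq_zero _).mp
    (stalkMap_transition_injective Z F hF hZ x hpure f) _ hf
  exact ⟨a, sub_eq_zero.mp this⟩

/-- **Z-closedness at `x` implies depth `≥ 2` at all generizations of `x` in `Z`.** -/
theorem two_le_depth_of_isZClosedAt [IsLocallyNoetherian X] (hF : Coh.IsCoh F)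
    (hZ : StableUnderSpecialization Z) (x : X) (h : IsZClosedAt Z F x) (x' : X) (hx' : x' ⤳ x)
    (hx'Z : x' ∈ Z) :
    (2 : ℕ∞) ≤ LocCoh.depth (X.presheaf.stalk x') (F.presheaf.stalk x') := by
  have hq : SheafOfModules.IsQuasicoherent.{u, u, u} F := hF.1
  have : ((H0 Z).obj F).IsQuasicoherent := isQuasicoherent_H0 Z F
  have h' : IsZClosedAt Z F x' :=
    ⟨stalkMap_injective_of_specializes (rhoApp Z F) hx' h.1,
      stalkMap_surjective_of_specializes (rhoApp Z F) hx' h.2⟩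
  exact two_le_depth_of_stalkMap_toDiagram_bijective Z F hF hZ x' hx'Z
    (stalkMap_toDiagram_bijective_of_isZClosedAt Z F hF hZ x' h' _)

end Groth.Agent.Lib.Helper80.ZClosPoint
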