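import Mathlib
import Groth.Agent.Lib.Helper80.ZClosPoint3
import Groth.Agent.Lib.Helper80.StalkBijOpen
import Groth.Agent.Lib.Helper49.ZClosure10

/-!
# The open locus where a coherent module is `Z`-closed (helper80)
-/

set_option autoImplicit false
universe u

open AlgebraicGeometry CategoryTheory Opposite TopologicalSpace

namespace Groth.Agent.Lib.Helper80.ZClosPoint

open ZClos Groth.Agent.Lib.Helper45 Groth.Agent.Lib.Helper49 Groth.Agent.Lib.Helper49.ZClosure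
  Groth.Agent.Lib.Helper80 Groth.Agent.Lib.Helper2

variable {X : Scheme.{u}} (Z : Set X) (F : X.Modules)

/-- if `depth F_x ≥ 2` at all points of `U ∩ Z`, then `F|_U` is `(Z ∩ U)`-closed -/
theorem isZClosed_restrict_of_depth [IsLocallyNoetherian X] (hF : Coh.IsCoh F) (U : X.Opens)
    (h : ∀ x : X, x ∈ U → x ∈ Z →
      (2 : ℕ∞) ≤ LocCoh.depth (X.presheaf.stalk x) (F.presheaf.stalk x)) :
    IsZClosed (U.ι.base ⁻¹' Z) ((Scheme.Modules.restrictFunctor U.ι).obj F) := by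
  rw [isZClosed_iff]
  intro T'
  rw [isIso_toDiagram_iff_forall]
  intro V'
  rw [restrict_res_bijective_iff U F V' T'.U (U.ι ''ᵁ T'.U) (image_inf_image U V' T'.U)]
  have hle : U.ι ''ᵁ V' ≤ U := by
    rintro _ ⟨y, -, rfl⟩
    exact y.2
  refine mod_res_bijective_of_depth_on F hF (U.ι ''ᵁ T'.U) U ?_ (U.ι ''ᵁ V') hle
  intro x hxU hxT
  refine h x hxU ?_
  by_contra hxZ
  apply hxT
  refine ⟨⟨x, hxU⟩, ?_, rfl⟩
  intro hmem
  exact hxZ (T'.2 hmem)

/-- if `F|_V` is `(Z ∩ V)`-closed, all restriction maps `Γ(V₁, F) → Γ(V₁ ∖ T, F)`, `V₁ ⊆ V`, `T ⊆ Z`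
closed, are bijective -/
theorem res_bijective_of_isZClosed_restrict (V : X.Opens)
    (h : IsZClosed (V.ι.base ⁻¹' Z) ((Scheme.Modules.restrictFunctor V.ι).obj F))
    (T : Cl Z) (V₁ : X.Opens) (hV₁ : V₁ ≤ V) :
    Function.Bijective (ρ F (inf_le_left : V₁ ⊓ T.U ≤ V₁)) := by
  have h1 := (isIso_toDiagram_iff_forall _ _ _).mp ((isZClosed_iff _ _).mp h (clPreimage V T))
    (V.ι ⁻¹ᵁ V₁)
  rw [restrict_res_bijective_iff V F (V.ι ⁻¹ᵁ V₁) (clPreimage V T).U T.U
    (image_inf_clPreimage_U V T _)] at h1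
  have he : V.ι ''ᵁ V.ι ⁻¹ᵁ V₁ = V₁ := by
    rw [ι_image_preimage]
    exact inf_eq_right.mpr hV₁
  exact (map_bijective_iff_of_eq' F (homOfLE inf_le_left) (homOfLE inf_le_left)
    (by rw [he]) he).mp h1

/-- if `F|_V` is `(Z ∩ V)`-closed then `depth F_x ≥ 2` at all points of `V ∩ Z` -/
theorem two_le_depth_of_isZClosed_restrict [IsLocallyNoetherian X] (hF : Coh.IsCoh F)
    (hZ : StableUnderSpecialization Z) (V : X.Opens)
    (h : IsZClosed (V.ι.base ⁻¹' Z) ((Scheme.Modules.restrictFunctor V.ι).obj F))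
    (x : X) (hxV : x ∈ V) (hxZ : x ∈ Z) :
    (2 : ℕ∞) ≤ LocCoh.depth (X.presheaf.stalk x) (F.presheaf.stalk x) := by
  refine two_le_depth_of_stalkMap_toDiagram_bijective Z F hF hZ x hxZ ?_
  exact stalkMap_toDiagram_bijective_of_local Z F _ x V hxV
    (fun V₁ hV₁ => res_bijective_of_isZClosed_restrict Z F V h _ V₁ hV₁)

/-- the locus where `F` is `Z`-closed is open when `H⁰_{X/Z}(F)` is coherent -/
theorem isOpen_setOf_isZClosedAt [IsLocallyNoetherian X] (hF : Coh.IsCoh F)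
    (hH : Coh.IsCoh ((H0 Z).obj F)) : IsOpen {x : X | IsZClosedAt Z F x} :=
  isOpen_setOf_stalkMap_bijective hF hH (rhoApp Z F)

end Groth.Agent.Lib.Helper80.ZClosPoint
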